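import Mathlib.CategoryTheory.Category.Basic
import Mathlib.CategoryTheory.Opposites
import Mathlib.Algebra.Category.Grp.Basic
import Mathlib.Algebra.BigOperators.Fin
import Mathlib.Algebra.Module.BigOperators
import Mathlib.CategoryTheory.Limits.Shapes.Pullback.HasPullback
import Mathlib.CategoryTheory.Limits.Shapes.Pullback.IsPullback.Basic
import Mathlib.Tactic.Ring

/-!
# Fibre powers of a morphism and the augmented Cech complex, elementwise

* `Model g`: a choice of the `n`-fold fibre powers `W n` of `g : V ⟶ U` (`W 0 = U`, `W 1 = V`, `W 2 = V ×_U V`, …).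
* `Model.d`: the alternating sum of the restrictions along the faces.
* `Model.Ex m P n`: exactness at `W (n + 1)` (so `n = 0` is the gluing condition and `n ≥ 1` the vanishing of Cech
  cohomology in degree `n`).
* `Model.ex_of_section`, `Model.ex_iff` (independence of the model), `Model.ofPullbacks`, `Model.map`.
-/

set_option autoImplicit false

universe w v u v' u'

open CategoryTheory Limits Opposite

namespace K570.CechM

/-- Restriction along a morphism. -/
def res {C : Type u} [Category.{v} C] (P : Cᵒᵖ ⥤ AddCommGrpCat.{w}) {X Y : C} (f : X ⟶ Y) :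
    P.obj (op Y) →+ P.obj (op X) := (P.map f.op).hom

section Res

variable {C : Type u} [Category.{v} C] (P : Cᵒᵖ ⥤ AddCommGrpCat.{w})

@[simp] theorem res_id (X : C) (x : P.obj (op X)) : res P (𝟙 X) x = x := by
  simp [res]

theorem res_res {X Y Z : C} (f : X ⟶ Y) (g : Y ⟶ Z) (x : P.obj (op Z)) :
    res P f (res P g x) = res P (f ≫ g) x := by
  simp [res]

theorem res_congr {X Y : C} {f g : X ⟶ Y} (h : f = g) (x : P.obj (op Y)) : res P f x = res P g x := by rw [h]

theorem res_iso_hom_inv {X Y : C} (e : X ≅ Y) (x : P.obj (op X)) : res P e.hom (res P e.inv x) = x := by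
  rw [res_res, Iso.hom_inv_id, res_id]

theorem res_iso_inv_hom {X Y : C} (e : X ≅ Y) (x : P.obj (op Y)) : res P e.inv (res P e.hom x) = x := by
  rw [res_res, Iso.inv_hom_id, res_id]

/-- Action of a morphism of presheaves. -/
def act {P Q : Cᵒᵖ ⥤ AddCommGrpCat.{w}} (φ : P ⟶ Q) (X : C) : P.obj (op X) →+ Q.obj (op X) := (φ.app (op X)).hom

theorem act_res {P Q : Cᵒᵖ ⥤ AddCommGrpCat.{w}} (φ : P ⟶ Q) {X Y : C} (f : X ⟶ Y) (x : P.obj (op Y)) :
    act φ X (res P f x) = res Q f (act φ Y x) :=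
  ConcreteCategory.congr_hom (φ.naturality f.op) x

end Res

/-- A choice of fibre powers of `g`. -/
structure Model {C : Type u} [Category.{v} C] {U V : C} (g : V ⟶ U) where
  /-- the fibre powers -/
  W : ℕ → C
  /-- structural map to the base -/
  b (n : ℕ) : W n ⟶ U
  /-- projections -/
  π (n : ℕ) (i : Fin n) : W n ⟶ V
  w (n : ℕ) (i : Fin n) : π n i ≫ g = b n
  /-- universal property -/
  lift (n : ℕ) {Z : C} (c : Z ⟶ U) (f : Fin n → (Z ⟶ V)) (hf : ∀ i, f i ≫ g = c) : Z ⟶ W n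
  lift_b (n : ℕ) {Z : C} (c : Z ⟶ U) (f : Fin n → (Z ⟶ V)) (hf : ∀ i, f i ≫ g = c) : lift n c f hf ≫ b n = c
  lift_π (n : ℕ) {Z : C} (c : Z ⟶ U) (f : Fin n → (Z ⟶ V)) (hf : ∀ i, f i ≫ g = c) (i : Fin n) :
    lift n c f hf ≫ π n i = f i
  hom_ext (n : ℕ) {Z : C} (a a' : Z ⟶ W n) (hb : a ≫ b n = a' ≫ b n) (h : ∀ i, a ≫ π n i = a' ≫ π n i) : a = a'

namespace Model

variable {C : Type u} [Category.{v} C] {U V : C} {g : V ⟶ U} (m : Model g)

/-- The faces. -/
def face (n : ℕ) (j : Fin (n + 1)) : m.W (n + 1) ⟶ m.W n :=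
  m.lift n (m.b (n + 1)) (fun k => m.π (n + 1) (j.succAbove k)) (fun _ => m.w _ _)

@[reassoc (attr := simp)]
theorem face_b (n : ℕ) (j : Fin (n + 1)) : m.face n j ≫ m.b n = m.b (n + 1) := m.lift_b _ _ _ _

@[reassoc (attr := simp)]
theorem face_π (n : ℕ) (j : Fin (n + 1)) (k : Fin n) : m.face n j ≫ m.π n k = m.π (n + 1) (j.succAbove k) :=
  m.lift_π _ _ _ _ _

variable (P : Cᵒᵖ ⥤ AddCommGrpCat.{w})

/-- The differential of the augmented Cech complex. -/
def d (n : ℕ) : P.obj (op (m.W n)) →+ P.obj (op (m.W (n + 1))) :=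
  ∑ j : Fin (n + 1), (-1 : ℤ) ^ (j : ℕ) • res P (m.face n j)

theorem d_apply (n : ℕ) (x : P.obj (op (m.W n))) :
    m.d P n x = ∑ j : Fin (n + 1), (-1 : ℤ) ^ (j : ℕ) • res P (m.face n j) x := by
  rw [d, AddMonoidHom.finsetSum_apply]
  rfl

theorem d_zero (x : P.obj (op (m.W 0))) : m.d P 0 x = res P (m.face 0 0) x := by
  rw [d_apply]
  change ∑ j : Fin 1, (-1 : ℤ) ^ (j : ℕ) • res P (m.face 0 j) x = _
  rw [Fin.sum_univ_one]
  simp

theorem d_one (x : P.obj (op (m.W 1))) : m.d P 1 x = res P (m.face 1 0) x - res P (m.face 1 1) x := by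
  rw [d_apply]
  change ∑ j : Fin 2, (-1 : ℤ) ^ (j : ℕ) • res P (m.face 1 j) x = _
  rw [Fin.sum_univ_two]
  simp [sub_eq_add_neg]

/-- The general simplicial identity for faces. -/
theorem face_face (n : ℕ) {Z : C} (i j : Fin (n + 1)) (h : i ≤ j) (a : Z ⟶ m.W (n + 2)) :
    a ≫ m.face (n + 1) j.succ ≫ m.face n i = a ≫ m.face (n + 1) i.castSucc ≫ m.face n j := by
  congr 1
  apply m.hom_ext
  · simp
  · intro k
    simp only [Category.assoc, face_π]
    congr 1
    -- `j.succ.succAbove (i.succAbove k) = i.castSucc.succAbove (j.succAbove k)`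
    ext
    simp only [Fin.succAbove, Fin.lt_def, Fin.val_castSucc, Fin.val_succ]
    rw [Fin.le_def] at h
    split_ifs <;> simp_all <;> omega

theorem act_d {P Q : Cᵒᵖ ⥤ AddCommGrpCat.{w}} (φ : P ⟶ Q) (n : ℕ) (x : P.obj (op (m.W n))) :
    act φ _ (m.d P n x) = m.d Q n (act φ _ x) := by
  rw [d_apply, d_apply, map_sum]
  refine Finset.sum_congr rfl fun j _ => ?_
  rw [map_zsmul, act_res]

/-- `d ∘ d = 0` -/
theorem d_d (n : ℕ) (x : P.obj (op (m.W n))) : m.d P (n + 1) (m.d P n x) = 0 := by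
  rw [d_apply, d_apply]
  simp only [map_sum, map_zsmul, res_res, Finset.smul_sum, smul_smul]
  let T : Fin (n + 2) → Fin (n + 1) → P.obj (op (m.W (n + 2))) := fun a b =>
    ((-1 : ℤ) ^ (a : ℕ) * (-1 : ℤ) ^ (b : ℕ)) • res P (m.face (n + 1) a ≫ m.face n b) x
  change ∑ a, ∑ b, T a b = 0
  have key : ∀ i j : Fin (n + 1), i ≤ j → T j.succ i = - T i.castSucc j := by
    intro i j hij
    change ((-1 : ℤ) ^ ((j.succ : Fin (n + 2)) : ℕ) * (-1 : ℤ) ^ (i : ℕ)) •
        res P (m.face (n + 1) j.succ ≫ m.face n i) x =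
      -(((-1 : ℤ) ^ ((i.castSucc : Fin (n + 2)) : ℕ) * (-1 : ℤ) ^ (j : ℕ)) •
        res P (m.face (n + 1) i.castSucc ≫ m.face n j) x)
    have h := m.face_face n i j hij (𝟙 _)
    rw [Category.id_comp, Category.id_comp] at h
    rw [h, ← neg_smul]
    congr 1
    simp only [Fin.val_succ, Fin.val_castSucc, pow_succ]
    ring
  rw [← Finset.sum_product']
  have : (Finset.univ ×ˢ Finset.univ : Finset (Fin (n + 2) × Fin (n + 1))) = Finset.univ := rfl
  rw [this]
  refine Finset.sum_involution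
    (fun p _ => if h : (p.1 : ℕ) ≤ (p.2 : ℕ) then (p.2.succ, ⟨p.1, by omega⟩) else
      (p.2.castSucc, p.1.pred (by rintro e; apply h; rw [e]; exact Nat.zero_le _))) ?_ ?_ ?_ ?_
  · rintro ⟨a, b⟩ -
    by_cases h : (a : ℕ) ≤ (b : ℕ)
    · simp only [h, dite_true]
      have := key ⟨a, by omega⟩ b h
      rw [this]
      have e : (Fin.castSucc (⟨a, by omega⟩ : Fin (n + 1))) = a := by ext; rfl
      rw [e, add_neg_cancel]
    · simp only [h, dite_false]
      have hb : a ≠ 0 := by rintro rfl; exact h (Nat.zero_le _)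
      have := key b (a.pred hb) (by rw [Fin.le_def, Fin.val_pred]; omega)
      rw [Fin.succ_pred] at this
      rw [this, neg_add_cancel]
  · rintro ⟨a, b⟩ - - e
    by_cases h : (a : ℕ) ≤ (b : ℕ)
    · simp only [h, dite_true, Prod.mk.injEq] at e
      have := congrArg Fin.val e.1
      simp at this
      omega
    · simp only [h, dite_false, Prod.mk.injEq] at e
      have := congrArg Fin.val e.1
      simp at this
      omega
  · intro _ _
    exact Finset.mem_univ _
  · rintro ⟨a, b⟩ -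
    by_cases h : (a : ℕ) ≤ (b : ℕ)
    · have h2 : ¬ ((b : ℕ) + 1 ≤ (a : ℕ)) := by omega
      simp only [h, dite_true, Fin.val_succ, h2, dite_false, Prod.mk.injEq]
      constructor
      · ext; rfl
      · ext; simp
    · have h2 : (b : ℕ) ≤ (a : ℕ) - 1 := by omega
      simp only [h, dite_false, Fin.val_castSucc, Fin.val_pred, h2, dite_true, Prod.mk.injEq]
      constructor
      · ext; simp
      · trivial

/-- Exactness of the augmented Cech complex at `W (n + 1)`. -/
def Ex (n : ℕ) : Prop := ∀ x : P.obj (op (m.W (n + 1))), m.d P (n + 1) x = 0 → ∃ y, m.d P n y = x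

/-- Contracting homotopy: if `h n : W n ⟶ W (n + 1)` is an extra degeneracy. -/
theorem ex_of_degen (h : ∀ n, m.W n ⟶ m.W (n + 1)) (h0 : ∀ n, h n ≫ m.face n 0 = 𝟙 _)
    (hs : ∀ n (j : Fin (n + 1)), h (n + 1) ≫ m.face (n + 1) j.succ = m.face n j ≫ h n) (n : ℕ) : m.Ex P n := by
  intro x hx
  refine ⟨res P (h n) x, ?_⟩
  have h1 := congrArg (res P (h (n + 1))) hx
  rw [d_apply, map_zero, map_sum, Fin.sum_univ_succ] at h1
  simp only [map_zsmul, res_res, h0, hs] at h1
  simp only [Fin.val_zero, pow_zero, one_smul, res_id, Fin.val_succ, pow_succ,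
    mul_neg, mul_one, neg_smul, Finset.sum_neg_distrib] at h1
  rw [d_apply]
  simp only [res_res]
  exact (add_neg_eq_zero.1 h1).symm

/-- Contracting homotopy after a functor. -/
theorem ex_of_degen_functor {D : Type u'} [Category.{v'} D] (T : C ⥤ D) (P : Dᵒᵖ ⥤ AddCommGrpCat.{w})
    (h : ∀ n, T.obj (m.W n) ⟶ T.obj (m.W (n + 1))) (h0 : ∀ n, h n ≫ T.map (m.face n 0) = 𝟙 _)
    (hs : ∀ n (j : Fin (n + 1)), h (n + 1) ≫ T.map (m.face (n + 1) j.succ) = T.map (m.face n j) ≫ h n) (n : ℕ) :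
    m.Ex (T.op ⋙ P) n := by
  intro x hx
  have hr : ∀ {X Y : C} (f : X ⟶ Y) (z : P.obj (op (T.obj Y))), res (T.op ⋙ P) f z = res P (T.map f) z :=
    fun f z => rfl
  refine ⟨res P (h n) x, ?_⟩
  have h1 := congrArg (res P (h (n + 1))) hx
  rw [d_apply, map_zero, map_sum, Fin.sum_univ_succ] at h1
  simp only [map_zsmul, hr, res_res, h0, hs] at h1
  simp only [Fin.val_zero, pow_zero, one_smul, res_id, Fin.val_succ, pow_succ,
    mul_neg, mul_one, neg_smul, Finset.sum_neg_distrib] at h1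
  rw [d_apply]
  simp only [hr, res_res]
  exact (add_neg_eq_zero.1 h1).symm

/-- The extra degeneracy attached to a section. -/
def degen (s : U ⟶ V) (hs : s ≫ g = 𝟙 U) (n : ℕ) : m.W n ⟶ m.W (n + 1) :=
  m.lift (n + 1) (m.b n) (Fin.cons (m.b n ≫ s) (fun i => m.π n i)) (by
    intro i
    refine Fin.cases ?_ (fun i => ?_) i
    · simp [hs]
    · simp [m.w])

theorem ex_of_section (s : U ⟶ V) (hs : s ≫ g = 𝟙 U) (n : ℕ) : m.Ex P n := by
  refine m.ex_of_degen P (m.degen s hs) ?_ ?_ n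
  · intro n
    apply m.hom_ext
    · simp [degen, m.lift_b]
    · intro i
      simp [degen, m.lift_π]
  · intro n j
    apply m.hom_ext
    · simp [degen, m.lift_b]
    · intro i
      refine Fin.cases ?_ (fun i => ?_) i
      · simp [degen, m.lift_π]
      · simp [degen, m.lift_π]

section Compare

variable {U' V' : C} {g' : V' ⟶ U'} (m' : Model g') (eU : U ⟶ U') (eV : V ⟶ V') (h : eV ≫ g' = g ≫ eU)

/-- Functoriality of fibre powers. -/
def mapW (n : ℕ) : m.W n ⟶ m'.W n :=
  m'.lift n (m.b n ≫ eU) (fun i => m.π n i ≫ eV) (by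
    intro i
    rw [Category.assoc, h, ← Category.assoc, m.w])

@[reassoc]
theorem mapW_b (n : ℕ) : m.mapW m' eU eV h n ≫ m'.b n = m.b n ≫ eU := m'.lift_b _ _ _ _

@[reassoc]
theorem mapW_π (n : ℕ) (i : Fin n) : m.mapW m' eU eV h n ≫ m'.π n i = m.π n i ≫ eV := m'.lift_π _ _ _ _ _

theorem mapW_face (n : ℕ) (j : Fin (n + 1)) :
    m.mapW m' eU eV h (n + 1) ≫ m'.face n j = m.face n j ≫ m.mapW m' eU eV h n := by
  apply m'.hom_ext
  · simp [mapW_b, mapW_b_assoc]
  · intro i
    simp [mapW_π, mapW_π_assoc]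

theorem d_mapW (n : ℕ) (x : P.obj (op (m'.W n))) :
    m.d P n (res P (m.mapW m' eU eV h n) x) = res P (m.mapW m' eU eV h (n + 1)) (m'.d P n x) := by
  rw [d_apply, d_apply, map_sum]
  refine Finset.sum_congr rfl fun j _ => ?_
  rw [map_zsmul, res_res, res_res, mapW_face]

end Compare

/-- Comparison of two models of isomorphic morphisms. -/
def isoW {U' V' : C} {g' : V' ⟶ U'} (m' : Model g') (eU : U ≅ U') (eV : V ≅ V')
    (h : eV.hom ≫ g' = g ≫ eU.hom) (n : ℕ) : m.W n ≅ m'.W n where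
  hom := m.mapW m' eU.hom eV.hom h n
  inv := m'.mapW m eU.inv eV.inv (by
    rw [← cancel_epi eV.hom, ← Category.assoc, Iso.hom_inv_id, Category.id_comp, ← Category.assoc, h, Category.assoc,
      Iso.hom_inv_id, Category.comp_id]) n
  hom_inv_id := by
    apply m.hom_ext
    · simp [mapW_b, mapW_b_assoc]
    · intro i
      simp [mapW_π, mapW_π_assoc]
  inv_hom_id := by
    apply m'.hom_ext
    · simp [mapW_b, mapW_b_assoc]
    · intro i
      simp [mapW_π, mapW_π_assoc]

/-- Exactness does not depend on the model, nor on the morphism up to isomorphism. -/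
theorem Ex.of_iso {m : Model g} {P : Cᵒᵖ ⥤ AddCommGrpCat.{w}} {n : ℕ} (hm : m.Ex P n)
    {U' V' : C} {g' : V' ⟶ U'} (m' : Model g') (eU : U ≅ U') (eV : V ≅ V')
    (h : eV.hom ≫ g' = g ≫ eU.hom) : m'.Ex P n := by
  intro x hx
  have h1 : m.d P (n + 1) (res P (m.mapW m' eU.hom eV.hom h (n + 1)) x) = 0 := by
    rw [d_mapW, hx, map_zero]
  obtain ⟨y, hy⟩ := hm _ h1
  have h' : eV.inv ≫ g = g' ≫ eU.inv := by
    rw [← cancel_epi eV.hom, ← Category.assoc, Iso.hom_inv_id, Category.id_comp, ← Category.assoc, h, Category.assoc,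
      Iso.hom_inv_id, Category.comp_id]
  refine ⟨res P (m'.mapW m eU.inv eV.inv h' n) y, ?_⟩
  rw [d_mapW, hy]
  exact res_iso_inv_hom P (m.isoW m' eU eV h (n + 1)) x

theorem ex_iff (m m' : Model g) (P : Cᵒᵖ ⥤ AddCommGrpCat.{w}) (n : ℕ) : m.Ex P n ↔ m'.Ex P n :=
  ⟨fun h => h.of_iso m' (Iso.refl _) (Iso.refl _) (by simp), fun h => h.of_iso m (Iso.refl _) (Iso.refl _) (by simp)⟩

/-- Isomorphic presheaves. -/
theorem Ex.of_presheaf_iso {m : Model g} {P Q : Cᵒᵖ ⥤ AddCommGrpCat.{w}} {n : ℕ} (hm : m.Ex P n) (e : P ≅ Q) :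
    m.Ex Q n := by
  have h1 : ∀ X (z : Q.obj (op X)), act e.hom X (act e.inv X z) = z := fun X z => by
    have := congrArg (fun t => (t.app (op X)).hom z) e.inv_hom_id
    exact this
  intro x hx
  obtain ⟨y, hy⟩ := hm (act e.inv _ x) (by rw [← act_d, hx, map_zero])
  refine ⟨act e.hom _ y, ?_⟩
  rw [← act_d, hy, h1]

section Functor

variable {D : Type u'} [Category.{v'} D] (G : D ⥤ C) {A B : D} {γ : B ⟶ A} (μ : Model γ)

/-- If a model of `G.map γ` has the images of the fibre powers of `γ` as its objects, then the two complexes agree. -/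
theorem ex_map_iff (m : Model (G.map γ)) (hW : ∀ n, IsIso (m.lift n (G.map (μ.b n)) (fun i => G.map (μ.π n i)) (by
    intro i; rw [← G.map_comp, μ.w]))) (n : ℕ) : m.Ex P n ↔ μ.Ex (G.op ⋙ P) n := by
  let e : ∀ n, G.obj (μ.W n) ⟶ m.W n := fun n =>
    m.lift n (G.map (μ.b n)) (fun i => G.map (μ.π n i)) (by intro i; rw [← G.map_comp, μ.w])
  have he : ∀ n, IsIso (e n) := hW
  have heb : ∀ n, e n ≫ m.b n = G.map (μ.b n) := fun n => m.lift_b _ _ _ _
  have heπ : ∀ n i, e n ≫ m.π n i = G.map (μ.π n i) := fun n i => m.lift_π _ _ _ _ _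
  have hface : ∀ n j, e (n + 1) ≫ m.face n j = G.map (μ.face n j) ≫ e n := by
    intro n j
    apply m.hom_ext
    · rw [Category.assoc, Category.assoc, m.face_b, heb, heb, ← G.map_comp, μ.face_b]
    · intro i
      rw [Category.assoc, Category.assoc, m.face_π, heπ, heπ, ← G.map_comp, μ.face_π]
  have hd : ∀ n (x : P.obj (op (m.W n))), μ.d (G.op ⋙ P) n (res P (e n) x) = res P (e (n + 1)) (m.d P n x) := by
    intro n x
    rw [d_apply, d_apply, map_sum]
    refine Finset.sum_congr rfl fun j _ => ?_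
    rw [map_zsmul, res_res, hface, ← res_res]
    rfl
  have hinj : ∀ n (x y : P.obj (op (m.W n))), res P (e n) x = res P (e n) y → x = y := by
    intro n x y hxy
    have := congrArg (res P (inv (e n))) hxy
    rwa [res_res, res_res, IsIso.inv_hom_id, res_id, res_id] at this
  have hsurj : ∀ n (y : P.obj (op (G.obj (μ.W n)))), ∃ x, res P (e n) x = y := fun n y =>
    ⟨res P (inv (e n)) y, by rw [res_res, IsIso.hom_inv_id, res_id]⟩
  constructor
  · intro h x hx
    obtain ⟨x, rfl⟩ := hsurj _ x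
    have hx' : res P (e (n + 1 + 1)) (m.d P (n + 1) x) = 0 := by
      rw [← hd]; exact hx
    rw [← map_zero (res P (e (n + 1 + 1)))] at hx'
    obtain ⟨y, hy⟩ := h x (hinj _ _ _ hx')
    refine ⟨res P (e n) y, ?_⟩
    rw [hd, hy]
  · intro h x hx
    have h1 : μ.d (G.op ⋙ P) (n + 1) (res P (e (n + 1)) x) = 0 := by
      rw [hd, hx, map_zero]
    obtain ⟨y, hy⟩ := h (res P (e (n + 1)) x) h1
    obtain ⟨y, rfl⟩ := hsurj _ y
    refine ⟨y, hinj _ _ _ ?_⟩
    rw [← hd]
    exact hy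

end Functor

end Model

section Pullbacks

variable {C : Type u} [Category.{v} C] {U V : C}

/-- Predicate version of a fibre power. -/
structure IsLevel (g : V ⟶ U) (n : ℕ) {W : C} (b : W ⟶ U) (π : Fin n → (W ⟶ V)) : Prop where
  w (i : Fin n) : π i ≫ g = b
  ex {Z : C} (c : Z ⟶ U) (f : Fin n → (Z ⟶ V)) (hf : ∀ i, f i ≫ g = c) : ∃ l : Z ⟶ W, l ≫ b = c ∧ ∀ i, l ≫ π i = f i
  hom_ext {Z : C} (a a' : Z ⟶ W) (hb : a ≫ b = a' ≫ b) (h : ∀ i, a ≫ π i = a' ≫ π i) : a = a'

theorem IsLevel.zero (g : V ⟶ U) {W : C} (b : W ⟶ U) [IsIso b] (π : Fin 0 → (W ⟶ V)) : IsLevel g 0 b π where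
  w i := i.elim0
  ex c _ _ := ⟨c ≫ inv b, by simp, fun i => i.elim0⟩
  hom_ext a a' hb _ := by
    rwa [cancel_mono] at hb

theorem IsLevel.succ {g : V ⟶ U} {n : ℕ} {W : C} {b : W ⟶ U} {π : Fin n → (W ⟶ V)} (L : IsLevel g n b π)
    {Q : C} {p : Q ⟶ V} {q : Q ⟶ W} (h : IsPullback p q g b) :
    IsLevel g (n + 1) (p ≫ g) (Fin.cons p (fun i => q ≫ π i)) where
  w i := by
    refine Fin.cases ?_ (fun i => ?_) i
    · rfl
    · rw [Fin.cons_succ, Category.assoc, L.w, h.w]
  ex {Z} c f hf := by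
    obtain ⟨l, hl, hl'⟩ := L.ex c (fun i => f i.succ) (fun i => hf _)
    refine ⟨h.lift (f 0) l (by rw [hf, hl]), ?_, ?_⟩
    · rw [h.lift_fst_assoc, hf]
    · intro i
      refine Fin.cases ?_ (fun i => ?_) i
      · rw [Fin.cons_zero, h.lift_fst]
      · rw [Fin.cons_succ, h.lift_snd_assoc, hl']
  hom_ext {Z} a a' hb hh := by
    have h0 := hh 0
    rw [Fin.cons_zero] at h0
    refine h.hom_ext h0 (L.hom_ext _ _ ?_ ?_)
    · rw [Category.assoc, Category.assoc, ← h.w, ← Category.assoc, ← Category.assoc, h0]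
    · intro i
      have := hh i.succ
      rw [Fin.cons_succ] at this
      rw [Category.assoc, Category.assoc]
      exact this

theorem IsLevel.congr {g : V ⟶ U} {n : ℕ} {W : C} {b b' : W ⟶ U} {π π' : Fin n → (W ⟶ V)} (L : IsLevel g n b π)
    (hb : b = b') (hπ : ∀ i, π i = π' i) : IsLevel g n b' π' := by
  obtain rfl := hb
  obtain rfl : π = π' := funext hπ
  exact L

/-- The comparison of a fibre power with a model is an isomorphism. -/
theorem IsLevel.isIso_lift {g : V ⟶ U} {n : ℕ} {W : C} {b : W ⟶ U} {π : Fin n → (W ⟶ V)} (L : IsLevel g n b π)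
    (m : Model g) (hf : ∀ i, π i ≫ g = b) : IsIso (m.lift n b π hf) := by
  obtain ⟨l, hl, hl'⟩ := L.ex (m.b n) (m.π n) (m.w n)
  refine ⟨l, ?_, ?_⟩
  · apply L.hom_ext
    · rw [Category.assoc, hl, Category.id_comp, m.lift_b]
    · intro i
      rw [Category.assoc, hl', Category.id_comp, m.lift_π]
  · apply m.hom_ext
    · rw [Category.assoc, m.lift_b, Category.id_comp, hl]
    · intro i
      rw [Category.assoc, m.lift_π, Category.id_comp, hl']

/-- The fibre powers of a model are fibre powers. -/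
theorem Model.isLevel {g : V ⟶ U} (m : Model g) (n : ℕ) : IsLevel g n (m.b n) (m.π n) where
  w i := m.w n i
  ex c f hf := ⟨m.lift n c f hf, m.lift_b _ _ _ _, m.lift_π _ _ _ _⟩
  hom_ext a a' hb h := m.hom_ext n a a' hb h

/-- One fibre power. -/
structure Level (g : V ⟶ U) (n : ℕ) where
  /-- the fibre power -/
  W : C
  /-- structural map to the base -/
  b : W ⟶ U
  /-- projections -/
  π (i : Fin n) : W ⟶ V
  w (i : Fin n) : π i ≫ g = b
  ex {Z : C} (c : Z ⟶ U) (f : Fin n → (Z ⟶ V)) (hf : ∀ i, f i ≫ g = c) : ∃ l : Z ⟶ W, l ≫ b = c ∧ ∀ i, l ≫ π i = f i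
  hom_ext {Z : C} (a a' : Z ⟶ W) (hb : a ≫ b = a' ≫ b) (h : ∀ i, a ≫ π i = a' ≫ π i) : a = a'

/-- The zeroth fibre power. -/
def Level.zero (g : V ⟶ U) : Level g 0 where
  W := U
  b := 𝟙 U
  π i := i.elim0
  w i := i.elim0
  ex c _ _ := ⟨c, Category.comp_id _, fun i => i.elim0⟩
  hom_ext a a' hb _ := by
    rwa [Category.comp_id, Category.comp_id] at hb

/-- The next fibre power, from a pullback square. -/
def Level.succ {g : V ⟶ U} {n : ℕ} (L : Level g n) {Q : C} {p : Q ⟶ V} {q : Q ⟶ L.W} (h : IsPullback p q g L.b) :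
    Level g (n + 1) where
  W := Q
  b := p ≫ g
  π := Fin.cons p (fun i => q ≫ L.π i)
  w i := by
    refine Fin.cases ?_ (fun i => ?_) i
    · rfl
    · rw [Fin.cons_succ, Category.assoc, L.w, h.w]
  ex {Z} c f hf := by
    obtain ⟨l, hl, hl'⟩ := L.ex c (fun i => f i.succ) (fun i => hf _)
    refine ⟨h.lift (f 0) l (by rw [hf, hl]), ?_, ?_⟩
    · rw [h.lift_fst_assoc, hf]
    · intro i
      refine Fin.cases ?_ (fun i => ?_) i
      · rw [Fin.cons_zero, h.lift_fst]
      · rw [Fin.cons_succ, h.lift_snd_assoc, hl']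
  hom_ext {Z} a a' hb hh := by
    have h0 := hh 0
    rw [Fin.cons_zero] at h0
    refine h.hom_ext h0 (L.hom_ext _ _ ?_ ?_)
    · rw [Category.assoc, Category.assoc, ← h.w, ← Category.assoc, ← Category.assoc, h0]
    · intro i
      have := hh i.succ
      rw [Fin.cons_succ] at this
      rw [Category.assoc, Category.assoc]
      exact this

/-- A model from all its levels. -/
noncomputable def Model.ofLevels {g : V ⟶ U} (L : ∀ n, Level g n) : Model g where
  W n := (L n).W
  b n := (L n).b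
  π n i := (L n).π i
  w n i := (L n).w i
  lift n _ c f hf := ((L n).ex c f hf).choose
  lift_b n _ c f hf := ((L n).ex c f hf).choose_spec.1
  lift_π n _ c f hf i := ((L n).ex c f hf).choose_spec.2 i
  hom_ext n _ a a' hb h := (L n).hom_ext a a' hb h

/-- Levels from a choice of pullbacks. -/
noncomputable def levels [HasPullbacks C] (g : V ⟶ U) : ∀ n, Level g n
  | 0 => Level.zero g
  | (n + 1) => (levels g n).succ (IsPullback.of_hasPullback g (levels g n).b)

/-- The model given by iterated pullbacks. -/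
noncomputable def ofPullbacks [HasPullbacks C] (g : V ⟶ U) : Model g := Model.ofLevels (levels g)

/-- A property of objects which is stable under the relevant pullbacks holds for the fibre powers. -/
theorem Model.prop_W {g : V ⟶ U} [HasPullbacks C] (m : Model g) (T : C → Prop) (hT : ∀ {X Y : C} (_ : X ≅ Y), T X → T Y)
    (h0 : T U) (h1 : ∀ (Z : C) (c : Z ⟶ U), T Z → T (pullback g c)) (n : ℕ) : T (m.W n) := by
  have key : ∀ n, T ((ofPullbacks g).W n) := by
    intro n
    induction n with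
    | zero => exact h0
    | succ n ih => exact h1 _ _ ih
  exact hT ((ofPullbacks g).isoW m (Iso.refl _) (Iso.refl _) (by simp) n) (key n)

end Pullbacks

end K570.CechM
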