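import Groth.Agent.Adeq.K569.Basic
import Mathlib.CategoryTheory.ObjectProperty.FiniteProducts
import Mathlib.CategoryTheory.ObjectProperty.Kernels
import Mathlib.CategoryTheory.Preadditive.Biproducts
import Mathlib.CategoryTheory.Abelian.Basic

/-!
# Classes of module-valued functors closed under finite products and kernels: gluing
-/

set_option autoImplicit false
universe u

open CategoryTheory CategoryTheory.Limits Opposite

noncomputable section

namespace K570.Glue

open K569.Basic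

variable {R : Type u} [CommRing R]

instance : HasFiniteBiproducts (Adeq.MVF R) := Abelian.hasFiniteBiproducts

section Biprod

variable {ι : Type} [Fintype ι] (A : ι → Adeq.MVF R)

/-- apply -/
abbrev ap {F G : Adeq.MVF R} (f : F ⟶ G) (B : Adeq.Alg R) (x : F.obj (Adeq.pt B)) : G.obj (Adeq.pt B) :=
  f.app (Adeq.pt B) x

theorem ap_comp {F G H : Adeq.MVF R} (f : F ⟶ G) (g : G ⟶ H) (B : Adeq.Alg R) (x : F.obj (Adeq.pt B)) :
    ap (f ≫ g) B x = ap g B (ap f B x) := rfl

theorem ap_id {F : Adeq.MVF R} (B : Adeq.Alg R) (x : F.obj (Adeq.pt B)) : ap (𝟙 F) B x = x := rfl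

theorem ap_add {F G : Adeq.MVF R} (f : F ⟶ G) (B : Adeq.Alg R) (x y : F.obj (Adeq.pt B)) :
    ap f B (x + y) = ap f B x + ap f B y := map_add (f.app (Adeq.pt B)).hom x y

theorem ap_sub {F G : Adeq.MVF R} (f : F ⟶ G) (B : Adeq.Alg R) (x y : F.obj (Adeq.pt B)) :
    ap f B (x - y) = ap f B x - ap f B y := map_sub (f.app (Adeq.pt B)).hom x y

theorem ap_zero {F G : Adeq.MVF R} (f : F ⟶ G) (B : Adeq.Alg R) : ap f B 0 = 0 :=
  map_zero (f.app (Adeq.pt B)).hom

theorem ap_sum {F G : Adeq.MVF R} (f : F ⟶ G) (B : Adeq.Alg R) (x : ι → F.obj (Adeq.pt B)) :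
    ap f B (∑ i, x i) = ∑ i, ap f B (x i) := map_sum (f.app (Adeq.pt B)).hom x _

theorem sum_ap {F G : Adeq.MVF R} (f : ι → (F ⟶ G)) (B : Adeq.Alg R) (x : F.obj (Adeq.pt B)) :
    ap (∑ i, f i) B x = ∑ i, ap (f i) B x := by
  let h : (F ⟶ G) →+ G.obj (Adeq.pt B) :=
    { toFun := fun f => ap f B x
      map_zero' := rfl
      map_add' := fun f g => rfl }
  exact map_sum h f _

theorem sub_ap {F G : Adeq.MVF R} (f g : F ⟶ G) (B : Adeq.Alg R) (x : F.obj (Adeq.pt B)) :
    ap (f - g) B x = ap f B x - ap g B x := rfl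

theorem biprod_ext (B : Adeq.Alg R) {x y : (⨁ A).obj (Adeq.pt B)}
    (h : ∀ i, ap (biproduct.π A i) B x = ap (biproduct.π A i) B y) : x = y := by
  have key : ∀ z : (⨁ A).obj (Adeq.pt B), z = ∑ i, ap (biproduct.ι A i) B (ap (biproduct.π A i) B z) := by
    intro z
    have e := congrArg (fun t => ap t B z) (biproduct.total (f := A))
    change ap (∑ j, biproduct.π A j ≫ biproduct.ι A j) B z = z at e
    rw [sum_ap] at e
    exact e.symm
  rw [key x, key y]
  exact Finset.sum_congr rfl fun i _ => by rw [h i]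

theorem biprod_exists (B : Adeq.Alg R) (x : ∀ i, (A i).obj (Adeq.pt B)) :
    ∃ y : (⨁ A).obj (Adeq.pt B), ∀ i, ap (biproduct.π A i) B y = x i := by
  classical
  refine ⟨∑ i, ap (biproduct.ι A i) B (x i), fun i => ?_⟩
  rw [ap_sum, Finset.sum_eq_single i]
  · rw [← ap_comp, biproduct.ι_π_self]
    rfl
  · intro j _ hj
    rw [← ap_comp, biproduct.ι_π_ne _ hj]
    rfl
  · intro h
    exact absurd (Finset.mem_univ i) h

end Biprod

variable {𝒜 : ObjectProperty (Adeq.MVF R)}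

theorem prop_kernel [𝒜.IsClosedUnderKernels] {F G : Adeq.MVF R} (f : F ⟶ G) (hF : 𝒜 F) (hG : 𝒜 G) :
    𝒜 (kernel f) :=
  𝒜.prop_of_isLimit_kernelFork (limit.isLimit (parallelPair f 0)) hF hG

theorem prop_biproduct [𝒜.IsClosedUnderFiniteProducts] {ι : Type} [Finite ι] (A : ι → Adeq.MVF R)
    (hA : ∀ i, 𝒜 (A i)) : 𝒜 (⨁ A) :=
  𝒜.prop_of_isLimit_fan (biproduct.isLimit A) hA

/-- Gluing. -/
theorem prop_of_glue [𝒜.IsClosedUnderIsomorphisms] [𝒜.IsClosedUnderFiniteProducts] [𝒜.IsClosedUnderKernels]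
    {ι κ : Type} [Finite ι] [Finite κ] {F : Adeq.MVF R} (A : ι → Adeq.MVF R) (C : κ → Adeq.MVF R) (l r : κ → ι)
    (α : ∀ i, F ⟶ A i) (β : ∀ k, A (l k) ⟶ C k) (γ : ∀ k, A (r k) ⟶ C k)
    (w : ∀ k, α (l k) ≫ β k = α (r k) ≫ γ k)
    (inj : ∀ (B : Adeq.Alg R) (x : F.obj (Adeq.pt B)), (∀ i, ap (α i) B x = 0) → x = 0)
    (gl : ∀ (B : Adeq.Alg R) (x : ∀ i, (A i).obj (Adeq.pt B)), (∀ k, ap (β k) B (x (l k)) = ap (γ k) B (x (r k))) →
      ∃ y, ∀ i, ap (α i) B y = x i)
    (hA : ∀ i, 𝒜 (A i)) (hC : ∀ k, 𝒜 (C k)) : 𝒜 F := by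
  classical
  cases nonempty_fintype ι
  cases nonempty_fintype κ
  let φ : ⨁ A ⟶ ⨁ C := biproduct.lift fun k => biproduct.π A (l k) ≫ β k - biproduct.π A (r k) ≫ γ k
  let α' : F ⟶ ⨁ A := biproduct.lift α
  have hα : ∀ i, α' ≫ biproduct.π A i = α i := fun i => biproduct.lift_π _ _
  have hφ : ∀ k, φ ≫ biproduct.π C k = biproduct.π A (l k) ≫ β k - biproduct.π A (r k) ≫ γ k := fun k =>
    biproduct.lift_π _ _
  have w' : α' ≫ φ = 0 := by
    apply biproduct.hom_ext
    intro k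
    rw [Category.assoc, hφ, Preadditive.comp_sub, ← Category.assoc, ← Category.assoc, hα, hα, w, sub_self,
      zero_comp]
  have hex : (ShortComplex.mk α' φ w').Exact := by
    rw [exact_iff']
    intro B x
    constructor
    · intro hx
      obtain ⟨y, hy⟩ := gl B (fun i => ap (biproduct.π A i) B x) (fun k => by
        have h1 : ap (φ ≫ biproduct.π C k) B x = 0 := by
          rw [ap_comp]
          change ap (biproduct.π C k) B (φ.app (Adeq.pt B) x) = 0
          have hx' : φ.app (Adeq.pt B) x = 0 := hx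
          rw [hx']
          exact ap_zero _ _
        rw [hφ, sub_ap] at h1
        exact eq_of_sub_eq_zero h1)
      refine ⟨y, biprod_ext A B fun i => ?_⟩
      refine Eq.trans ?_ (hy i)
      change ap (biproduct.π A i) B (ap α' B y) = _
      rw [← ap_comp, hα]
    · rintro ⟨y, rfl⟩
      exact congrArg (fun t => ap t B y) w'
  have hmono : Mono α' := by
    rw [mono_iff]
    intro B x y hxy
    rw [← sub_eq_zero]
    refine inj B _ fun i => ?_
    rw [ap_sub, ← hα, ap_comp, ap_comp]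
    have : ap α' B x = ap α' B y := hxy
    rw [this, sub_self]
  have hlim := hex.fIsKernel
  exact 𝒜.prop_of_isLimit_kernelFork hlim (prop_biproduct A hA) (prop_biproduct C hC)

end K570.Glue
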