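import Groth.Agent.Adeq.K569.Cok
import Groth.Agent.Adeq.K570.Glue
import Mathlib.Algebra.Category.ModuleCat.Abelian
import Mathlib.CategoryTheory.Limits.Constructions.FiniteProductsOfBinaryProducts

/-!
# Closure properties of the class of adequate functors
-/

set_option autoImplicit false
universe u v w

open CategoryTheory CategoryTheory.Limits Opposite TensorProduct

noncomputable section

namespace K570.Adq

open K569.Basic K570.Glue

section General

variable {C : Type u} [Category.{v} C] [Abelian C] [HasFiniteBiproducts C]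
  (P : ObjectProperty C) [P.IsClosedUnderIsomorphisms]

theorem isClosedUnderFiniteProducts (h0 : ∀ X : C, IsZero X → P X) (h : ∀ X Y : C, P X → P Y → P (X ⊞ Y)) :
    P.IsClosedUnderFiniteProducts := by
  have : P.ContainsZero := ⟨⟨_, isZero_zero C, h0 _ (isZero_zero C)⟩⟩
  have : P.IsClosedUnderBinaryProducts := ⟨by
    rintro X ⟨p⟩
    exact P.prop_of_iso (IsLimit.conePointsIsoOfNatIso (BinaryBiproduct.isLimit _ _) p.isLimit
      (diagramIsoPair p.diag).symm) (h _ _ (p.prop_diag_obj ⟨WalkingPair.left⟩) (p.prop_diag_obj ⟨WalkingPair.right⟩))⟩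
  have : HasFiniteProducts C := inferInstance
  exact ObjectProperty.IsClosedUnderFiniteProducts.mk'

end General

variable {A : Type u} [CommRing A]

theorem adequate_zero {F : Adeq.MVF A} (hF : IsZero F) : Adeq.adequate A F := by
  let Z : ModuleCat.{u + 1} A := ModuleCat.of A PUnit
  have hZ : IsZero Z := ModuleCat.isZero_of_subsingleton _
  have h0 : IsZero (kernel ((Adeq.underline A).map (0 : Z ⟶ Z))) := by
    rw [IsZero.iff_id_eq_zero, ← cancel_mono (kernel.ι _)]
    exact ((Adeq.underline A).map_isZero hZ).eq_of_tgt _ _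
  exact ⟨Z, Z, 0, ⟨hF.iso h0⟩⟩

theorem adequate_biprod {F G : Adeq.MVF A} (hF : Adeq.adequate A F) (hG : Adeq.adequate A G) :
    Adeq.adequate A (F ⊞ G) := by
  obtain ⟨M₁, N₁, φ₁, i₁, hi₁, h₁⟩ := exists_of_adequate hF
  obtain ⟨M₂, N₂, φ₂, i₂, hi₂, h₂⟩ := exists_of_adequate hG
  let U := Adeq.underline A
  let i : F ⊞ G ⟶ U.obj (M₁ ⊞ M₂) := biprod.desc (i₁ ≫ U.map biprod.inl) (i₂ ≫ U.map biprod.inr)
  have e1 : i ≫ U.map biprod.fst = biprod.fst ≫ i₁ := by
    apply biprod.hom_ext'
    · rw [biprod.inl_desc_assoc, Category.assoc, ← U.map_comp, biprod.inl_fst, U.map_id, Category.comp_id,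
        biprod.inl_fst_assoc]
    · rw [biprod.inr_desc_assoc, Category.assoc, ← U.map_comp, biprod.inr_fst, U.map_zero, comp_zero,
        ← Category.assoc, biprod.inr_fst, zero_comp]
  have e2 : i ≫ U.map biprod.snd = biprod.snd ≫ i₂ := by
    apply biprod.hom_ext'
    · rw [biprod.inl_desc_assoc, Category.assoc, ← U.map_comp, biprod.inl_snd, U.map_zero, comp_zero,
        ← Category.assoc, biprod.inl_snd, zero_comp]
    · rw [biprod.inr_desc_assoc, Category.assoc, ← U.map_comp, biprod.inr_snd, U.map_id, Category.comp_id,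
        biprod.inr_snd_assoc]
  have tot : ∀ (B : Adeq.Alg A) (z : (F ⊞ G).obj (Adeq.pt B)),
      z = ap biprod.inl B (ap biprod.fst B z) + ap biprod.inr B (ap biprod.snd B z) := by
    intro B z
    have e := congrArg (fun t => ap t B z) (biprod.total (X := F) (Y := G))
    exact e.symm
  have tot' : ∀ (B : Adeq.Alg A) (z : (U.obj (M₁ ⊞ M₂)).obj (Adeq.pt B)),
      z = ap (U.map biprod.inl) B (ap (U.map biprod.fst) B z) +
        ap (U.map biprod.inr) B (ap (U.map biprod.snd) B z) := by
    intro B z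
    have e : U.map biprod.fst ≫ U.map biprod.inl + U.map biprod.snd ≫ U.map biprod.inr = 𝟙 (U.obj (M₁ ⊞ M₂)) := by
      rw [← U.map_comp, ← U.map_comp, ← U.map_add, biprod.total, U.map_id]
    exact (congrArg (fun t => ap t B z) e).symm
  have w₁ : i₁ ≫ U.map φ₁ = 0 := hom_ext' fun B x => (h₁ B _).2 ⟨x, rfl⟩
  have w₂ : i₂ ≫ U.map φ₂ = 0 := hom_ext' fun B x => (h₂ B _).2 ⟨x, rfl⟩
  have c1 : U.map (biprod.map φ₁ φ₂) ≫ U.map biprod.fst = U.map biprod.fst ≫ U.map φ₁ := by
    rw [← U.map_comp, ← U.map_comp, biprod.map_fst]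
  have c2 : U.map (biprod.map φ₁ φ₂) ≫ U.map biprod.snd = U.map biprod.snd ≫ U.map φ₂ := by
    rw [← U.map_comp, ← U.map_comp, biprod.map_snd]
  have w : i ≫ U.map (biprod.map φ₁ φ₂) = 0 := by
    have e : U.map biprod.fst ≫ U.map biprod.inl + U.map biprod.snd ≫ U.map biprod.inr = 𝟙 (U.obj (N₁ ⊞ N₂)) := by
      rw [← U.map_comp, ← U.map_comp, ← U.map_add, biprod.total, U.map_id]
    rw [← Category.comp_id (i ≫ _), ← e, Preadditive.comp_add, Category.assoc, Category.assoc,
      ← Category.assoc (U.map (biprod.map φ₁ φ₂)), ← Category.assoc (U.map (biprod.map φ₁ φ₂)), c1, c2,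
      Category.assoc, Category.assoc, ← Category.assoc i, ← Category.assoc i, e1, e2, Category.assoc, Category.assoc,
      ← Category.assoc i₁, w₁, ← Category.assoc i₂, w₂]
    simp
  refine adequate_of_pointwise (biprod.map φ₁ φ₂) i ?_ ?_
  · intro B x y hxy
    have hxy' : ap i B x = ap i B y := hxy
    have a1 : ap biprod.fst B x = ap biprod.fst B y := by
      apply hi₁ B
      change ap i₁ B _ = ap i₁ B _
      rw [← ap_comp, ← ap_comp, ← e1, ap_comp, ap_comp, hxy']
    have a2 : ap biprod.snd B x = ap biprod.snd B y := by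
      apply hi₂ B
      change ap i₂ B _ = ap i₂ B _
      rw [← ap_comp, ← ap_comp, ← e2, ap_comp, ap_comp, hxy']
    rw [tot B x, tot B y, a1, a2]
  · intro B x
    let x' : (U.obj (M₁ ⊞ M₂)).obj (Adeq.pt B) := x
    constructor
    · intro hx
      have hx' : ap (U.map (biprod.map φ₁ φ₂)) B x' = 0 := hx
      have b1 : ap (U.map φ₁) B (ap (U.map biprod.fst) B x') = 0 := by
        rw [← ap_comp, ← c1, ap_comp, hx', ap_zero]
      have b2 : ap (U.map φ₂) B (ap (U.map biprod.snd) B x') = 0 := by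
        rw [← ap_comp, ← c2, ap_comp, hx', ap_zero]
      obtain ⟨y₁, hy₁⟩ := (h₁ B _).1 b1
      obtain ⟨y₂, hy₂⟩ := (h₂ B _).1 b2
      have hy₁' : ap i₁ B y₁ = ap (U.map biprod.fst) B x' := hy₁
      have hy₂' : ap i₂ B y₂ = ap (U.map biprod.snd) B x' := hy₂
      refine ⟨ap biprod.inl B y₁ + ap biprod.inr B y₂, ?_⟩
      change ap i B _ = x'
      rw [ap_add, ← ap_comp, ← ap_comp, biprod.inl_desc, biprod.inr_desc, ap_comp, ap_comp, hy₁', hy₂', ← tot']
    · rintro ⟨y, rfl⟩
      exact congrArg (fun t => ap t B y) w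

instance : (Adeq.adequate A).IsClosedUnderFiniteProducts :=
  isClosedUnderFiniteProducts _ (fun _ => adequate_zero) (fun _ _ => adequate_biprod)

instance : (Adeq.adequate A).ContainsZero :=
  ⟨⟨_, isZero_zero _, adequate_zero (isZero_zero _)⟩⟩

instance : (Adeq.adequate A).IsClosedUnderKernels where
  kernels_le := by
    rintro _ ⟨f, k, hk, hf⟩
    exact (Adeq.adequate A).prop_of_iso (IsLimit.conePointUniqueUpToIso (kernelIsKernel f) hk)
      (K569.Cok.adequate_kernel f hf.1 hf.2)

instance : (Adeq.adequate A).IsClosedUnderCokernels where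
  cokernels_le := by
    rintro _ ⟨f, k, hk, hf⟩
    exact (Adeq.adequate A).prop_of_iso (IsColimit.coconePointUniqueUpToIso (cokernelIsCokernel f) hk)
      (K569.Cok.adequate_cokernel f hf.1 hf.2)

end K570.Adq
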