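import Groth.Agent.Adeq.K570.CovGeo
import Groth.Agent.Adeq.K570.Adq
import Groth.Agent.Adeq.K569.Restr
import Groth.Agent.Adeq.K569.Push
import Mathlib.AlgebraicGeometry.Sites.Fpqc
import Mathlib.AlgebraicGeometry.Morphisms.Flat

/-!
# Adequate modules are adequate on all affine objects
-/

set_option autoImplicit false
set_option linter.unusedSectionVars false
universe u

open CategoryTheory CategoryTheory.Limits Opposite AlgebraicGeometry

noncomputable section

namespace K570.Local

open K569.Basic K570.CechM K570.Fam K570.Geo K570.GeoMod K570.GeoAd K570.Cov K570.Glue K570.CovGeo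

/-- The classes of morphisms we use. -/
class Good (Q : MorphismProperty Scheme.{u}) : Prop extends Q.IsMultiplicative, Q.IsStableUnderBaseChange where
  hz : ∀ {X Y : Scheme.{u}} (f : X ⟶ Y), IsOpenImmersion f → Q f
  ho : ∀ {X Y : Scheme.{u}} (f : X ⟶ Y), Q f → IsOpenMap f
  hf : ∀ {X Y : Scheme.{u}} (f : X ⟶ Y), Q f → Flat f

instance goodZ : Good (@IsOpenImmersion : MorphismProperty Scheme.{u}) where
  id_mem _ := inferInstance
  comp_mem _ _ _ _ := inferInstance
  hz _ h := h
  ho f _ := f.isOpenEmbedding.isOpenMap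
  hf f _ := inferInstance

/-- Flat morphisms locally of finite presentation. -/
abbrev Qf : MorphismProperty Scheme.{u} := @Flat ⊓ @LocallyOfFinitePresentation

instance goodF : Good Qf.{u} where
  id_mem _ := ⟨inferInstance, inferInstance⟩
  comp_mem f g hf hg := by
    have := hf.1; have := hf.2; have := hg.1; have := hg.2
    exact ⟨inferInstance, inferInstance⟩
  hz _ _ := ⟨inferInstance, inferInstance⟩
  ho _ h := by
    have := h.1; have := h.2
    exact Scheme.Hom.isOpenMap _
  hf f h := h.1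

instance : BigSite.OSh (Scheme.precoverage Qf.{u}) := inferInstanceAs (BigSite.OSh Scheme.fppfPrecoverage.{u})

variable {Q : MorphismProperty Scheme.{u}} [Good Q] [BigSite.OSh (Scheme.precoverage Q)]
  {T : Scheme.{u}} (M : BigSite.Mod (Scheme.precoverage Q) T)

/-- Adequacy at an affine object. -/
def AdqAt {R : CommRingCat.{u}} (a : Spec R ⟶ T) : Prop :=
  Adeq.adequate R ((Adeq.toMVF (Scheme.precoverage Q) a).obj M)

/-- Adequacy at all affine objects over a scheme. -/
def PA {V : Scheme.{u}} (c : V ⟶ T) : Prop := ∀ (R : CommRingCat.{u}) (e : Spec R ⟶ V), AdqAt M (e ≫ c)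

variable {M}

theorem AdqAt.comp {R R' : CommRingCat.{u}} {a : Spec R ⟶ T} (h : AdqAt M a) (g : Spec R' ⟶ Spec R) :
    AdqAt M (g ≫ a) := by
  obtain ⟨φ, rfl⟩ := Spec.map_surjective g
  let _ : Algebra R R' := φ.hom.toAlgebra
  exact (Adeq.adequate R').prop_of_iso ((restrΨ (Scheme.precoverage Q) (R' := R') a).app M.val)
    (K569.Restr.adequate_restr R' h)

theorem AdqAt.pa {R : CommRingCat.{u}} {a : Spec R ⟶ T} (h : AdqAt M a) : PA M a := fun _ e => h.comp e

theorem PA.comp {V W : Scheme.{u}} {c : V ⟶ T} (h : PA M c) (g : W ⟶ V) : PA M (g ≫ c) := fun R e => by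
  rw [← Category.assoc]
  exact h R _

theorem PA.adqAt {R : CommRingCat.{u}} {a : Spec R ⟶ T} (h : PA M a) : AdqAt M a := by
  have := h R (𝟙 _)
  rwa [Category.id_comp] at this

/-- The functor of an affine scheme over the base. -/
theorem PA.affine {V : Scheme.{u}} [IsAffine V] {c : V ⟶ T} (h : PA M c) {R : CommRingCat.{u}} (q : V ⟶ Spec R) :
    Adeq.adequate R ((ΨSh (Scheme.precoverage Q) q c).obj M) := by
  obtain ⟨φ, hφ⟩ := Spec.map_surjective (V.isoSpec.inv ≫ q)
  let _ : Algebra R Γ(V, ⊤) := φ.hom.toAlgebra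
  have h1 : Adeq.adequate Γ(V, ⊤) ((Adeq.toMVFPre (Scheme.precoverage Q) (V.isoSpec.inv ≫ c)).obj M.val) :=
    h _ V.isoSpec.inv
  have h2 := K569.Push.adequate_push (A := R) h1
  have h3 := (Adeq.adequate R).prop_of_iso ((pushΨ (Scheme.precoverage Q) (R := R) (R' := Γ(V, ⊤))
    (V.isoSpec.inv ≫ c)).app M.val) h2
  have e1 : 𝟙 _ ≫ st R Γ(V, ⊤) = V.isoSpec.symm.hom ≫ q := by
    rw [Category.id_comp]
    exact hφ
  rw [e1] at h3
  exact (Adeq.adequate R).prop_of_iso ((ΨIso (Scheme.precoverage Q) q c V.isoSpec.symm).app M.val).symm h3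

theorem PA.of_adequateMod (h : Adeq.adequateMod (Scheme.precoverage Q) T M) : PA M (𝟙 T) := by
  obtain ⟨ι, R₀, a₀, hcov, h₀⟩ := h
  rw [Scheme.ofArrows_mem_precoverage_iff] at hcov
  intro R a
  rw [Category.comp_id]
  let S : Sieve (Over.mk a) :=
    { arrows := fun Y _ => PA M Y.hom
      downward_closed := fun {Y Z f} hf g => by
        rw [← Over.w g]
        exact PA.comp hf _ }
  have hS : S ∈ QuotSh.J (Scheme.precoverage Q) T (Over.mk a) := by
    rw [mem_J_iff]
    intro x
    obtain ⟨i, y, hy⟩ := hcov.1 (a x)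
    let g : pullback a (a₀ i) ⟶ Spec R := pullback.fst a (a₀ i)
    refine ⟨Over.mk (g ≫ a), Over.homMk g rfl, ?_, ?_, ?_⟩
    · change PA M (g ≫ a)
      have e : g ≫ a = pullback.snd a (a₀ i) ≫ a₀ i := pullback.condition
      rw [e]
      exact PA.comp (AdqAt.pa (h₀ i)) _
    · exact MorphismProperty.pullback_fst _ _ (hcov.2 i)
    · obtain ⟨z, hz, -⟩ := Scheme.Pullback.exists_preimage_pullback x y hy.symm
      exact ⟨z, hz⟩
  have : CompactSpace (Over.mk a).left := inferInstanceAs (CompactSpace (Spec R))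
  obtain ⟨n, V, f, h1, h2, h3, h4⟩ := exists_finite_affine Good.hz Good.ho (Over.mk a) hS
  have key : Adeq.adequate R ((ΨSh (Scheme.precoverage Q) (𝟙 (Spec R)) a).obj M) := by
    refine prop_of_cover M (𝟙 (Spec R)) a (fun i => (V i).left) (fun i => (f i).left) h3 h4 (fun i => ?_) (fun i j => ?_)
    · have := h2 i
      have e : (f i).left ≫ a = (V i).hom := Over.w (f i)
      have := h1 i
      refine PA.affine ?_ _
      rw [e]
      exact this
    · have := h2 i
      have := h2 j
      have e : (f i).left ≫ a = (V i).hom := Over.w (f i)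
      have := h1 i
      refine PA.affine ?_ _
      rw [e]
      exact PA.comp this _
  exact (Adeq.adequate R).prop_of_iso ((toMVFShΨ (Scheme.precoverage Q) a).app M).symm key

theorem adequateMod_of_PA (h : PA M (𝟙 T)) : Adeq.adequateMod (Scheme.precoverage Q) T M := by
  refine ⟨T.affineOpens, fun U => Γ(T, U), fun U => U.2.fromSpec, ?_, fun U => ?_⟩
  · rw [Scheme.ofArrows_mem_precoverage_iff]
    refine ⟨fun x => ?_, fun U => Good.hz _ inferInstance⟩
    obtain ⟨W, hW, hxW, -⟩ := exists_isAffineOpen_mem_and_subset (x := x) (U := ⊤) (by trivial)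
    refine ⟨⟨W, hW⟩, ?_⟩
    rw [hW.range_fromSpec]
    exact hxW
  · have := h _ U.2.fromSpec
    rwa [Category.comp_id] at this

theorem adequateMod_iff : Adeq.adequateMod (Scheme.precoverage Q) T M ↔ PA M (𝟙 T) :=
  ⟨PA.of_adequateMod, adequateMod_of_PA⟩

theorem adqAt_of_adequateMod (h : Adeq.adequateMod (Scheme.precoverage Q) T M) {R : CommRingCat.{u}}
    (a : Spec R ⟶ T) : Adeq.adequate R ((Adeq.toMVF (Scheme.precoverage Q) a).obj M) := by
  have := PA.of_adequateMod h R a
  rwa [Category.comp_id] at this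

end K570.Local
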