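import Groth.Agent.Adeq.K570.Cov

/-!
# Cech exactness and short exact sequences, elementwise
-/

set_option autoImplicit false
universe w v u
open CategoryTheory CategoryTheory.Limits Opposite

namespace K570.Quot

open K570.CechM K570.Cov

variable {C : Type u} [Category.{v} C] {P₁ P₂ P₃ : Cᵒᵖ ⥤ AddCommGrpCat.{w}} (f : P₁ ⟶ P₂) (g : P₂ ⟶ P₃)
  {U V : C} {γ : V ⟶ U} (m : Model γ)

/-- Cech exactness passes to the quotient. -/
theorem ex_quot (n : ℕ)
    (hinj : Function.Injective (act f (m.W (n + 3))))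
    (hker : ∀ k x, act g (m.W k) x = 0 → ∃ y, act f _ y = x)
    (hzero : ∀ k y, act g (m.W k) (act f _ y) = 0)
    (hsurj : Function.Surjective (act g (m.W (n + 1))))
    (h1 : m.Ex P₁ (n + 1)) (h2 : m.Ex P₂ n) : m.Ex P₃ n := by
  intro x hx
  obtain ⟨y, rfl⟩ := hsurj x
  obtain ⟨z, hz⟩ := hker _ (m.d P₂ (n + 1) y) (by rw [m.act_d, hx])
  obtain ⟨w, hw⟩ := h1 z (hinj (by
    have := m.act_d f (n + 2) z
    rw [map_zero]
    refine this.trans ?_
    rw [hz]
    exact m.d_d P₂ (n + 1) y))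
  obtain ⟨v, hv⟩ := h2 (y - act f _ w) (by
    rw [map_sub, ← m.act_d, hw, hz, sub_self])
  refine ⟨act g _ v, ?_⟩
  rw [← m.act_d, hv, map_sub, hzero, sub_zero]

variable {J : GrothendieckTopology C}

/-- Surjectivity on sections from the vanishing of the first Cech cohomology group. -/
theorem exists_of_ex (hP₂ : Presheaf.IsSheaf J P₂) (hP₃ : Presheaf.IsSheaf J P₃)
    (hcov : Sieve.ofArrows (fun _ : Unit => V) (fun _ => γ) ∈ J U)
    (hinj : Function.Injective (act f (m.W 3)))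
    (hker : ∀ k x, act g (m.W k) x = 0 → ∃ y, act f _ y = x)
    (hzero : ∀ k y, act g (m.W k) (act f _ y) = 0)
    (h1 : m.Ex P₁ 1) (s : P₃.obj (op U)) (t : P₂.obj (op V)) (hst : act g V t = res P₃ γ s) :
    ∃ t' : P₂.obj (op U), act g U t' = s := by
  let t₁ := res P₂ (m.π 1 0) t
  have e1 : act g _ t₁ = res P₃ (m.b 1) s := by
    rw [act_res, hst, res_res, m.w]
  have e2 : act g _ (m.d P₂ 1 t₁) = 0 := by
    rw [m.act_d, e1, m.d_one, res_res, res_res, m.face_b, m.face_b, sub_self]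
  obtain ⟨z, hz⟩ := hker 2 _ e2
  obtain ⟨w, hw⟩ := h1 z (hinj (by
    rw [map_zero]
    refine (m.act_d f 2 z).trans ?_
    rw [hz]
    exact m.d_d P₂ 1 t₁))
  obtain ⟨v, hv⟩ := ex_zero hP₂ hcov m (t₁ - act f _ w) (by
    have e := m.act_d f 1 w
    rw [hw, hz] at e
    refine (map_sub (m.d P₂ 1) t₁ (act f _ w)).trans ?_
    rw [← e, sub_self])
  let c : U ⟶ m.W 0 := m.lift 0 (𝟙 U) (fun i => i.elim0) (fun i => i.elim0)
  have hc : c ≫ m.b 0 = 𝟙 U := m.lift_b _ _ _ _
  have hc' : m.b 0 ≫ c = 𝟙 _ := by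
    apply m.hom_ext
    · rw [Category.assoc, hc, Category.comp_id, Category.id_comp]
    · exact fun i => i.elim0
  have h3 : act g (m.W 0) v = res P₃ (m.b 0) s := by
    apply d_zero_injective hP₃ hcov m
    rw [← m.act_d, hv, map_sub, hzero, sub_zero, e1, m.d_zero, res_res, m.face_b]
  refine ⟨res P₂ c v, ?_⟩
  rw [act_res, h3, res_res, hc, res_id]

end K570.Quot
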