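import Groth.Agent.Adeq.K570.SpecModel
import Groth.Agent.Adeq.K570.Quot

/-!
# Cech acyclicity on affine objects

* `CA F`: exactness of the augmented Cech complexes of `F` for all faithfully flat morphisms of affine objects.
* `ca_of_flatBC`: holds if all the module-valued functors attached to `F` have flat base change.
-/

set_option autoImplicit false
universe u v w

open CategoryTheory CategoryTheory.Limits Opposite TensorProduct AlgebraicGeometry

noncomputable section

namespace K570.CA

open K570.CechM K570.FFAlg K570.FFCech K570.SpecModel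

variable {S : Scheme.{u}}

/-- Exactness of the Cech complexes of faithfully flat morphisms of affine objects. -/
def CA (F : (Over S)ᵒᵖ ⥤ AddCommGrpCat.{w}) : Prop :=
  ∀ ⦃U V : Over S⦄ (g : V ⟶ U), IsAffine U.left → IsAffine V.left → Flat g.left → Surjective g.left →
    ∀ (m : Model g) (n : ℕ), m.Ex F n

/-- Separatedness for faithfully flat morphisms of affine objects. -/
def SepA (F : (Over S)ᵒᵖ ⥤ AddCommGrpCat.{w}) : Prop :=
  ∀ ⦃U V : Over S⦄ (g : V ⟶ U), IsAffine U.left → IsAffine V.left → Flat g.left → Surjective g.left →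
    Function.Injective (res F g)

theorem CA.of_iso {F G : (Over S)ᵒᵖ ⥤ AddCommGrpCat.{w}} (h : CA F) (e : F ≅ G) : CA G :=
  fun _ _ g h1 h2 h3 h4 m n => (h g h1 h2 h3 h4 m n).of_presheaf_iso e

section Chart

variable {U V : Over S} (g : V ⟶ U) [IsAffine U.left] [IsAffine V.left]

/-- The algebra of a morphism of affine objects. -/
@[reducible] def alg : Algebra Γ(U.left, ⊤) Γ(V.left, ⊤) := g.left.appTop.hom.toAlgebra

theorem faithfullyFlat_alg [Flat g.left] [Surjective g.left] :
    letI := alg g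
    Module.FaithfullyFlat Γ(U.left, ⊤) Γ(V.left, ⊤) :=
  (Flat.flat_and_surjective_iff_faithfullyFlat_of_isAffine g.left).1 ⟨inferInstance, inferInstance⟩

/-- Chart of the base. -/
def eU : (Adeq.specOver (chart U)).obj (op (Adeq.algOf Γ(U.left, ⊤) Γ(U.left, ⊤))) ≅ U :=
  (chartIso U (chart U) U.left.isoSpec (by simp)).symm

/-- Chart of the source. -/
def eV : letI := alg g
    (Adeq.specOver (chart U)).obj (op (Adeq.algOf Γ(U.left, ⊤) Γ(V.left, ⊤))) ≅ V :=
  letI := alg g
  (Over.isoMk V.left.isoSpec (by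
    change V.left.isoSpec.hom ≫ Spec.map g.left.appTop ≫ U.left.isoSpec.inv ≫ U.hom = V.hom
    rw [Scheme.isoSpec_hom_naturality_assoc, Iso.hom_inv_id_assoc, Over.w g]) :
    V ≅ (Adeq.specOver (chart U)).obj (op (Adeq.algOf Γ(U.left, ⊤) Γ(V.left, ⊤)))).symm

theorem eV_comp : letI := alg g
    (eV g).hom ≫ g = (Adeq.specOver (chart U)).map (γ (R := Γ(U.left, ⊤)) Γ(V.left, ⊤)) ≫ (eU (U := U)).hom := by
  letI := alg g
  rw [← Iso.eq_inv_comp]
  ext : 1
  change g.left = V.left.isoSpec.hom ≫ Spec.map g.left.appTop ≫ U.left.isoSpec.inv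
  rw [Scheme.isoSpec_hom_naturality_assoc, Iso.hom_inv_id, Category.comp_id]

end Chart

section Modules

variable {K : Precoverage Scheme.{u}} [BigSite.OSh K] (N : PresheafOfModules.{u + 1} (BigSite.ORing K S).obj)

/-- All module-valued functors attached to `N` have flat base change. -/
def FBC : Prop := ∀ (R : CommRingCat.{u}) (a : Spec R ⟶ S), FlatBC ((Adeq.toMVFPre K a).obj N)

variable {N}

theorem ca_of_flatBC (hN : FBC N) : CA N.presheaf := by
  intro U V g hU hV hfl hsurj m n
  letI := alg g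
  have hff : Module.FaithfullyFlat Γ(U.left, ⊤) Γ(V.left, ⊤) := faithfullyFlat_alg g
  have h1 := ex_of_flatBC ((Adeq.toMVFPre K (chart U)).obj N) (tModel (R := Γ(U.left, ⊤)) Γ(V.left, ⊤))
    (hN _ (chart U)) n
  let m₀ : Model ((Adeq.specOver (chart U)).map (γ (R := Γ(U.left, ⊤)) Γ(V.left, ⊤))) := ofPullbacks _
  have h2 : m₀.Ex N.presheaf n := (ex_specOver_iff (chart U) Γ(V.left, ⊤) m₀ N.presheaf n).2 h1
  exact h2.of_iso m eU (eV g) (eV_comp g)

theorem sepA_of_flatBC (hN : FBC N) : SepA N.presheaf := by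
  intro U V g hU hV hfl hsurj
  letI := alg g
  have hff : Module.FaithfullyFlat Γ(U.left, ⊤) Γ(V.left, ⊤) := faithfullyFlat_alg g
  have h1 := injective_of_flatBC ((Adeq.toMVFPre K (chart U)).obj N) (hN _ (chart U))
    (γ (R := Γ(U.left, ⊤)) Γ(V.left, ⊤)).unop
  have h2 : Function.Injective (res N.presheaf ((Adeq.specOver (chart U)).map
    (γ (R := Γ(U.left, ⊤)) Γ(V.left, ⊤)))) := h1
  intro x y hxy
  have h3 : res N.presheaf eU.hom x = res N.presheaf eU.hom y := by
    apply h2
    rw [res_res, res_res, ← eV_comp, ← res_res, ← res_res, hxy]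
  have h4 := congrArg (res N.presheaf eU.inv) h3
  rwa [res_iso_inv_hom, res_iso_inv_hom] at h4

end Modules

end K570.CA
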