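import Groth.Agent.Adeq.K570.GeoAd
import Mathlib.Algebra.Homology.ShortComplex.ExactFunctor
import Mathlib.Algebra.Category.ModuleCat.Sheaf.Limits

/-!
# Exactness of the functors attached to families
-/

set_option autoImplicit false
set_option linter.unusedSectionVars false
universe u

open CategoryTheory CategoryTheory.Limits Opposite AlgebraicGeometry

noncomputable section

namespace K570.ExF

open K569.Basic K570.CechM K570.Fam K570.Geo K570.GeoMod K570.GeoAd

variable (K : Precoverage Scheme.{u}) [BigSite.OSh K] {R : Type u} [CommRing R] {T : Scheme.{u}} (F : Fam R T)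

theorem exact_map (S : ShortComplex (PresheafOfModules.{u + 1} (BigSite.ORing K T).obj)) (hS : S.Exact) :
    (S.map (Φ K F)).Exact := by
  rw [exact_iff']
  rw [exact_iff] at hS
  intro B
  exact hS (op (F.E.obj (op B)))

instance : (Φ K F).PreservesHomology := ((Φ K F).exact_tfae.out 1 2).1 (exact_map K F)

instance : PreservesFiniteLimits (Φ K F) := (Φ K F).preservesFiniteLimits_of_preservesHomology

instance : PreservesFiniteColimits (Φ K F) := (Φ K F).preservesFiniteColimits_of_preservesHomology

section

variable {R : CommRingCat.{u}} (a : Spec R ⟶ T) {X : Scheme.{u}} (q : X ⟶ Spec R) (c : X ⟶ T)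

instance : (Adeq.toMVFPre K a).PreservesHomology := inferInstanceAs ((Φ K (spec a)).PreservesHomology)

instance : PreservesFiniteLimits (Adeq.toMVFPre K a) := inferInstanceAs (PreservesFiniteLimits (Φ K (spec a)))

instance : PreservesFiniteColimits (Adeq.toMVFPre K a) := inferInstanceAs (PreservesFiniteColimits (Φ K (spec a)))

instance : PreservesFiniteLimits (Adeq.toMVF K a) :=
  comp_preservesFiniteLimits (SheafOfModules.forget _) (Adeq.toMVFPre K a)

instance : (Ψ K q c).PreservesHomology := inferInstanceAs ((Φ K (geo q c)).PreservesHomology)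

instance : PreservesFiniteLimits (Ψ K q c) := inferInstanceAs (PreservesFiniteLimits (Φ K (geo q c)))

instance : PreservesFiniteColimits (Ψ K q c) := inferInstanceAs (PreservesFiniteColimits (Φ K (geo q c)))

instance : PreservesFiniteLimits (ΨSh K q c) :=
  comp_preservesFiniteLimits (SheafOfModules.forget _) (Ψ K q c)

end

end K570.ExF
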