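import Groth.Agent.Adeq.K570.Local
import Groth.Agent.Adeq.K570.ExF
import Mathlib.AlgebraicGeometry.Morphisms.Separated

/-!
# Stability of adequate modules: pullback, local nature, kernels, pushforward
-/

set_option autoImplicit false
set_option linter.unusedSectionVars false
universe u

open CategoryTheory CategoryTheory.Limits Opposite AlgebraicGeometry

noncomputable section

namespace K570.Stab

open K569.Basic K570.ExF K570.CechM K570.Fam K570.Geo K570.GeoMod K570.GeoAd K570.Cov K570.Glue K570.CovGeo K570.Local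

variable {Q : MorphismProperty Scheme.{u}} [Good Q] [BigSite.OSh (Scheme.precoverage Q)]

section Pull

variable {S T : Scheme.{u}} (f : T ⟶ S) (M : BigSite.Mod (Scheme.precoverage Q) S)

theorem pa_pullMod_iff {V : Scheme.{u}} (c : V ⟶ T) :
    PA ((BigSite.pullMod (Scheme.precoverage Q) f).obj M) c ↔ PA M (c ≫ f) := by
  have key : ∀ (R : CommRingCat.{u}) (e : Spec R ⟶ V),
      AdqAt ((BigSite.pullMod (Scheme.precoverage Q) f).obj M) (e ≫ c) ↔ AdqAt M (e ≫ c ≫ f) := by
    intro R e
    rw [← Category.assoc]
    exact (Adeq.adequate R).prop_iff_of_iso ((pullModΨ (Scheme.precoverage Q) f (e ≫ c)).app M)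
  exact forall_congr' fun R => forall_congr' fun e => key R e

theorem adequateMod_pullMod (hM : Adeq.adequateMod (Scheme.precoverage Q) S M) :
    Adeq.adequateMod (Scheme.precoverage Q) T ((BigSite.pullMod (Scheme.precoverage Q) f).obj M) := by
  rw [adequateMod_iff, pa_pullMod_iff, Category.id_comp]
  have := PA.comp (PA.of_adequateMod hM) f
  rwa [Category.comp_id] at this

end Pull

section LocalNature

variable {S : Scheme.{u}} (M : BigSite.Mod (Scheme.precoverage Q) S)

theorem adequateMod_of_cover {ι : Type u} (T : ι → Scheme.{u}) (f : ∀ i, T i ⟶ S)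
    (hcov : Presieve.ofArrows T f ∈ (Scheme.precoverage Q).coverings S)
    (h : ∀ i, Adeq.adequateMod (Scheme.precoverage Q) (T i) ((BigSite.pullMod (Scheme.precoverage Q) (f i)).obj M)) :
    Adeq.adequateMod (Scheme.precoverage Q) S M := by
  have h' : ∀ i, PA M (f i) := by
    intro i
    have := h i
    rw [adequateMod_iff, pa_pullMod_iff, Category.id_comp] at this
    exact this
  rw [Scheme.ofArrows_mem_precoverage_iff] at hcov
  refine ⟨Σ i, (T i).affineOpens, fun U => Γ(T U.1, U.2), fun U => U.2.2.fromSpec ≫ f U.1, ?_, fun U => ?_⟩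
  · rw [Scheme.ofArrows_mem_precoverage_iff]
    refine ⟨fun x => ?_, fun U => Q.comp_mem _ _ (Good.hz _ inferInstance) (hcov.2 _)⟩
    obtain ⟨i, y, rfl⟩ := hcov.1 x
    obtain ⟨W, hW, hyW, -⟩ := exists_isAffineOpen_mem_and_subset (x := y) (U := ⊤) (by trivial)
    refine ⟨⟨i, ⟨W, hW⟩⟩, ?_⟩
    have hy : y ∈ Set.range hW.fromSpec := by
      rw [hW.range_fromSpec]
      exact hyW
    obtain ⟨z, rfl⟩ := hy
    exact ⟨z, rfl⟩
  · exact h' U.1 _ U.2.2.fromSpec

end LocalNature

section Kernel

variable {S : Scheme.{u}} {M N : BigSite.Mod (Scheme.precoverage Q) S} (φ : M ⟶ N)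

theorem adequateMod_kernel (hM : Adeq.adequateMod (Scheme.precoverage Q) S M)
    (hN : Adeq.adequateMod (Scheme.precoverage Q) S N) : Adeq.adequateMod (Scheme.precoverage Q) S (kernel φ) := by
  refine adequateMod_of_PA fun R e => ?_
  rw [Category.comp_id]
  exact (Adeq.adequate R).prop_of_iso (PreservesKernel.iso (Adeq.toMVF (Scheme.precoverage Q) e) φ).symm
    (K569.Cok.adequate_kernel _ (adqAt_of_adequateMod hM e) (adqAt_of_adequateMod hN e))

end Kernel

section Push

variable {T : Scheme.{u}} (M : BigSite.Mod (Scheme.precoverage Q) T) {R : CommRingCat.{u}}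

theorem exists_open_affine (X : Scheme.{u}) [CompactSpace X] :
    ∃ (n : ℕ) (V : Fin n → Scheme.{u}) (h : ∀ i, V i ⟶ X), (∀ i, IsAffine (V i)) ∧ (∀ i, IsOpenImmersion (h i)) ∧
      ∀ x : X, ∃ i, x ∈ Set.range (h i) := by
  have : CompactSpace (Over.mk (𝟙 X)).left := inferInstanceAs (CompactSpace X)
  obtain ⟨n, V, f, -, h2, h3, h4⟩ := exists_finite_affine (Q := @IsOpenImmersion) Good.hz Good.ho (Over.mk (𝟙 X))
    (R := ⊤) (GrothendieckTopology.top_mem _ _)
  exact ⟨n, fun i => (V i).left, fun i => (f i).left, h2, h3, h4⟩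

theorem adequate_of_separated {X : Scheme.{u}} [CompactSpace X] [X.IsSeparated] (q : X ⟶ Spec R) (c : X ⟶ T)
    (hc : PA M c) : Adeq.adequate R ((ΨSh (Scheme.precoverage Q) q c).obj M) := by
  obtain ⟨n, V, h, h1, h2, h3⟩ := exists_open_affine X
  refine prop_of_cover M q c V h (fun i => Good.hz _ (h2 i)) h3 (fun i => ?_) (fun i j => ?_)
  · have := h1 i
    exact PA.affine (hc.comp _) _
  · have := h1 i
    have := h1 j
    have : IsAffineHom (h i ≫ q) := inferInstance
    have : IsAffineHom (h i) := IsAffineHom.of_comp (h i) q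
    have : IsAffine (pullback (h i) (h j)) := inferInstance
    exact PA.affine ((hc.comp _).comp _) _

theorem adequate_of_qcqs {X : Scheme.{u}} [CompactSpace X] [QuasiSeparatedSpace X] (q : X ⟶ Spec R) (c : X ⟶ T)
    (hc : PA M c) : Adeq.adequate R ((ΨSh (Scheme.precoverage Q) q c).obj M) := by
  obtain ⟨n, V, h, h1, h2, h3⟩ := exists_open_affine X
  refine prop_of_cover M q c V h (fun i => Good.hz _ (h2 i)) h3 (fun i => ?_) (fun i j => ?_)
  · have := h1 i
    exact PA.affine (hc.comp _) _
  · have := h1 i
    have := h1 j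
    have := h2 i
    have := h2 j
    have : (pullback (h i) (h j)).IsSeparated := by
      constructor
      have : terminal.from (pullback (h i) (h j)) = pullback.fst (h i) (h j) ≫ terminal.from _ :=
        Subsingleton.elim _ _
      rw [this]
      infer_instance
    have : QuasiCompact (h j ≫ q) := inferInstance
    have : QuasiCompact (h j) := MorphismProperty.of_postcomp @QuasiCompact (h j) q (inferInstance : QuasiSeparated q)
      inferInstance
    have : CompactSpace (pullback (h i) (h j) : Scheme.{u}) := QuasiCompact.compactSpace_of_compactSpace (pullback.fst (h i) (h j))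
    exact adequate_of_separated M _ _ ((hc.comp _).comp _)

variable {M} in
theorem adequateMod_pushMod {S : Scheme.{u}} (f : T ⟶ S) [QuasiCompact f] [QuasiSeparated f]
    (hM : Adeq.adequateMod (Scheme.precoverage Q) T M) :
    Adeq.adequateMod (Scheme.precoverage Q) S ((BigSite.pushMod (Scheme.precoverage Q) f).obj M) := by
  refine adequateMod_of_PA fun R a => ?_
  rw [Category.comp_id]
  have : CompactSpace (pullback a f : Scheme.{u}) := QuasiCompact.compactSpace_of_compactSpace (pullback.fst a f)
  have : QuasiSeparatedSpace (pullback a f : Scheme.{u}) := quasiSeparatedSpace_of_quasiSeparated (pullback.fst a f)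
  have h := adequate_of_qcqs M (pullback.fst a f) (pullback.snd a f) (by
    have := (PA.of_adequateMod hM).comp (pullback.snd a f)
    rwa [Category.comp_id] at this)
  exact (Adeq.adequate R).prop_of_iso ((pushModΨ (Scheme.precoverage Q) f a).app M).symm h

end Push

end K570.Stab
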