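import Groth.Agent.Adeq.K570.MVgeo
import Mathlib.AlgebraicGeometry.Morphisms.Separated

/-!
# Mayer-Vietoris induction over quasi-compact quasi-separated schemes
-/

set_option autoImplicit false
set_option linter.unusedSectionVars false
universe u

open CategoryTheory CategoryTheory.Limits Opposite AlgebraicGeometry

noncomputable section

namespace K570.MVind

open K569.Basic K570.GeoAd K570.CovGeo K570.Local K570.MVgeo

variable {Q : MorphismProperty Scheme.{u}} [Good Q] [BigSite.OSh (Scheme.precoverage Q)] {R : CommRingCat.{u}}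
  {T : Scheme.{u}} (I : CochainComplex (BigSite.Mod (Scheme.precoverage Q) T) ℕ)
  {𝒜 : ObjectProperty (Adeq.MVF R)} [𝒜.IsClosedUnderIsomorphisms] [𝒜.IsClosedUnderKernels]
  [𝒜.IsClosedUnderCokernels] [𝒜.IsClosedUnderExtensions] (hI : ∀ n, Injective (I.X n))

section

variable {X : Scheme.{u}} (q : X ⟶ Spec R) (c : X ⟶ T)

/-- The condition for an open subscheme. -/
abbrev ClO (𝒜 : ObjectProperty (Adeq.MVF R)) (U : X.Opens) : Prop := Cl I 𝒜 (U.ι ≫ q) (U.ι ≫ c)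

include hI in
theorem clO_sup {U V : X.Opens} (h1 : ClO I q c 𝒜 U) (h2 : ClO I q c 𝒜 V) (h3 : ClO I q c 𝒜 (U ⊓ V)) :
    ClO I q c 𝒜 (U ⊔ V) := by
  refine cl_of_mv ((U ⊔ V).ι ≫ q) ((U ⊔ V).ι ≫ c)
    (isPullback_opens_inf_le (le_sup_left : U ≤ U ⊔ V) (le_sup_right : V ≤ U ⊔ V)) ?_ I hI h1 h2 h3
    (by rw [Scheme.homOfLE_ι_assoc]) (by rw [Scheme.homOfLE_ι_assoc]) (by rw [Scheme.homOfLE_ι_assoc])
    (by rw [Scheme.homOfLE_ι_assoc]) (by rw [Scheme.homOfLE_ι_assoc]) (by rw [Scheme.homOfLE_ι_assoc])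
  rintro ⟨x, hx⟩
  rcases hx with hx | hx
  · left
    refine ⟨⟨x, hx⟩, ?_⟩
    apply Subtype.ext
    simp
  · right
    refine ⟨⟨x, hx⟩, ?_⟩
    apply Subtype.ext
    simp

theorem cl_of_top (h : ClO I q c 𝒜 ⊤) : Cl I 𝒜 q c := Cl.of_iso q c I X.topIso h

include hI in
theorem cl_of_separated [CompactSpace X] [X.IsSeparated] (hA : ∀ A : X.Opens, IsAffineOpen A → ClO I q c 𝒜 A) :
    Cl I 𝒜 q c := by
  have hbot : IsAffineOpen (⊥ : X.Opens) := isAffineOpen_bot X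
  apply cl_of_top
  have key : ClO I q c 𝒜 (⊤ : X.Opens) ∧ ∀ A : X.Opens, IsAffineOpen A → ClO I q c 𝒜 ((⊤ : X.Opens) ⊓ A) := by
    refine compact_open_induction_on (P := fun S => ClO I q c 𝒜 S ∧ ∀ A : X.Opens, IsAffineOpen A →
      ClO I q c 𝒜 (S ⊓ A)) ⊤ isCompact_univ ⟨hA _ hbot, fun A _ => ?_⟩ ?_
    · rw [bot_inf_eq]
      exact hA _ hbot
    · rintro S hS U ⟨h1, h2⟩
      refine ⟨clO_sup I hI q c h1 (hA _ U.2) (h2 _ U.2), fun A hAA => ?_⟩
      rw [inf_sup_right]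
      refine clO_sup I hI q c (h2 A hAA) (hA _ (U.2.inf hAA)) ?_
      have e : S ⊓ A ⊓ (U.1 ⊓ A) = S ⊓ (U.1 ⊓ A) := by
        rw [inf_assoc, inf_left_comm A, inf_idem]
      rw [e]
      exact h2 _ (U.2.inf hAA)
  exact key.1

end

include hI in
/-- Mayer-Vietoris induction. -/
theorem cl_of_qcqs {X : Scheme.{u}} [CompactSpace X] [QuasiSeparatedSpace X] (q : X ⟶ Spec R) (c : X ⟶ T)
    (hA : ∀ (V : Scheme.{u}) (h : V ⟶ X) [IsOpenImmersion h] [IsAffine V], Cl I 𝒜 (h ≫ q) (h ≫ c)) :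
    Cl I 𝒜 q c := by
  apply cl_of_top
  refine compact_open_induction_on (P := fun S => ClO I q c 𝒜 S) ⊤ isCompact_univ ?_ ?_
  · have : IsAffine ((⊥ : X.Opens) : Scheme.{u}) := isAffineOpen_bot X
    exact hA _ (⊥ : X.Opens).ι
  · intro S hS U h1
    have : IsAffine (U.1 : Scheme.{u}) := U.2
    refine clO_sup I hI q c h1 (hA _ U.1.ι) ?_
    have hc : IsCompact ((S ⊓ U.1 : X.Opens) : Set X) := hS.inter_of_isOpen U.2.isCompact S.2 U.1.2
    have : CompactSpace ((S ⊓ U.1 : X.Opens) : Scheme.{u}) := isCompact_iff_compactSpace.1 hc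
    have : ((S ⊓ U.1 : X.Opens) : Scheme.{u}).IsSeparated := by
      constructor
      have : terminal.from ((S ⊓ U.1 : X.Opens) : Scheme.{u}) = X.homOfLE inf_le_right ≫
        terminal.from (U.1 : Scheme.{u}) := Subsingleton.elim _ _
      rw [this]
      infer_instance
    refine cl_of_separated I hI _ _ fun A hAA => ?_
    have : IsAffine (A : Scheme.{u}) := hAA
    have h2 := hA _ (A.ι ≫ (S ⊓ U.1).ι)
    rw [Category.assoc, Category.assoc] at h2
    exact h2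

end K570.MVind
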