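import Groth.Agent.Adeq.K570.SpecModel
import Groth.Agent.Adeq.K570.CA
import Groth.Agent.Adeq.K569.BC
import Groth.Agent.Adeq.K570.Local

/-!
# The first two degrees of the Cech complex
-/

set_option autoImplicit false
set_option linter.unusedSectionVars false
universe u v w

open CategoryTheory CategoryTheory.Limits Opposite AlgebraicGeometry TensorProduct

noncomputable section

namespace K570.Two

open K570.CechM K570.FFAlg K570.FFCech K570.SpecModel K570.CA K570.Local

section

variable {C : Type u} [Category.{v} C] (P : Cᵒᵖ ⥤ AddCommGrpCat.{w}) {U V : C} {g : V ⟶ U} (m : Model g)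

/-- Gluing from exactness in degree zero. -/
theorem exists_of_ex_zero (h : m.Ex P 0) (x : P.obj (op V))
    (hx : ∀ (Z : C) (a b : Z ⟶ V), a ≫ g = b ≫ g → res P a x = res P b x) : ∃ y, res P g y = x := by
  obtain ⟨y₀, hy₀⟩ := h (res P (m.π 1 0) x) (by
    rw [m.d_one, res_res, res_res, sub_eq_zero]
    apply hx
    rw [Category.assoc, m.w, Category.assoc, m.w, m.face_b, m.face_b])
  let c : U ⟶ m.W 0 := m.lift 0 (𝟙 U) (fun i => i.elim0) (fun i => i.elim0)
  have hc : c ≫ m.b 0 = 𝟙 U := m.lift_b _ _ _ _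
  let e : V ⟶ m.W 1 := m.lift 1 g (fun _ => 𝟙 V) (fun _ => Category.id_comp _)
  have heb : e ≫ m.b 1 = g := m.lift_b _ _ _ _
  have heπ : e ≫ m.π 1 0 = 𝟙 V := m.lift_π _ _ _ _ _
  have he : e ≫ m.face 0 0 = g ≫ c := by
    apply m.hom_ext
    · rw [Category.assoc, m.face_b, Category.assoc, hc, Category.comp_id, heb]
    · exact fun i => i.elim0
  refine ⟨res P c y₀, ?_⟩
  rw [m.d_zero] at hy₀
  rw [res_res, ← he, ← res_res, hy₀, res_res, heπ, res_id]

end

section

variable {R : Type u} [CommRing R] (F : Adeq.MVF R) (hF : FlatBC F) (B : Type u) [CommRing B] [Algebra R B]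
  [Module.FaithfullyFlat R B]

theorem tens_square_ext {X Y : Type u} [CommRing X] [Algebra R X] [CommRing Y] [Algebra R Y]
    {Z : Adeq.Alg R} (a : Adeq.algOf R X ⟶ Z) (b : Adeq.algOf R Y ⟶ Z) :
    ∃ l : Adeq.algOf R (X ⊗[R] Y) ⟶ Z,
      CommAlgCat.ofHom (Algebra.TensorProduct.includeLeft : X →ₐ[R] X ⊗[R] Y) ≫ l = a ∧
      CommAlgCat.ofHom (Algebra.TensorProduct.includeRight : Y →ₐ[R] X ⊗[R] Y) ≫ l = b := by
  refine ⟨CommAlgCat.ofHom (Algebra.TensorProduct.productMap a.hom b.hom), ?_, ?_⟩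
  · ext x
    change Algebra.TensorProduct.productMap a.hom b.hom (x ⊗ₜ 1) = a.hom x
    simp
  · ext x
    change Algebra.TensorProduct.productMap a.hom b.hom (1 ⊗ₜ x) = b.hom x
    simp

include hF in
theorem exact_two :
    Function.Injective (F.map (Adeq.ptHom (CommAlgCat.ofHom (Algebra.ofId R B) : Adeq.algOf R R ⟶ Adeq.algOf R B))) ∧
      ∀ y : F.obj (Adeq.pt (Adeq.algOf R B)),
        F.map (Adeq.ptHom (CommAlgCat.ofHom
            (Algebra.TensorProduct.includeLeft : B →ₐ[R] B ⊗[R] B) : Adeq.algOf R B ⟶ Adeq.algOf R (B ⊗[R] B))) y =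
          F.map (Adeq.ptHom (CommAlgCat.ofHom
            (Algebra.TensorProduct.includeRight : B →ₐ[R] B ⊗[R] B) : Adeq.algOf R B ⟶ Adeq.algOf R (B ⊗[R] B))) y →
        y ∈ Set.range (F.map
          (Adeq.ptHom (CommAlgCat.ofHom (Algebra.ofId R B) : Adeq.algOf R R ⟶ Adeq.algOf R B))) := by
  refine ⟨injective_of_flatBC F hF _, fun y hy => ?_⟩
  have h0 := ex_of_flatBC F (tModel (R := R) B) hF 0
  refine exists_of_ex_zero F.presheaf (tModel (R := R) B) h0 y (fun Z a b _ => ?_)
  obtain ⟨l, hl, hl'⟩ := tens_square_ext (Z := Z.unop) a.unop b.unop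
  have ha : a = l.op ≫ (CommAlgCat.ofHom (Algebra.TensorProduct.includeLeft : B →ₐ[R] B ⊗[R] B)).op := by
    rw [← op_comp, hl]
    rfl
  have hb : b = l.op ≫ (CommAlgCat.ofHom (Algebra.TensorProduct.includeRight : B →ₐ[R] B ⊗[R] B)).op := by
    rw [← op_comp, hl']
    rfl
  rw [ha, hb, ← res_res, ← res_res]
  exact congrArg (res F.presheaf l.op) hy

end

section

variable {Q : MorphismProperty Scheme.{u}} [Good Q] [BigSite.OSh (Scheme.precoverage Q)]
  {S : Scheme.{u}} (M : BigSite.Mod (Scheme.precoverage Q) S) (hM : Adeq.adequateMod (Scheme.precoverage Q) S M)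

theorem flatBC_of_adequate {R : Type u} [CommRing R] {F : Adeq.MVF R} (hF : Adeq.adequate R F) : FlatBC F :=
  fun _ _ f hf => K569.BC.isIso_bc hF f hf

include hM in
theorem fbc : FBC M.val := fun _ a => flatBC_of_adequate (adqAt_of_adequateMod hM a)

include hM in
theorem ca : CA M.val.presheaf := ca_of_flatBC (fbc M hM)

include hM in
theorem sepA : SepA M.val.presheaf := sepA_of_flatBC (fbc M hM)

end

end K570.Two
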