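import Groth.Agent.Adeq.K569.QCS2
import Groth.Agent.AlgSp.K646.Cartan
import Groth.Agent.Etrest.RAcyc
import Groth.Agent.Adeq.K570.MVind
import Groth.Agent.Adeq.K570.Two

/-!
# Adequate modules are acyclic on affine objects, for injective resolutions by modules
-/

set_option autoImplicit false
set_option linter.unusedSectionVars false
universe u

open CategoryTheory CategoryTheory.Limits Opposite AlgebraicGeometry Simplicial

noncomputable section

namespace K570.Acyc

open K569.Basic K570.GeoAd K570.CovGeo K570.Local K570.MVgeo K570.ExF K644.Site K644.Cartan K644.Cech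

variable {Q : MorphismProperty Scheme.{u}} [Good Q] [BigSite.OSh (Scheme.precoverage Q)] {T : Scheme.{u}}

/-- The underlying abelian sheaf is Cech acyclic for affine coverings. -/
def Acy (M : BigSite.Mod (Scheme.precoverage Q) T) : Prop :=
  AffAcyc.{u + 1} (Over.forget T) ((SheafOfModules.toSheaf.{u + 1} (BigSite.ORing (Scheme.precoverage Q) T)).obj M)

theorem acy_of_adequate {M : BigSite.Mod (Scheme.precoverage Q) T}
    (hM : Adeq.adequateMod (Scheme.precoverage Q) T M) : Acy M :=
  K569.QCS.affAcyc_of_ca _ (K570.Two.ca M hM)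

theorem step {C : ShortComplex (BigSite.Mod (Scheme.precoverage Q) T)} (hC : C.ShortExact) (hI : Injective C.X₂)
    (h : Acy C.X₁) :
    (∀ U : Over T, IsAffine U.left → Function.Surjective (C.g.val.app (op U))) ∧ Acy C.X₃ :=
  K646.Cartan.step.{u + 1} (J := QuotSh.J (Scheme.precoverage Q) T) (fun U : Over T => IsAffine U.left)
    (fun ⦃_ _⦄ f => AffCov (QuotSh.J (Scheme.precoverage Q) T) (Over.forget T) f)
    (fun _ _ f hf n => isAffine_cechNerve (T := Over.forget T) f hf.src hf.tgt n)
    (fun _ _ f hf => hf.mem)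
    (fun I Q' q hq U hU s => by
      have hls : Sheaf.IsLocallySurjective q := (Sheaf.isLocallySurjective_iff_epi' _ _).2 hq
      exact exists_lift (T := Over.forget T) q hls U hU s) hC h

section

variable {R : CommRingCat.{u}} {X : Scheme.{u}} (q : X ⟶ Spec R) (c : X ⟶ T)

theorem isAffine_E [IsAffine X] (B : Adeq.Alg R) : IsAffine ((K570.Geo.geo q c).E.obj (op B)).left :=
  IsAffine.of_isIso (pr_isPullback q c B).isoPullback.hom

theorem exactAt [IsAffine X] {M : BigSite.Mod (Scheme.precoverage Q) T} (hM : Acy M) (I : InjectiveResolution M)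
    (n : ℕ) : (cx I.cocomplex q c).ExactAt (n + 1) := by
  refine Groth.Agent.Etrest.RAcyc.exactAt_of_class (ΨSh (Scheme.precoverage Q) q c) Acy ?_ hM I n
  intro S hS hI h
  obtain ⟨h1, h2⟩ := step hS hI h
  refine ⟨h2, ?_⟩
  rw [epi_iff]
  intro B
  exact h1 _ (isAffine_E q c B)

/-- The zeroth homology. -/
def homologyZero [HasInjectiveResolutions (BigSite.Mod (Scheme.precoverage Q) T)]
    {M : BigSite.Mod (Scheme.precoverage Q) T} (I : InjectiveResolution M) :
    (cx I.cocomplex q c).homology 0 ≅ (ΨSh (Scheme.precoverage Q) q c).obj M :=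
  (I.isoRightDerivedObj (ΨSh (Scheme.precoverage Q) q c) 0).symm ≪≫
    (ΨSh (Scheme.precoverage Q) q c).rightDerivedZeroIsoSelf.app M

variable {𝒜 : ObjectProperty (Adeq.MVF R)} [𝒜.IsClosedUnderIsomorphisms] [𝒜.IsClosedUnderKernels]
  [𝒜.IsClosedUnderCokernels] [𝒜.IsClosedUnderExtensions]

/-- The base case. -/
theorem cl_affine [IsAffine X] [HasInjectiveResolutions (BigSite.Mod (Scheme.precoverage Q) T)]
    {M : BigSite.Mod (Scheme.precoverage Q) T} (hM : Acy M) (I : InjectiveResolution M)
    (h0 : 𝒜 ((ΨSh (Scheme.precoverage Q) q c).obj M)) : Cl I.cocomplex 𝒜 q c := by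
  intro n
  cases n with
  | zero => exact 𝒜.prop_of_iso (homologyZero q c I).symm h0
  | succ n =>
    have h := (HomologicalComplex.exactAt_iff_isZero_homology _ _).1 (exactAt q c hM I n)
    have h1 : 𝒜 (kernel (𝟙 ((ΨSh (Scheme.precoverage Q) q c).obj M))) := MVabs.prop_kernel _ h0 h0
    refine 𝒜.prop_of_iso (IsZero.iso ?_ h) h1
    exact isZero_kernel_of_mono _

theorem cl_of_adequate [CompactSpace X] [QuasiSeparatedSpace X]
    [HasInjectiveResolutions (BigSite.Mod (Scheme.precoverage Q) T)]
    {M : BigSite.Mod (Scheme.precoverage Q) T} (hM : Acy M) (I : InjectiveResolution M)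
    (h0 : ∀ (V : Scheme.{u}) (h : V ⟶ X) [IsOpenImmersion h] [IsAffine V],
      𝒜 ((ΨSh (Scheme.precoverage Q) (h ≫ q) (h ≫ c)).obj M)) : Cl I.cocomplex 𝒜 q c :=
  MVind.cl_of_qcqs I.cocomplex (fun n => I.injective n) q c fun V h _ _ => cl_affine _ _ hM I (h0 V h)

end

end K570.Acyc
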