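import Groth.Agent.Adeq.K570.Shf
import Groth.Agent.Adeq.K569.Colim
import Groth.Agent.Adeq.K569.AB

/-!
# Colimits of adequate modules
-/

set_option autoImplicit false
set_option linter.unusedSectionVars false
universe u v w

open CategoryTheory CategoryTheory.Limits Opposite AlgebraicGeometry

noncomputable section

namespace K570.Colims

open K569.Basic K570.CechM K570.Cov K570.Geo K570.Fam K570.Local K570.Refine2 K570.CA K570.Two K570.Shf K570.ExF

section Pres

variable (K : Precoverage Scheme.{u}) [BigSite.OSh K] {R : Type u} [CommRing R] {T : Scheme.{u}} (F : Fam R T)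
  (J : Type (u + 1)) [SmallCategory J]

attribute [local instance] K569.AB.reflectsIso

theorem hasColimitsMVF : HasColimitsOfShape J (Adeq.MVF R) :=
  PresheafOfModules.hasColimitsOfShape.{u + 1, u, u + 1, u + 1, u + 1, u} (Adeq.ringOf R) J

theorem preservesToPresheaf : PreservesColimitsOfShape J (PresheafOfModules.toPresheaf.{u + 1} (Adeq.ringOf R)) :=
  PresheafOfModules.toPresheaf_preservesColimitsOfShape.{u + 1, u, u + 1, u + 1, u + 1, u} (Adeq.ringOf R) J

theorem preservesΦ : PreservesColimitsOfShape J (Φ K F) where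
  preservesColimit {D} := by
    have := hasColimitsMVF (R := R) J
    have := preservesToPresheaf (R := R) J
    have h1 : PreservesColimit D (PresheafOfModules.toPresheaf _ ⋙ (Functor.whiskeringLeft _ _ _).obj F.E.op) :=
      inferInstance
    let i : PresheafOfModules.toPresheaf _ ⋙ (Functor.whiskeringLeft _ _ _).obj F.E.op ≅
      Φ K F ⋙ PresheafOfModules.toPresheaf.{u + 1} (Adeq.ringOf R) := Iso.refl _
    have h2 : PreservesColimit D (Φ K F ⋙ PresheafOfModules.toPresheaf.{u + 1} (Adeq.ringOf R)) :=
      preservesColimit_of_natIso D i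
    have h3 : ReflectsColimit (D ⋙ Φ K F) (PresheafOfModules.toPresheaf.{u + 1} (Adeq.ringOf R)) :=
      reflectsColimit_of_reflectsIsomorphisms _ _
    exact preservesColimit_of_reflects_of_preserves (Φ K F) (PresheafOfModules.toPresheaf.{u + 1} (Adeq.ringOf R))

theorem preservesToMVFPre {R : CommRingCat.{u}} (a : Spec R ⟶ T) : PreservesColimitsOfShape J (Adeq.toMVFPre K a) :=
  preservesΦ K (spec a) J

end Pres

variable {Q : MorphismProperty Scheme.{u}} [Good Q] [BigSite.OSh (Scheme.precoverage Q)] {S : Scheme.{u}}

/-- The counit. -/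
def counitIso : SheafOfModules.forget (BigSite.ORing (Scheme.precoverage Q) S) ⋙ sh Q S ≅ 𝟭 _ :=
  let i := asIso (PresheafOfModules.sheafificationAdjunction.{u + 1}
    (𝟙 (BigSite.ORing (Scheme.precoverage Q) S).obj)).counit
  i

instance : (sh Q S).IsLeftAdjoint := inferInstance

theorem adequateMod_colimit {J : Type (u + 1)} [SmallCategory J] (D : J ⥤ BigSite.Mod (Scheme.precoverage Q) S)
    (hD : ∀ j, Adeq.adequateMod (Scheme.precoverage Q) S (D.obj j)) :
    Adeq.adequateMod (Scheme.precoverage Q) S (colimit D) := by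
  let D' := D ⋙ SheafOfModules.forget _
  have hc : HasColimit D' := inferInstance
  let i : colimit D ≅ (sh Q S).obj (colimit D') :=
    HasColimit.isoOfNatIso ((Functor.isoWhiskerLeft D counitIso).symm) ≪≫ (preservesColimitIso (sh Q S) D').symm
  refine (Adeq.adequateMod (Scheme.precoverage Q) S).prop_of_iso i.symm ?_
  refine adequateMod_sheafification _ fun R a => ?_
  have := preservesToMVFPre (Scheme.precoverage Q) J a
  have := hasColimitsMVF (R := R) J
  exact (Adeq.adequate R).prop_of_iso (preservesColimitIso (Adeq.toMVFPre (Scheme.precoverage Q) a) D').symm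
    (K569.Colim.adequate_colimit _ fun j => adqAt_of_adequateMod (hD j) a)

theorem adequateMod_cokernel {M N : BigSite.Mod (Scheme.precoverage Q) S} (φ : M ⟶ N)
    (hM : Adeq.adequateMod (Scheme.precoverage Q) S M) (hN : Adeq.adequateMod (Scheme.precoverage Q) S N) :
    Adeq.adequateMod (Scheme.precoverage Q) S (cokernel φ) := by
  let φ' := (SheafOfModules.forget _).map φ
  let i : (sh Q S).obj (cokernel φ') ≅ cokernel φ :=
    PreservesCokernel.iso (sh Q S) φ' ≪≫ cokernel.mapIso _ _ (counitIso.app M) (counitIso.app N)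
      (counitIso.hom.naturality φ)
  refine (Adeq.adequateMod (Scheme.precoverage Q) S).prop_of_iso i ?_
  refine adequateMod_sheafification _ fun R a => ?_
  exact (Adeq.adequate R).prop_of_iso (PreservesCokernel.iso (Adeq.toMVFPre (Scheme.precoverage Q) a) φ').symm
    (K569.Cok.adequate_cokernel _ (adqAt_of_adequateMod hM a) (adqAt_of_adequateMod hN a))

end K570.Colims
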