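import Groth.Prelude.Def_QuotSh
import Groth.Agent.Adeq.K570.CechM
import Mathlib.AlgebraicGeometry.Morphisms.QuasiSeparated
import Mathlib.AlgebraicGeometry.Morphisms.UniversallyOpen
import Mathlib.CategoryTheory.Sites.Over
import Mathlib.Algebra.Category.Grp.Limits

/-!
# Coverings of the big sites and gluing of sections, elementwise
-/

set_option autoImplicit false
universe w v u
open CategoryTheory CategoryTheory.Limits AlgebraicGeometry Opposite

noncomputable section

namespace K570.Cov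

open K570.CechM

/-! ### Gluing on a general site -/

section Site

variable {C : Type u} [Category.{v} C] {J : GrothendieckTopology C} {F : Cᵒᵖ ⥤ AddCommGrpCat.{w}}

theorem isSheaf_type (hF : Presheaf.IsSheaf J F) : Presieve.IsSheaf J (F ⋙ forget AddCommGrpCat.{w}) := by
  rw [← isSheaf_iff_isSheaf_of_type]
  exact Presheaf.isSheaf_comp_of_isSheaf J F (forget AddCommGrpCat.{w}) hF

theorem isSheaf_of_type {F : Cᵒᵖ ⥤ AddCommGrpCat.{max u v}} (hF : Presieve.IsSheaf J (F ⋙ forget AddCommGrpCat.{max u v})) :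
    Presheaf.IsSheaf J F := by
  rw [Presheaf.isSheaf_iff_isSheaf_forget J F (forget AddCommGrpCat.{max u v}), isSheaf_iff_isSheaf_of_type]
  exact hF

theorem sep (hF : Presheaf.IsSheaf J F) {U : C} {ι : Type*} {V : ι → C} (g : ∀ i, V i ⟶ U)
    (h : Sieve.ofArrows V g ∈ J U) (s t : F.obj (op U)) (hst : ∀ i, res F (g i) s = res F (g i) t) : s = t := by
  refine ((isSheaf_type hF).isSeparated _ h).ext ?_
  rintro W f ⟨Z, a, b, ⟨i⟩, rfl⟩
  rw [op_comp, CategoryTheory.Functor.map_comp]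
  exact congrArg ((F ⋙ forget AddCommGrpCat.{w}).map a.op) (hst i)

theorem glue (hF : Presheaf.IsSheaf J F) {U : C} {ι : Type*} {V : ι → C} (g : ∀ i, V i ⟶ U)
    (h : Sieve.ofArrows V g ∈ J U) (s : ∀ i, F.obj (op (V i)))
    (hs : ∀ (i j : ι) (Z : C) (a : Z ⟶ V i) (b : Z ⟶ V j), a ≫ g i = b ≫ g j → res F a (s i) = res F b (s j)) :
    ∃ t : F.obj (op U), ∀ i, res F (g i) t = s i := by
  have hsh := (isSheaf_type hF) _ h
  rw [Sieve.ofArrows, ← Presieve.isSheafFor_iff_generate, Presieve.isSheafFor_arrows_iff] at hsh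
  obtain ⟨τ, hτ, -⟩ := hsh s (fun i j Z a b hab => hs i j Z a b hab)
  exact ⟨τ, hτ⟩

theorem sep_one (hF : Presheaf.IsSheaf J F) {U V : C} (g : V ⟶ U)
    (h : Sieve.ofArrows (fun _ : Unit => V) (fun _ => g) ∈ J U) (s t : F.obj (op U)) (hst : res F g s = res F g t) :
    s = t :=
  sep hF _ h s t (fun _ => hst)

/-- On a covering the augmented Cech complex starts exactly. -/
theorem ex_zero (hF : Presheaf.IsSheaf J F) {U V : C} {g : V ⟶ U}
    (h : Sieve.ofArrows (fun _ : Unit => V) (fun _ => g) ∈ J U) (m : Model g) : m.Ex F 0 := by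
  intro x hx
  -- the two restrictions of `x` to `W 2` agree
  rw [Model.d_one] at hx
  have hx' := eq_of_sub_eq_zero hx
  -- `V → W 1`
  let e : V ⟶ m.W 1 := m.lift 1 g (fun _ => 𝟙 V) (fun _ => Category.id_comp _)
  have he : e ≫ m.b 1 = g := m.lift_b _ _ _ _
  have heπ : e ≫ m.π 1 0 = 𝟙 V := m.lift_π _ _ _ _ _
  obtain ⟨t, ht⟩ := glue hF (fun _ : Unit => g) h (fun _ => res F e x) (by
    intro _ _ Z a b hab
    let l : Z ⟶ m.W 2 := m.lift 2 (a ≫ g) ![a, b] (by
      intro i
      fin_cases i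
      · rfl
      · exact hab.symm)
    have hl0 : l ≫ m.face 1 0 = b ≫ e := by
      apply m.hom_ext
      · simp only [Category.assoc, m.face_b, he]
        exact (m.lift_b _ _ _ _).trans hab
      · intro i
        obtain rfl : i = 0 := Subsingleton.elim _ _
        simp only [Category.assoc, m.face_π, heπ, Category.comp_id]
        exact m.lift_π _ _ _ _ _
    have hl1 : l ≫ m.face 1 1 = a ≫ e := by
      apply m.hom_ext
      · simp only [Category.assoc, m.face_b, he]
        exact m.lift_b _ _ _ _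
      · intro i
        obtain rfl : i = 0 := Subsingleton.elim _ _
        simp only [Category.assoc, m.face_π, heπ, Category.comp_id]
        exact m.lift_π _ _ _ _ _
    rw [res_res, res_res, ← hl0, ← hl1, ← res_res, ← res_res, hx'])
  refine ⟨res F (m.b 0) t, ?_⟩
  rw [Model.d_zero, res_res, m.face_b]
  have h1 : m.b 1 = m.π 1 0 ≫ g := (m.w 1 0).symm
  rw [h1, ← res_res, ht (), res_res]
  have h2 : m.π 1 0 ≫ e = 𝟙 _ := by
    apply m.hom_ext
    · rw [Category.assoc, he, Category.id_comp, m.w]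
    · intro i
      obtain rfl : i = 0 := Subsingleton.elim _ _
      rw [Category.assoc, heπ, Category.comp_id, Category.id_comp]
  rw [h2, res_id]

/-- On a covering the augmentation of the Cech complex is injective. -/
theorem d_zero_injective (hF : Presheaf.IsSheaf J F) {U V : C} {g : V ⟶ U}
    (h : Sieve.ofArrows (fun _ : Unit => V) (fun _ => g) ∈ J U) (m : Model g) (x y : F.obj (op (m.W 0)))
    (hxy : m.d F 0 x = m.d F 0 y) : x = y := by
  rw [Model.d_zero, Model.d_zero] at hxy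
  let c : U ⟶ m.W 0 := m.lift 0 (𝟙 U) (fun i => i.elim0) (fun i => i.elim0)
  have hc : c ≫ m.b 0 = 𝟙 U := m.lift_b _ _ _ _
  have hc' : m.b 0 ≫ c = 𝟙 _ := by
    apply m.hom_ext
    · rw [Category.assoc, hc, Category.comp_id, Category.id_comp]
    · exact fun i => i.elim0
  let e : V ⟶ m.W 1 := m.lift 1 g (fun _ => 𝟙 V) (fun _ => Category.id_comp _)
  have he : e ≫ m.face 0 0 = g ≫ c := by
    apply m.hom_ext
    · rw [Category.assoc, m.face_b, Category.assoc, hc, Category.comp_id]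
      exact m.lift_b _ _ _ _
    · exact fun i => i.elim0
  have h1 : res F c x = res F c y := by
    apply sep_one hF g h
    rw [res_res, res_res, ← he, ← res_res, ← res_res, hxy]
  have h2 := congrArg (res F (m.b 0)) h1
  rwa [res_res, res_res, hc', res_id, res_id] at h2

end Site

/-! ### Coverings of the big site of a scheme -/

section Big

variable {Q : MorphismProperty Scheme.{u}} [Q.IsMultiplicative] [Q.IsStableUnderBaseChange]

theorem mem_grothendieckTopology_iff_forall {X : Scheme.{u}} {S : Sieve X} :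
    S ∈ Scheme.grothendieckTopology Q X ↔ ∀ x : X, ∃ (Y : Scheme.{u}) (g : Y ⟶ X), S g ∧ Q g ∧
      x ∈ Set.range g := by
  rw [Scheme.mem_grothendieckTopology_iff]
  constructor
  · rintro ⟨𝒰, h⟩ x
    obtain ⟨i, y, hy⟩ := 𝒰.exists_eq x
    exact ⟨𝒰.X i, 𝒰.f i, h _ _ ⟨i⟩, 𝒰.map_prop i, ⟨y, hy⟩⟩
  · intro h
    choose Y g hg hP hy using h
    let 𝒰 : Scheme.Cover.{u} (Scheme.precoverage Q) X :=
      { I₀ := X
        X := Y
        f := g
        mem₀ := by
          rw [Scheme.presieve₀_mem_precoverage_iff]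
          exact ⟨fun x => ⟨x, hy x⟩, hP⟩ }
    refine ⟨𝒰, ?_⟩
    rintro _ _ ⟨i⟩
    exact hg i

/-- Covering sieves of the big site for the topology attached to a class of morphisms. -/
theorem mem_J_iff {S : Scheme.{u}} {T : Over S} {R : Sieve T} :
    R ∈ QuotSh.J (Scheme.precoverage Q) S T ↔ ∀ x : T.left, ∃ (Y : Over S) (g : Y ⟶ T), R g ∧ Q g.left ∧
      x ∈ Set.range g.left := by
  change R ∈ (Scheme.grothendieckTopology Q).over S T ↔ _
  rw [GrothendieckTopology.mem_over_iff, mem_grothendieckTopology_iff_forall]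
  constructor
  · intro h x
    obtain ⟨Y, g, hg, hP, hx⟩ := h x
    rw [Sieve.overEquiv_iff] at hg
    exact ⟨_, _, hg, hP, hx⟩
  · intro h x
    obtain ⟨Y, g, hg, hP, hx⟩ := h x
    refine ⟨Y.left, g.left, ?_, hP, hx⟩
    rw [Sieve.overEquiv_iff]
    have := R.downward_closed hg (Over.homMk (𝟙 _) (by simp) : Over.mk (g.left ≫ T.hom) ⟶ Y)
    convert this using 1
    ext
    simp

/-- A family of `Q`-morphisms which is jointly surjective is a covering. -/
theorem ofArrows_mem {S : Scheme.{u}} {T : Over S} {ι : Type*} {V : ι → Over S} (f : ∀ i, V i ⟶ T)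
    (h : ∀ x : T.left, ∃ i, Q (f i).left ∧ x ∈ Set.range (f i).left) :
    Sieve.ofArrows V f ∈ QuotSh.J (Scheme.precoverage Q) S T := by
  rw [mem_J_iff]
  intro x
  obtain ⟨i, h1, h2⟩ := h x
  exact ⟨V i, f i, Sieve.ofArrows_mk _ _ i, h1, h2⟩

/-- Local refinement of a covering sieve by an affine scheme. -/
theorem exists_affine (hz : ∀ {X Y : Scheme.{u}} (f : X ⟶ Y), IsOpenImmersion f → Q f) {S : Scheme.{u}} {T : Over S}
    {R : Sieve T} (hR : R ∈ QuotSh.J (Scheme.precoverage Q) S T) (x : T.left) :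
    ∃ (Y : Over S) (g : Y ⟶ T), R g ∧ Q g.left ∧ IsAffine Y.left ∧ x ∈ Set.range g.left := by
  obtain ⟨Y, g, hg, h1, y, rfl⟩ := mem_J_iff.1 hR x
  obtain ⟨W, hW, hyW, -⟩ := exists_isAffineOpen_mem_and_subset (x := y) (U := ⊤) (by trivial)
  let Y' : Over S := Over.mk (W.ι ≫ Y.hom)
  let i : Y' ⟶ Y := Over.homMk W.ι rfl
  refine ⟨Y', i ≫ g, R.downward_closed hg i, ?_, ?_, ?_⟩
  · change Q (W.ι ≫ g.left)
    exact Q.comp_mem _ _ (hz _ inferInstance) h1
  · exact hW
  · exact ⟨(⟨y, hyW⟩ : W), rfl⟩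

/-- Finite refinement of a covering sieve of a quasi-compact scheme by affine schemes. -/
theorem exists_finite_affine (hz : ∀ {X Y : Scheme.{u}} (f : X ⟶ Y), IsOpenImmersion f → Q f)
    (ho : ∀ {X Y : Scheme.{u}} (f : X ⟶ Y), Q f → IsOpenMap f) {S : Scheme.{u}} (T : Over S)
    [CompactSpace T.left] {R : Sieve T} (hR : R ∈ QuotSh.J (Scheme.precoverage Q) S T) :
    ∃ (n : ℕ) (V : Fin n → Over S) (f : ∀ i, V i ⟶ T), (∀ i, R (f i)) ∧ (∀ i, IsAffine (V i).left) ∧
      (∀ i, Q (f i).left) ∧ ∀ x : T.left, ∃ i, x ∈ Set.range (f i).left := by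
  choose Y g h1 h2 h3 h4 using exists_affine hz hR
  obtain ⟨t, ht⟩ := isCompact_univ.elim_finite_subcover (fun x => Set.range (g x).left)
    (fun x => (ho _ (h2 x)).isOpen_range) (fun x _ => Set.mem_iUnion.2 ⟨x, h4 x⟩)
  refine ⟨t.card, fun i => Y (t.equivFin.symm i), fun i => g (t.equivFin.symm i),
    fun i => h1 _, fun i => h3 _, fun i => h2 _, fun x => ?_⟩
  obtain ⟨y, hy⟩ := Set.mem_iUnion.1 (ht (Set.mem_univ x))
  obtain ⟨hyt, hy⟩ := Set.mem_iUnion.1 hy
  refine ⟨t.equivFin ⟨y, hyt⟩, ?_⟩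
  have hz : t.equivFin.symm (t.equivFin ⟨y, hyt⟩) = ⟨y, hyt⟩ := Equiv.symm_apply_apply _ _
  change x ∈ Set.range (g ((t.equivFin.symm (t.equivFin ⟨y, hyt⟩) : t) : T.left)).left
  rw [hz]
  exact hy

end Big

end K570.Cov
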