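import Groth.Agent.Adeq.K570.GeoAd
import Groth.Agent.Adeq.K570.Cov
import Groth.Agent.Adeq.K570.Glue

/-!
# Coverings and the functors `B ↦ M(X ×_R Spec B)`
-/

set_option autoImplicit false
set_option linter.unusedSectionVars false
universe u

open CategoryTheory CategoryTheory.Limits Opposite AlgebraicGeometry

noncomputable section

namespace K570.CovGeo

open K569.Basic K570.CechM K570.Fam K570.Geo K570.GeoMod K570.GeoAd K570.Cov K570.Glue

variable {R : CommRingCat.{u}} {T : Scheme.{u}}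

section Maps

variable {X V : Scheme.{u}} (q : X ⟶ Spec R) (c : X ⟶ T) (h : V ⟶ X)

/-- The map of families attached to a morphism. -/
def mor {q' : V ⟶ Spec R} {c' : V ⟶ T} (hq : h ≫ q = q') (hc : h ≫ c = c') : geo q' c' ⟶ geo q c :=
  hom (geoG q' c') (geoG q c) h hq hc

/-- The components. -/
abbrev morE {q' : V ⟶ Spec R} {c' : V ⟶ T} (hq : h ≫ q = q') (hc : h ≫ c = c') (B : Adeq.Alg R) :
    (geo q' c').E.obj (op B) ⟶ (geo q c).E.obj (op B) := (Hom.η (mor q c h hq hc)).app (op B)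

/-- The projection of the canonical family. -/
abbrev pr (B : Adeq.Alg R) : ((geo q c).E.obj (op B)).left ⟶ X := (geoG q c).p B

theorem pr_c (B : Adeq.Alg R) : pr q c B ≫ c = ((geo q c).E.obj (op B)).hom := (geoG q c).p_c B

/-- The projection of the canonical family. -/
abbrev qr (B : Adeq.Alg R) : ((geo q c).E.obj (op B)).left ⟶ Spec (CommRingCat.of B) := toSpec ((geo q c).ρ B)

theorem pr_isPullback (B : Adeq.Alg R) : IsPullback (pr q c B) (qr q c B) q (sp B) := (geoG q c).isPullback B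

theorem morE_pr {q' : V ⟶ Spec R} {c' : V ⟶ T} (hq : h ≫ q = q') (hc : h ≫ c = c') (B : Adeq.Alg R) :
    (morE q c h hq hc B).left ≫ pr q c B = pr q' c' B ≫ h := hom_left_p _ _ h hq hc B

theorem morE_qr {q' : V ⟶ Spec R} {c' : V ⟶ T} (hq : h ≫ q = q') (hc : h ≫ c = c') (B : Adeq.Alg R) :
    (morE q c h hq hc B).left ≫ qr q c B = qr q' c' B := homApp_toSpec _ _ h hq B

theorem morE_isPullback {q' : V ⟶ Spec R} {c' : V ⟶ T} (hq : h ≫ q = q') (hc : h ≫ c = c') (B : Adeq.Alg R) :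
    IsPullback (pr q' c' B) (morE q c h hq hc B).left h (pr q c B) := by
  refine IsPullback.of_bot ?_ (morE_pr q c h hq hc B).symm (pr_isPullback q c B)
  rw [morE_qr, hq]
  exact pr_isPullback q' c' B

theorem mor_comp {q' : V ⟶ Spec R} {c' : V ⟶ T} (hq : h ≫ q = q') (hc : h ≫ c = c') {W : Scheme.{u}} (h' : W ⟶ V)
    {q'' : W ⟶ Spec R} {c'' : W ⟶ T} (hq' : h' ≫ q' = q'') (hc' : h' ≫ c' = c'') :
    mor q' c' h' hq' hc' ≫ mor q c h hq hc =
      mor q c (h' ≫ h) (by rw [Category.assoc, hq, hq']) (by rw [Category.assoc, hc, hc']) :=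
  hom_comp _ _ h' hq' hc' _ h hq hc

theorem mor_congr {q' : V ⟶ Spec R} {c' : V ⟶ T} {h' : V ⟶ X} (e : h = h') (hq : h ≫ q = q') (hc : h ≫ c = c') :
    mor q c h hq hc = mor q c h' (by rw [← e, hq]) (by rw [← e, hc]) := by
  subst e
  rfl

theorem res_morE {q' : V ⟶ Spec R} {c' : V ⟶ T} (hq : h ≫ q = q') (hc : h ≫ c = c') {W : Scheme.{u}} (h' : W ⟶ V)
    {q'' : W ⟶ Spec R} {c'' : W ⟶ T} (hq' : h' ≫ q' = q'') (hc' : h' ≫ c' = c'') (B : Adeq.Alg R)
    (P : (Over T)ᵒᵖ ⥤ AddCommGrpCat.{u + 1}) (x : P.obj (op ((geo q c).E.obj (op B)))) :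
    res P (morE q' c' h' hq' hc' B) (res P (morE q c h hq hc B) x) =
      res P (morE q c (h' ≫ h) (by rw [Category.assoc, hq, hq']) (by rw [Category.assoc, hc, hc']) B) x := by
  rw [res_res]
  apply res_congr
  have := congrArg (fun t => (Hom.η t).app (op B)) (mor_comp q c h hq hc h' hq' hc')
  exact this

theorem morE_congr {q' : V ⟶ Spec R} {c' : V ⟶ T} {h' : V ⟶ X} (e : h = h') (hq : h ≫ q = q') (hc : h ≫ c = c')
    (B : Adeq.Alg R) : morE q c h hq hc B = morE q c h' (by rw [← e, hq]) (by rw [← e, hc]) B := by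
  subst e
  rfl

/-- Fibre products. -/
theorem exists_lift {V' : Scheme.{u}} (h' : V' ⟶ X) (B : Adeq.Alg R) {Z : Over T}
    (a : Z ⟶ (geo (h ≫ q) (h ≫ c)).E.obj (op B)) (b : Z ⟶ (geo (h' ≫ q) (h' ≫ c)).E.obj (op B))
    (hab : a ≫ morE q c h rfl rfl B = b ≫ morE q c h' rfl rfl B) :
    ∃ l : Z ⟶ (geo (pullback.fst h h' ≫ h ≫ q) (pullback.fst h h' ≫ h ≫ c)).E.obj (op B),
      l ≫ morE (h ≫ q) (h ≫ c) (pullback.fst h h') rfl rfl B = a ∧
      l ≫ morE (h' ≫ q) (h' ≫ c) (pullback.snd h h') (by rw [← Category.assoc, ← pullback.condition, Category.assoc])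
        (by rw [← Category.assoc, ← pullback.condition, Category.assoc]) B = b := by
  have habl : a.left ≫ (morE q c h rfl rfl B).left = b.left ≫ (morE q c h' rfl rfl B).left :=
    congrArg CommaMorphism.left hab
  have h1 : (a.left ≫ pr (h ≫ q) (h ≫ c) B) ≫ h = (b.left ≫ pr (h' ≫ q) (h' ≫ c) B) ≫ h' := by
    rw [Category.assoc, Category.assoc, ← morE_pr q c h rfl rfl, ← morE_pr q c h' rfl rfl, ← Category.assoc, habl,
      Category.assoc]
  let l₀ : Z.left ⟶ pullback h h' := pullback.lift _ _ h1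
  have hl₀ : l₀ ≫ pullback.fst h h' = a.left ≫ pr (h ≫ q) (h ≫ c) B := pullback.lift_fst _ _ _
  have hl₀' : l₀ ≫ pullback.snd h h' = b.left ≫ pr (h' ≫ q) (h' ≫ c) B := pullback.lift_snd _ _ _
  let P := pr_isPullback (pullback.fst h h' ≫ h ≫ q) (pullback.fst h h' ≫ h ≫ c) B
  let l : Z.left ⟶ ((geo (pullback.fst h h' ≫ h ≫ q) (pullback.fst h h' ≫ h ≫ c)).E.obj (op B)).left :=
    P.lift l₀ (a.left ≫ qr (h ≫ q) (h ≫ c) B) (by
      rw [← Category.assoc, hl₀, Category.assoc, (pr_isPullback (h ≫ q) (h ≫ c) B).w, Category.assoc])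
  have hl : l ≫ pr (pullback.fst h h' ≫ h ≫ q) (pullback.fst h h' ≫ h ≫ c) B = l₀ := P.lift_fst _ _ _
  have hl' : l ≫ qr (pullback.fst h h' ≫ h ≫ q) (pullback.fst h h' ≫ h ≫ c) B = a.left ≫ qr (h ≫ q) (h ≫ c) B :=
    P.lift_snd _ _ _
  refine ⟨Over.homMk l ?_, ?_, ?_⟩
  · rw [← pr_c, ← Category.assoc, hl, ← Category.assoc, hl₀, Category.assoc, pr_c, Over.w a]
  · ext : 1
    apply (pr_isPullback (h ≫ q) (h ≫ c) B).hom_ext
    · change (l ≫ (morE (h ≫ q) (h ≫ c) (pullback.fst h h') rfl rfl B).left) ≫ _ = _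
      rw [Category.assoc, morE_pr, ← Category.assoc, hl, hl₀]
    · change (l ≫ (morE (h ≫ q) (h ≫ c) (pullback.fst h h') rfl rfl B).left) ≫ _ = _
      rw [Category.assoc, morE_qr, hl']
  · ext : 1
    apply (pr_isPullback (h' ≫ q) (h' ≫ c) B).hom_ext
    · change (l ≫ (morE (h' ≫ q) (h' ≫ c) (pullback.snd h h') _ _ B).left) ≫ _ = _
      rw [Category.assoc, morE_pr, ← Category.assoc, hl, hl₀']
    · change (l ≫ (morE (h' ≫ q) (h' ≫ c) (pullback.snd h h') _ _ B).left) ≫ _ = _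
      rw [Category.assoc, morE_qr, hl', ← morE_qr q c h rfl rfl, ← Category.assoc, habl, Category.assoc, morE_qr]

end Maps

section Sheaf

variable {Q : MorphismProperty Scheme.{u}} [Q.IsMultiplicative] [Q.IsStableUnderBaseChange]
  [BigSite.OSh (Scheme.precoverage Q)] (M : BigSite.Mod (Scheme.precoverage Q) T)
  {X : Scheme.{u}} (q : X ⟶ Spec R) (c : X ⟶ T) {ι : Type*} (V : ι → Scheme.{u}) (h : ∀ i, V i ⟶ X)
  (hQ : ∀ i, Q (h i)) (hcov : ∀ x : X, ∃ i, x ∈ Set.range (h i))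

include hQ hcov in
theorem cov_mem (B : Adeq.Alg R) :
    Sieve.ofArrows (fun i => (geo (h i ≫ q) (h i ≫ c)).E.obj (op B)) (fun i => morE q c (h i) rfl rfl B) ∈
      QuotSh.J (Scheme.precoverage Q) T ((geo q c).E.obj (op B)) := by
  apply ofArrows_mem
  intro x
  obtain ⟨i, y, hy⟩ := hcov (pr q c B x)
  refine ⟨i, Q.of_isPullback (morE_isPullback q c (h i) rfl rfl B) (hQ i), ?_⟩
  obtain ⟨z, -, hz⟩ := Scheme.exists_preimage_of_isPullback (morE_isPullback q c (h i) rfl rfl B) y x hy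
  exact ⟨z, hz⟩

/-- Restriction of sections. -/
abbrev rs {V : Scheme.{u}} (h : V ⟶ X) {q' : V ⟶ Spec R} {c' : V ⟶ T} (hq : h ≫ q = q') (hc : h ≫ c = c') :
    (ΨSh (Scheme.precoverage Q) q c).obj M ⟶ (ΨSh (Scheme.precoverage Q) q' c').obj M :=
  ΦHomApp (Scheme.precoverage Q) (mor q c h hq hc) M.val

theorem rs_apply {V : Scheme.{u}} (h : V ⟶ X) {q' : V ⟶ Spec R} {c' : V ⟶ T} (hq : h ≫ q = q') (hc : h ≫ c = c')
    (B : Adeq.Alg R) (x : M.val.presheaf.obj (op ((geo q c).E.obj (op B)))) :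
    ap (rs M q c h hq hc) B x = res M.val.presheaf (morE q c h hq hc B) x := rfl

include hQ hcov in
theorem ext_cover (B : Adeq.Alg R) (x : ((ΨSh (Scheme.precoverage Q) q c).obj M).obj (Adeq.pt B))
    (hx : ∀ i, ap (rs M q c (h i) rfl rfl) B x = 0) : x = 0 := by
  refine sep M.isSheaf _ (cov_mem q c V h hQ hcov B) x 0 (fun i => ?_)
  rw [map_zero]
  exact hx i

include hQ hcov in
theorem glue_cover (B : Adeq.Alg R)
    (x : ∀ i, ((ΨSh (Scheme.precoverage Q) (h i ≫ q) (h i ≫ c)).obj M).obj (Adeq.pt B))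
    (hx : ∀ i j, ap (rs M (h i ≫ q) (h i ≫ c) (pullback.fst (h i) (h j)) rfl rfl) B (x i) =
      ap (rs M (h j ≫ q) (h j ≫ c) (pullback.snd (h i) (h j))
        (by rw [← Category.assoc, ← pullback.condition, Category.assoc])
        (by rw [← Category.assoc, ← pullback.condition, Category.assoc])) B (x j)) :
    ∃ y, ∀ i, ap (rs M q c (h i) rfl rfl) B y = x i := by
  refine glue M.isSheaf _ (cov_mem q c V h hQ hcov B) x (fun i j Z a b hab => ?_)
  obtain ⟨l, rfl, rfl⟩ := exists_lift q c (h i) (h j) B a b hab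
  rw [← res_res, ← res_res]
  exact congrArg (res M.val.presheaf l) (hx i j)

variable {𝒜 : ObjectProperty (Adeq.MVF R)} [𝒜.IsClosedUnderIsomorphisms] [𝒜.IsClosedUnderFiniteProducts]
  [𝒜.IsClosedUnderKernels]

theorem prop_of_cover {ι : Type} [Finite ι] (V : ι → Scheme.{u}) (h : ∀ i, V i ⟶ X)
    (hQ : ∀ i, Q (h i)) (hcov : ∀ x : X, ∃ i, x ∈ Set.range (h i))
    (hA : ∀ i, 𝒜 ((ΨSh (Scheme.precoverage Q) (h i ≫ q) (h i ≫ c)).obj M))
    (hC : ∀ i j, 𝒜 ((ΨSh (Scheme.precoverage Q) (pullback.fst (h i) (h j) ≫ h i ≫ q)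
      (pullback.fst (h i) (h j) ≫ h i ≫ c)).obj M)) :
    𝒜 ((ΨSh (Scheme.precoverage Q) q c).obj M) := by
  refine prop_of_glue (ι := ι) (κ := ι × ι)
    (fun i => (ΨSh (Scheme.precoverage Q) (h i ≫ q) (h i ≫ c)).obj M)
    (fun k => (ΨSh (Scheme.precoverage Q) (pullback.fst (h k.1) (h k.2) ≫ h k.1 ≫ q)
      (pullback.fst (h k.1) (h k.2) ≫ h k.1 ≫ c)).obj M) (fun k => k.1) (fun k => k.2)
    (fun i => rs M q c (h i) rfl rfl)
    (fun k => rs M (h k.1 ≫ q) (h k.1 ≫ c) (pullback.fst (h k.1) (h k.2)) rfl rfl)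
    (fun k => rs M (h k.2 ≫ q) (h k.2 ≫ c) (pullback.snd (h k.1) (h k.2))
      (by rw [← Category.assoc, ← pullback.condition, Category.assoc])
      (by rw [← Category.assoc, ← pullback.condition, Category.assoc])) ?_ ?_ ?_ hA (fun k => hC k.1 k.2)
  · intro k
    apply hom_ext'
    intro B x
    change res M.val.presheaf _ (res M.val.presheaf _ x) = res M.val.presheaf _ (res M.val.presheaf _ x)
    rw [res_morE, res_morE]
    exact res_congr M.val.presheaf (morE_congr q c _ pullback.condition _ _ B) x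
  · exact ext_cover M q c V h hQ hcov
  · intro B x hx
    exact glue_cover M q c V h hQ hcov B x (fun i j => hx (i, j))

end Sheaf

end K570.CovGeo
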