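import Groth.Prelude.Def_Adeq
import Mathlib.RingTheory.Flat.FaithfullyFlat.Basic
import Mathlib.RingTheory.Flat.FaithfullyFlat.Algebra
import Mathlib.RingTheory.IsTensorProduct
import Mathlib.RingTheory.RingHom.Flat
import Mathlib.RingTheory.TensorProduct.Basic

/-!
# Flat base change for module-valued functors, unbundled
-/

set_option autoImplicit false
universe u v w

open CategoryTheory Opposite TensorProduct

noncomputable section

namespace K570.FFAlg

section Algebra

/-- Base change along a pushout of rings. -/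
theorem isBaseChange_of_isPushout (R S A B : Type*) [CommRing R] [CommRing S] [CommRing A] [CommRing B]
    [Algebra R S] [Algebra R A] [Algebra S B] [Algebra A B] [Algebra R B] [IsScalarTower R A B]
    [IsScalarTower R S B] [Algebra.IsPushout R S A B]
    (E M : Type*) [AddCommGroup E] [Module R E] [Module A E] [IsScalarTower R A E]
    [AddCommGroup M] [Module R M] [Module S M] [Module A M] [Module B M] [IsScalarTower R S M]
    [IsScalarTower S B M] [IsScalarTower A B M] [IsScalarTower R A M]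
    (r : E →ₗ[A] M) (hr : IsBaseChange B r) : IsBaseChange S (r.restrictScalars R : E →ₗ[R] M) := by
  refine IsBaseChange.of_equiv ((Algebra.IsPushout.cancelBaseChange R S A B E).symm ≪≫ₗ
    (hr.equiv.restrictScalars S)) ?_
  intro x
  change hr.equiv ((Algebra.IsPushout.cancelBaseChange R S A B E).symm (1 ⊗ₜ[R] x)) = r x
  rw [Algebra.IsPushout.cancelBaseChange_symm_tmul, map_one, IsBaseChange.equiv_tmul, one_smul]

/-- Change of the algebra instance. -/
theorem isBaseChange_congr_algebra {A B E M : Type*} [CommRing A] [CommRing B] [AddCommGroup E] [Module A E]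
    [AddCommGroup M] [Module A M] [Module B M] (i i' : Algebra A B) (h : ∀ a : A, i.algebraMap a = i'.algebraMap a)
    (t : @IsScalarTower A B M i.toSMul _ _) (t' : @IsScalarTower A B M i'.toSMul _ _) (r : E →ₗ[A] M)
    (hr : @IsBaseChange A E M B _ _ _ _ i _ _ _ t r) : @IsBaseChange A E M B _ _ _ _ i' _ _ _ t' r := by
  obtain rfl : i = i' := Algebra.algebra_ext _ _ h
  exact hr

/-- Descent of the image of a linear map along a faithfully flat base change. -/
theorem mem_range_of_baseChange (R B : Type*) [CommRing R] [CommRing B] [Algebra R B] [Module.FaithfullyFlat R B]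
    {N N' M M' : Type*} [AddCommGroup N] [Module R N] [AddCommGroup N'] [Module R N']
    [AddCommGroup M] [Module R M] [Module B M] [IsScalarTower R B M]
    [AddCommGroup M'] [Module R M'] [Module B M'] [IsScalarTower R B M']
    (r : N →ₗ[R] M) (r' : N' →ₗ[R] M') (hr : IsBaseChange B r) (hr' : IsBaseChange B r')
    (d : N →ₗ[R] N') (d' : M →ₗ[B] M') (hd : ∀ x, d' (r x) = r' (d x)) (x : N')
    (hx : ∃ y, d' y = r' x) : ∃ y, d y = x := by
  obtain ⟨y, hy⟩ := hx
  have key : ∀ y : M, (LinearMap.baseChange B (Submodule.mkQ (LinearMap.range d))) (hr'.equiv.symm (d' y)) = 0 := by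
    intro y
    refine hr.inductionOn y
      (fun y => (LinearMap.baseChange B (Submodule.mkQ (LinearMap.range d))) (hr'.equiv.symm (d' y)) = 0) ?_ ?_ ?_ ?_
    · rw [map_zero, map_zero, map_zero]
    · intro m
      rw [hd, IsBaseChange.equiv_symm_apply, LinearMap.baseChange_tmul]
      have : (LinearMap.range d).mkQ (d m) = 0 := by
        rw [Submodule.mkQ_apply, Submodule.Quotient.mk_eq_zero]
        exact ⟨m, rfl⟩
      rw [this, TensorProduct.tmul_zero]
    · intro b m hm
      rw [map_smul, map_smul, map_smul, hm, smul_zero]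
    · intro a b ha hb
      rw [map_add, map_add, map_add, ha, hb, add_zero]
  have h1 := key y
  rw [hy, IsBaseChange.equiv_symm_apply, LinearMap.baseChange_tmul] at h1
  have h2 : (LinearMap.range d).mkQ x = 0 := by
    apply Module.FaithfullyFlat.tensorProduct_mk_injective (A := R) (B := B) (N' ⧸ LinearMap.range d)
    change (1 : B) ⊗ₜ[R] ((LinearMap.range d).mkQ x) = (1 : B) ⊗ₜ[R] 0
    rw [h1, TensorProduct.tmul_zero]
  rw [Submodule.mkQ_apply, Submodule.Quotient.mk_eq_zero] at h2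
  exact h2

/-- A base change map along a faithfully flat map is injective. -/
theorem injective_of_baseChange (R B : Type*) [CommRing R] [CommRing B] [Algebra R B] [Module.FaithfullyFlat R B]
    {N M : Type*} [AddCommGroup N] [Module R N] [AddCommGroup M] [Module R M] [Module B M] [IsScalarTower R B M]
    (r : N →ₗ[R] M) (hr : IsBaseChange B r) : Function.Injective r := by
  intro x y hxy
  apply Module.FaithfullyFlat.tensorProduct_mk_injective (A := R) (B := B) N
  apply hr.equiv.injective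
  change hr.equiv ((1 : B) ⊗ₜ[R] x) = hr.equiv ((1 : B) ⊗ₜ[R] y)
  rw [IsBaseChange.equiv_tmul, IsBaseChange.equiv_tmul, hxy]

end Algebra

section MVF

variable {R : Type u} [CommRing R] (F : Adeq.MVF R)

/-- The transition map of `F` as an additive map. -/
def tr {B B' : Adeq.Alg R} (f : B ⟶ B') : F.obj (Adeq.pt B) →+ F.obj (Adeq.pt B') where
  toFun x := F.map (Adeq.ptHom f) x
  map_zero' := map_zero _
  map_add' := map_add _

theorem tr_smul {B B' : Adeq.Alg R} (f : B ⟶ B') (b : B) (x : F.obj (Adeq.pt B)) :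
    tr F f (b • x) = f.hom b • tr F f x := by
  exact F.map_smul (Adeq.ptHom f) b x

theorem tr_comp {B B' B'' : Adeq.Alg R} (f : B ⟶ B') (g : B' ⟶ B'') (x : F.obj (Adeq.pt B)) :
    tr F g (tr F f x) = tr F (f ≫ g) x := by
  exact (F.map_comp_apply (Adeq.ptHom f) (Adeq.ptHom g) x).symm

theorem tr_id {B : Adeq.Alg R} (x : F.obj (Adeq.pt B)) : tr F (𝟙 B) x = x := by
  have h := F.map_id (Adeq.pt B)
  have h2 := congrArg (fun t => t.hom x) h
  exact h2

theorem isBaseChange_tr {B B' : Adeq.Alg R} (f : B ⟶ B') (h : IsIso (F.bc f)) :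
    letI : Algebra B B' := f.hom.toRingHom.toAlgebra
    letI : Module B (F.obj (Adeq.pt B')) := Module.compHom _ f.hom.toRingHom
    letI : IsScalarTower B B' (F.obj (Adeq.pt B')) := ⟨fun a b c => by
      change (f.hom a * b) • c = f.hom a • b • c
      rw [mul_smul]⟩
    IsBaseChange B' ({ toFun := tr F f, map_add' := map_add _, map_smul' := tr_smul F f } :
      F.obj (Adeq.pt B) →ₗ[B] F.obj (Adeq.pt B')) := by
  let a1 : Algebra B B' := f.hom.toRingHom.toAlgebra
  let a2 : Module B (F.obj (Adeq.pt B')) := Module.compHom _ f.hom.toRingHom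
  have a3 : IsScalarTower B B' (F.obj (Adeq.pt B')) := ⟨fun a b c => by
      change (f.hom a * b) • c = f.hom a • b • c
      rw [mul_smul]⟩
  have h1 : Function.Bijective (F.bc f) := by
    exact ConcreteCategory.bijective_of_isIso (F.bc f)
  let e : (B' ⊗[B] F.obj (Adeq.pt B)) ≃ₗ[B'] F.obj (Adeq.pt B') := LinearEquiv.ofBijective (F.bc f).hom h1
  refine IsBaseChange.of_equiv e ?_
  intro x
  change (1 : B') • F.map (Adeq.ptHom f) x = F.map (Adeq.ptHom f) x
  rw [one_smul]

/-- The map `C ⟶ C ⊗ B`. -/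
def incl (C : Adeq.Alg R) (B : Type u) [CommRing B] [Algebra R B] : C ⟶ Adeq.algOf R (C ⊗[R] B) :=
  CommAlgCat.ofHom Algebra.TensorProduct.includeLeft

/-- The flatness of `C → C ⊗ B`. -/
theorem flat_incl (C : Adeq.Alg R) (B : Type u) [CommRing B] [Algebra R B] [Module.Flat R B] :
    (incl C B).hom.toRingHom.Flat := by
  have h : (algebraMap C (C ⊗[R] B)).Flat := by
    rw [RingHom.flat_algebraMap_iff]
    infer_instance
  exact h

theorem tr_incl_smul (C : Adeq.Alg R) (B : Type u) [CommRing B] [Algebra R B] (r : R) (x : F.obj (Adeq.pt C)) :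
    tr F (incl C B) (algebraMap R C r • x) = algebraMap R (C ⊗[R] B) r • tr F (incl C B) x := by
  refine (tr_smul F (incl C B) (algebraMap R C r) x).trans ?_
  rw [AlgHom.commutes]

/-- `F(C) → F(C ⊗ B)` is a base change along `R → B`. -/
theorem isBaseChange_incl (C : Adeq.Alg R) (B : Type u) [CommRing B] [Algebra R B] (h : IsIso (F.bc (incl C B))) :
    letI : Module R (F.obj (Adeq.pt C)) := Module.compHom _ (algebraMap R C)
    letI : Module B (F.obj (Adeq.pt (Adeq.algOf R (C ⊗[R] B)))) :=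
      Module.compHom _ (Algebra.TensorProduct.includeRight : B →ₐ[R] C ⊗[R] B).toRingHom
    letI : Module R (F.obj (Adeq.pt (Adeq.algOf R (C ⊗[R] B)))) := Module.compHom _ (algebraMap R (C ⊗[R] B))
    letI : IsScalarTower R B (F.obj (Adeq.pt (Adeq.algOf R (C ⊗[R] B)))) := ⟨fun a b c => by
      change ((1 : C) ⊗ₜ[R] (a • b)) • c = algebraMap R (C ⊗[R] B) a • ((1 : C) ⊗ₜ[R] b) • c
      rw [← mul_smul, ← Algebra.smul_def, TensorProduct.tmul_smul]⟩
    IsBaseChange B ({ toFun := tr F (incl C B), map_add' := map_add _, map_smul' := tr_incl_smul F C B } :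
      F.obj (Adeq.pt C) →ₗ[R] F.obj (Adeq.pt (Adeq.algOf R (C ⊗[R] B)))) := by
  have h1 := isBaseChange_tr F (incl C B) h
  let b1 : Algebra B (C ⊗[R] B) := Algebra.TensorProduct.rightAlgebra
  let a1 : Module R (F.obj (Adeq.pt C)) := Module.compHom _ (algebraMap R C)
  let a2 : Module C (F.obj (Adeq.pt (Adeq.algOf R (C ⊗[R] B)))) := Module.compHom _ (incl C B).hom.toRingHom
  let a3 : Module B (F.obj (Adeq.pt (Adeq.algOf R (C ⊗[R] B)))) :=
      Module.compHom _ (Algebra.TensorProduct.includeRight : B →ₐ[R] C ⊗[R] B).toRingHom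
  let a4 : Module R (F.obj (Adeq.pt (Adeq.algOf R (C ⊗[R] B)))) := Module.compHom _ (algebraMap R (C ⊗[R] B))
  let a5 : Module (C ⊗[R] B) (F.obj (Adeq.pt (Adeq.algOf R (C ⊗[R] B)))) :=
    inferInstanceAs (Module (Adeq.algOf R (C ⊗[R] B)) (F.obj (Adeq.pt (Adeq.algOf R (C ⊗[R] B)))))
  have i1 : IsScalarTower R B (C ⊗[R] B) := inferInstance
  have i0 : Algebra.IsPushout R B C (C ⊗[R] B) := inferInstance
  have i2 : IsScalarTower R C (F.obj (Adeq.pt C)) := ⟨fun a b c => by
      change (a • b) • c = algebraMap R C a • b • c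
      rw [← mul_smul, ← Algebra.smul_def]⟩
  have i3 : IsScalarTower R B (F.obj (Adeq.pt (Adeq.algOf R (C ⊗[R] B)))) := ⟨fun a b c => by
      change ((1 : C) ⊗ₜ[R] (a • b)) • c = algebraMap R (C ⊗[R] B) a • ((1 : C) ⊗ₜ[R] b) • c
      rw [← mul_smul, ← Algebra.smul_def, TensorProduct.tmul_smul]⟩
  have i4 : IsScalarTower B (C ⊗[R] B) (F.obj (Adeq.pt (Adeq.algOf R (C ⊗[R] B)))) := ⟨fun a b c => by
      change (a • b) • c = ((1 : C) ⊗ₜ[R] a) • b • c
      rw [← mul_smul, Algebra.smul_def]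
      rfl⟩
  have i5 : IsScalarTower C (C ⊗[R] B) (F.obj (Adeq.pt (Adeq.algOf R (C ⊗[R] B)))) := ⟨fun a b c => by
      change (a • b) • c = (a ⊗ₜ[R] (1 : B)) • b • c
      rw [← mul_smul, Algebra.smul_def]
      rfl⟩
  have i6 : IsScalarTower R C (F.obj (Adeq.pt (Adeq.algOf R (C ⊗[R] B)))) := ⟨fun a b c => by
      change ((a • b) ⊗ₜ[R] (1 : B)) • c = algebraMap R (C ⊗[R] B) a • (b ⊗ₜ[R] (1 : B)) • c
      rw [← mul_smul, ← Algebra.smul_def, TensorProduct.smul_tmul']⟩
  exact isBaseChange_of_isPushout R B C (C ⊗[R] B) (F.obj (Adeq.pt C))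
    (F.obj (Adeq.pt (Adeq.algOf R (C ⊗[R] B))))
    ({ toFun := tr F (incl C B), map_add' := map_add _, map_smul' := tr_smul F (incl C B) } :
      F.obj (Adeq.pt C) →ₗ[C] F.obj (Adeq.pt (Adeq.algOf R (C ⊗[R] B))))
    (isBaseChange_congr_algebra ((incl C B).hom.toRingHom.toAlgebra : Algebra C (C ⊗[R] B))
      Algebra.TensorProduct.leftAlgebra (fun _ => rfl) _ _ _ h1)

/-- Descent of images. -/
theorem descend {C C' : Adeq.Alg R} (B : Type u) [CommRing B] [Algebra R B] [Module.FaithfullyFlat R B]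
    (h : IsIso (F.bc (incl C B))) (h' : IsIso (F.bc (incl C' B)))
    (D : F.obj (Adeq.pt C) →+ F.obj (Adeq.pt C'))
    (hD : ∀ (r : R) x, D ((algebraMap R C r) • x) = algebraMap R C' r • D x)
    (D' : F.obj (Adeq.pt (Adeq.algOf R (C ⊗[R] B))) →+ F.obj (Adeq.pt (Adeq.algOf R (C' ⊗[R] B))))
    (hD' : ∀ (b : B) y, D' (((1 : C) ⊗ₜ[R] b : Adeq.algOf R (C ⊗[R] B)) • y) =
      ((1 : C') ⊗ₜ[R] b : Adeq.algOf R (C' ⊗[R] B)) • D' y)
    (hc : ∀ x, D' (tr F (incl C B) x) = tr F (incl C' B) (D x)) (x : F.obj (Adeq.pt C'))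
    (hx : ∃ y, D' y = tr F (incl C' B) x) : ∃ y, D y = x := by
  have h1 := isBaseChange_incl F C B h
  have h2 := isBaseChange_incl F C' B h'
  let a1 : Module R (F.obj (Adeq.pt C)) := Module.compHom _ (algebraMap R C)
  let a2 : Module B (F.obj (Adeq.pt (Adeq.algOf R (C ⊗[R] B)))) :=
      Module.compHom _ (Algebra.TensorProduct.includeRight : B →ₐ[R] C ⊗[R] B).toRingHom
  let a3 : Module R (F.obj (Adeq.pt (Adeq.algOf R (C ⊗[R] B)))) := Module.compHom _ (algebraMap R (C ⊗[R] B))
  have a4 : IsScalarTower R B (F.obj (Adeq.pt (Adeq.algOf R (C ⊗[R] B)))) := ⟨fun a b c => by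
      change ((1 : C) ⊗ₜ[R] (a • b)) • c = algebraMap R (C ⊗[R] B) a • ((1 : C) ⊗ₜ[R] b) • c
      rw [← mul_smul, ← Algebra.smul_def, TensorProduct.tmul_smul]⟩
  let b1 : Module R (F.obj (Adeq.pt C')) := Module.compHom _ (algebraMap R C')
  let b2 : Module B (F.obj (Adeq.pt (Adeq.algOf R (C' ⊗[R] B)))) :=
      Module.compHom _ (Algebra.TensorProduct.includeRight : B →ₐ[R] C' ⊗[R] B).toRingHom
  let b3 : Module R (F.obj (Adeq.pt (Adeq.algOf R (C' ⊗[R] B)))) := Module.compHom _ (algebraMap R (C' ⊗[R] B))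
  have b4 : IsScalarTower R B (F.obj (Adeq.pt (Adeq.algOf R (C' ⊗[R] B)))) := ⟨fun a b c => by
      change ((1 : C') ⊗ₜ[R] (a • b)) • c = algebraMap R (C' ⊗[R] B) a • ((1 : C') ⊗ₜ[R] b) • c
      rw [← mul_smul, ← Algebra.smul_def, TensorProduct.tmul_smul]⟩
  exact mem_range_of_baseChange R B _ _ h1 h2
    ({ toFun := D, map_add' := map_add _, map_smul' := hD } : F.obj (Adeq.pt C) →ₗ[R] F.obj (Adeq.pt C'))
    ({ toFun := D', map_add' := map_add _, map_smul' := hD' } :
      F.obj (Adeq.pt (Adeq.algOf R (C ⊗[R] B))) →ₗ[B] F.obj (Adeq.pt (Adeq.algOf R (C' ⊗[R] B)))) hc x hx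

/-- Faithfully flat base change is injective. -/
theorem injective_incl (C : Adeq.Alg R) (B : Type u) [CommRing B] [Algebra R B] [Module.FaithfullyFlat R B]
    (h : IsIso (F.bc (incl C B))) : Function.Injective (tr F (incl C B)) := by
  have h1 := isBaseChange_incl F C B h
  let a1 : Module R (F.obj (Adeq.pt C)) := Module.compHom _ (algebraMap R C)
  let a2 : Module B (F.obj (Adeq.pt (Adeq.algOf R (C ⊗[R] B)))) :=
      Module.compHom _ (Algebra.TensorProduct.includeRight : B →ₐ[R] C ⊗[R] B).toRingHom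
  let a3 : Module R (F.obj (Adeq.pt (Adeq.algOf R (C ⊗[R] B)))) := Module.compHom _ (algebraMap R (C ⊗[R] B))
  have a4 : IsScalarTower R B (F.obj (Adeq.pt (Adeq.algOf R (C ⊗[R] B)))) := ⟨fun a b c => by
      change ((1 : C) ⊗ₜ[R] (a • b)) • c = algebraMap R (C ⊗[R] B) a • ((1 : C) ⊗ₜ[R] b) • c
      rw [← mul_smul, ← Algebra.smul_def, TensorProduct.tmul_smul]⟩
  exact injective_of_baseChange R B _ h1

end MVF

end K570.FFAlg
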