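import Groth.Agent.Adeq.K570.CechM
import Groth.Agent.Adeq.K570.FFAlg

/-!
# The Cech (Amitsur) complex of a faithfully flat algebra, for module-valued functors with flat base change
-/

set_option autoImplicit false
universe u v w

open CategoryTheory Opposite TensorProduct

noncomputable section

namespace K570.FFCech

open K570.CechM K570.FFAlg

variable {R : Type u} [CommRing R] (F : Adeq.MVF R)

/-- Flat base change for a module-valued functor. -/
def FlatBC (F : Adeq.MVF R) : Prop :=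
  ∀ ⦃B B' : Adeq.Alg R⦄ (f : B ⟶ B'), f.hom.toRingHom.Flat → IsIso (F.bc f)

/-- `C ↦ C ⊗ B`. -/
def tens (B : Type u) [CommRing B] [Algebra R B] : Adeq.Alg R ⥤ Adeq.Alg R where
  obj C := Adeq.algOf R (C ⊗[R] B)
  map f := CommAlgCat.ofHom (Algebra.TensorProduct.map f.hom (AlgHom.id R B))
  map_id C := by
    ext : 1
    change Algebra.TensorProduct.map (AlgHom.id R C) (AlgHom.id R B) = AlgHom.id R (C ⊗[R] B)
    exact Algebra.TensorProduct.map_id
  map_comp {C C' C''} f g := by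
    ext : 1
    change Algebra.TensorProduct.map (g.hom.comp f.hom) (AlgHom.id R B) =
      (Algebra.TensorProduct.map g.hom (AlgHom.id R B)).comp
        (Algebra.TensorProduct.map f.hom (AlgHom.id R B))
    rw [← Algebra.TensorProduct.map_comp, AlgHom.comp_id]

/-- `C ⟶ C ⊗ B`. -/
def il (B : Type u) [CommRing B] [Algebra R B] (C : Adeq.Alg R) : C ⟶ (tens B).obj C := incl C B

/-- `B ⟶ C ⊗ B`. -/
def ir (B : Type u) [CommRing B] [Algebra R B] (C : Adeq.Alg R) : Adeq.algOf R B ⟶ (tens B).obj C :=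
  CommAlgCat.ofHom (Algebra.TensorProduct.includeRight : B →ₐ[R] C ⊗[R] B)

theorem tens_hom_ext {C X : Adeq.Alg R} {B : Type u} [CommRing B] [Algebra R B] {f g : (tens B).obj C ⟶ X}
    (h1 : il B C ≫ f = il B C ≫ g) (h2 : ir B C ≫ f = ir B C ≫ g) : f = g := by
  ext : 1
  refine Algebra.TensorProduct.ext ?_ ?_
  · exact congrArg CommAlgCat.Hom.hom h1
  · have := congrArg CommAlgCat.Hom.hom h2
    ext x
    exact DFunLike.congr_fun this x

/-- maps out of `C ⊗ B`. -/
def tensDesc {C X : Adeq.Alg R} {B : Type u} [CommRing B] [Algebra R B] (a : C ⟶ X) (b : Adeq.algOf R B ⟶ X) :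
    (tens B).obj C ⟶ X :=
  CommAlgCat.ofHom (Algebra.TensorProduct.productMap a.hom b.hom)

@[reassoc (attr := simp)]
theorem il_tensDesc {C X : Adeq.Alg R} {B : Type u} [CommRing B] [Algebra R B] (a : C ⟶ X)
    (b : Adeq.algOf R B ⟶ X) : il B C ≫ tensDesc a b = a := by
  ext : 1
  exact Algebra.TensorProduct.productMap_left _ _

@[reassoc (attr := simp)]
theorem ir_tensDesc {C X : Adeq.Alg R} {B : Type u} [CommRing B] [Algebra R B] (a : C ⟶ X)
    (b : Adeq.algOf R B ⟶ X) : ir B C ≫ tensDesc a b = b := by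
  ext : 1
  exact Algebra.TensorProduct.productMap_right _ _

@[reassoc]
theorem il_tens_map {C C' : Adeq.Alg R} (B : Type u) [CommRing B] [Algebra R B] (f : C ⟶ C') :
    il B C ≫ (tens B).map f = f ≫ il B C' := by
  ext : 1
  refine AlgHom.ext fun x => ?_
  change Algebra.TensorProduct.map f.hom (AlgHom.id R B) (x ⊗ₜ[R] (1 : B)) = (f.hom x) ⊗ₜ[R] (1 : B)
  rw [Algebra.TensorProduct.map_tmul, map_one]

@[reassoc]
theorem ir_tens_map {C C' : Adeq.Alg R} (B : Type u) [CommRing B] [Algebra R B] (f : C ⟶ C') :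
    ir B C ≫ (tens B).map f = ir B C' := by
  ext : 1
  refine AlgHom.ext fun x => ?_
  change Algebra.TensorProduct.map f.hom (AlgHom.id R B) ((1 : C) ⊗ₜ[R] x) = (1 : C') ⊗ₜ[R] x
  rw [Algebra.TensorProduct.map_tmul, map_one]
  rfl

/-- `C ⟶ C ⊗ B` is natural. -/
def inclNat (B : Type u) [CommRing B] [Algebra R B] : 𝟭 (Adeq.Alg R) ⟶ tens B where
  app C := il B C
  naturality C C' f := (il_tens_map B f).symm

/-- `R` is initial. -/
theorem hom_ext_base {X : Adeq.Alg R} (f g : Adeq.algOf R R ⟶ X) : f = g := by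
  ext : 1
  exact Subsingleton.elim (α := (R →ₐ[R] X)) _ _

theorem hom_ext_base_op {X : (Adeq.Alg R)ᵒᵖ} (f g : X ⟶ op (Adeq.algOf R R)) : f = g :=
  Quiver.Hom.unop_inj (hom_ext_base _ _)

section Model

variable {B : Type u} [CommRing B] [Algebra R B] {γ : (op (Adeq.algOf R B) : (Adeq.Alg R)ᵒᵖ) ⟶ op (Adeq.algOf R R)}
  (m : Model γ)

/-- Auxiliary map. -/
def deg0 (n : ℕ) : (op ((tens B).obj (m.W n).unop) : (Adeq.Alg R)ᵒᵖ) ⟶ m.W (n + 1) :=
  m.lift (n + 1) ((il B (m.W n).unop).op ≫ m.b n)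
    (Fin.cons (ir B (m.W n).unop).op (fun i => (il B (m.W n).unop).op ≫ m.π n i))
    (fun _ => hom_ext_base_op _ _)

theorem deg0_π_zero (n : ℕ) : deg0 m n ≫ m.π (n + 1) 0 = (ir B (m.W n).unop).op := m.lift_π _ _ _ _ _

theorem deg0_π_succ (n : ℕ) (i : Fin n) : deg0 m n ≫ m.π (n + 1) i.succ = (il B (m.W n).unop).op ≫ m.π n i :=
  m.lift_π _ _ _ _ _

/-- The extra degeneracy after tensoring with `B`. -/
def deg (n : ℕ) : (tens B).obj (m.W (n + 1)).unop ⟶ (tens B).obj (m.W n).unop :=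
  tensDesc (deg0 m n).unop (ir B (m.W n).unop)

theorem deg_face_zero (n : ℕ) : (tens B).map (m.face n 0).unop ≫ deg m n = 𝟙 _ := by
  refine tens_hom_ext ?_ ?_
  · rw [il_tens_map_assoc, deg, il_tensDesc, Category.comp_id]
    apply Quiver.Hom.op_inj
    change deg0 m n ≫ m.face n 0 = (il B (m.W n).unop).op
    apply m.hom_ext
    · exact hom_ext_base_op _ _
    · intro i
      rw [Category.assoc, m.face_π, Fin.succAbove_zero, deg0_π_succ]
  · rw [ir_tens_map_assoc, deg, ir_tensDesc, Category.comp_id]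

theorem deg_face_succ (n : ℕ) (j : Fin (n + 1)) :
    (tens B).map (m.face (n + 1) j.succ).unop ≫ deg m (n + 1) = deg m n ≫ (tens B).map (m.face n j).unop := by
  refine tens_hom_ext ?_ ?_
  · rw [il_tens_map_assoc, deg, deg, il_tensDesc, il_tensDesc_assoc]
    apply Quiver.Hom.op_inj
    change deg0 m (n + 1) ≫ m.face (n + 1) j.succ = ((tens B).map (m.face n j).unop).op ≫ deg0 m n
    apply m.hom_ext
    · exact hom_ext_base_op _ _
    · intro i
      rw [Category.assoc, Category.assoc, m.face_π]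
      refine Fin.cases ?_ (fun i => ?_) i
      · rw [Fin.succ_succAbove_zero, deg0_π_zero, deg0_π_zero, ← op_comp, ir_tens_map]
      · rw [Fin.succ_succAbove_succ, deg0_π_succ, deg0_π_succ, ← m.face_π, ← Category.assoc, ← Category.assoc,
          ← op_comp, il_tens_map, op_comp]
        rfl
  · rw [ir_tens_map_assoc, deg, deg, ir_tensDesc, ir_tensDesc_assoc, ir_tens_map]

theorem ex_tens (P : ((Adeq.Alg R)ᵒᵖ)ᵒᵖ ⥤ AddCommGrpCat.{w}) (n : ℕ) : m.Ex ((tens (R := R) B).op.op ⋙ P) n :=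
  m.ex_of_degen_functor (tens (R := R) B).op P (fun n => (deg m n).op)
    (fun n => Quiver.Hom.unop_inj (deg_face_zero m n)) (fun n j => Quiver.Hom.unop_inj (deg_face_succ m n j)) n

theorem res_eq_tr {X Y : (Adeq.Alg R)ᵒᵖ} (f : X ⟶ Y) (x : F.obj (op Y)) :
    res F.presheaf f x = tr F f.unop x := rfl

/-- The differential on the values of `F`. -/
def dF (n : ℕ) : F.obj (Adeq.pt (m.W n).unop) →+ F.obj (Adeq.pt (m.W (n + 1)).unop) := m.d F.presheaf n

theorem dF_apply (n : ℕ) (x : F.obj (Adeq.pt (m.W n).unop)) :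
    dF F m n x = ∑ j : Fin (n + 1), (-1 : ℤ) ^ (j : ℕ) • tr F (m.face n j).unop x := m.d_apply F.presheaf n x

theorem dF_smul (n : ℕ) (r : R) (x : F.obj (Adeq.pt (m.W n).unop)) :
    dF F m n ((algebraMap R (m.W n).unop r : (m.W n).unop) • x) =
      (algebraMap R (m.W (n + 1)).unop r : (m.W (n + 1)).unop) • dF F m n x := by
  rw [dF_apply, dF_apply, Finset.smul_sum]
  refine Finset.sum_congr rfl fun j _ => ?_
  rw [tr_smul, AlgHom.commutes, smul_comm]

/-- The differential on the values of `F` after base change. -/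
def dF' (n : ℕ) : F.obj (Adeq.pt ((tens B).obj (m.W n).unop)) →+ F.obj (Adeq.pt ((tens B).obj (m.W (n + 1)).unop)) :=
  m.d ((tens (R := R) B).op.op ⋙ F.presheaf) n

theorem dF'_apply (n : ℕ) (x : F.obj (Adeq.pt ((tens B).obj (m.W n).unop))) :
    dF' F m n x = ∑ j : Fin (n + 1), (-1 : ℤ) ^ (j : ℕ) • tr F ((tens B).map (m.face n j).unop) x :=
  m.d_apply ((tens (R := R) B).op.op ⋙ F.presheaf) n x

theorem dF'_smul (n : ℕ) (b : B) (x : F.obj (Adeq.pt ((tens B).obj (m.W n).unop))) :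
    dF' F m n (((ir B (m.W n).unop).hom b) • x) = ((ir B (m.W (n + 1)).unop).hom b) • dF' F m n x := by
  rw [dF'_apply, dF'_apply, Finset.smul_sum]
  refine Finset.sum_congr rfl fun j _ => ?_
  have h : ((tens B).map (m.face n j).unop).hom ((ir B (m.W n).unop).hom b) = (ir B (m.W (n + 1)).unop).hom b :=
    congrArg (fun t => t.hom b) (ir_tens_map B (m.face n j).unop)
  rw [tr_smul, h, smul_comm]

theorem dF'_tr (n : ℕ) (x : F.obj (Adeq.pt (m.W n).unop)) :
    dF' F m n (tr F (il B (m.W n).unop) x) = tr F (il B (m.W (n + 1)).unop) (dF F m n x) := by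
  rw [dF'_apply, dF_apply, map_sum]
  refine Finset.sum_congr rfl fun j _ => ?_
  rw [map_zsmul, tr_comp, tr_comp, il_tens_map]

/-- Exactness of the Cech complex of a faithfully flat algebra. -/
theorem ex_of_flatBC [Module.FaithfullyFlat R B] (hF : FlatBC F) (n : ℕ) : m.Ex F.presheaf n := by
  intro x hx
  refine descend F (C := (m.W n).unop) (C' := (m.W (n + 1)).unop) B (hF _ (flat_incl _ _)) (hF _ (flat_incl _ _))
    (dF F m n) (dF_smul F m n) (dF' F m n) (dF'_smul F m n) (dF'_tr F m n) x ?_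
  have h1 : dF' F m (n + 1) (tr F (il B (m.W (n + 1)).unop) x) = 0 := by
    have hx' : dF F m (n + 1) x = 0 := hx
    rw [dF'_tr, hx', map_zero]
  exact ex_tens m F.presheaf n _ h1

end Model

/-- Injectivity of `F(R) → F(B)`. -/
theorem injective_of_flatBC {B : Type u} [CommRing B] [Algebra R B] [Module.FaithfullyFlat R B] (hF : FlatBC F)
    (f : Adeq.algOf R R ⟶ Adeq.algOf R B) : Function.Injective (tr F f) := by
  have h1 := injective_incl F (Adeq.algOf R R) B (hF _ (flat_incl _ _))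
  let e : Adeq.algOf R B ⟶ (tens B).obj (Adeq.algOf R R) := ir B _
  have he : f ≫ e = incl (Adeq.algOf R R) B := hom_ext_base _ _
  intro x y hxy
  apply h1
  rw [← he]
  have h2 := congrArg (tr F e) hxy
  rwa [tr_comp, tr_comp] at h2

end K570.FFCech
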