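import Groth.Prelude.Def_Adeq2
import Groth.Agent.Adeq.K569.Basic
import Groth.Agent.Adeq.K570.CechM

/-!
# Module-valued functors attached to a family of objects of a big site indexed by algebras

`Fam R T`: a functor `B ↦ E(B)` from (the opposite of) `R`-algebras to schemes over `T` together with natural ring maps
`B → Γ(E(B))`.  `Φ K F P` is the module-valued functor `B ↦ P(E(B))`.
-/

set_option autoImplicit false
set_option linter.dupNamespace false
universe u v w

open CategoryTheory CategoryTheory.Limits Opposite AlgebraicGeometry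

noncomputable section

namespace K570.Fam

open K569.Basic K570.CechM

/-- A family of objects of the big site of `T` indexed by `R`-algebras. -/
structure Fam (R : Type u) [CommRing R] (T : Scheme.{u}) where
  /-- the objects -/
  E : (Adeq.Alg R)ᵒᵖ ⥤ Over T
  /-- the ring maps -/
  ρ (B : Adeq.Alg R) : (B : Type u) →+* Γ((E.obj (op B)).left, ⊤)
  nat {B B' : Adeq.Alg R} (f : B ⟶ B') (b : B) : (E.map f.op).left.appTop.hom (ρ B b) = ρ B' (f.hom b)

variable {R : Type u} [CommRing R] {T : Scheme.{u}}

/-- Morphisms of families. -/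
structure Hom (F F' : Fam R T) where
  /-- the underlying natural transformation -/
  η : F.E ⟶ F'.E
  comp (B : Adeq.Alg R) (b : B) : (η.app (op B)).left.appTop.hom (F'.ρ B b) = F.ρ B b

/-- Morphisms form a category. -/
instance : Category (Fam R T) where
  Hom F F' := Hom F F'
  id F := ⟨𝟙 _, fun B b => by simp⟩
  comp {F F' F''} f g := ⟨f.η ≫ g.η, fun B b => by
    have h1 := f.comp B b
    have h2 := g.comp B b
    simp only [NatTrans.comp_app, Over.comp_left, Scheme.Hom.comp_appTop, CommRingCat.hom_comp, RingHom.comp_apply]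
    rw [h2, h1]⟩
  id_comp f := by
    cases f
    congr 1
  comp_id f := by
    cases f
    congr 1
  assoc f g h := by
    cases f; cases g; cases h
    congr 1

@[simp] theorem id_η (F : Fam R T) : Hom.η (𝟙 F) = 𝟙 _ := rfl
@[simp] theorem comp_η {F F' F'' : Fam R T} (f : F ⟶ F') (g : F' ⟶ F'') : Hom.η (f ≫ g) = Hom.η f ≫ Hom.η g := rfl

theorem hom_ext {F F' : Fam R T} {f g : F ⟶ F'} (h : ∀ B, (Hom.η f).app (op B) = (Hom.η g).app (op B)) : f = g := by
  have : Hom.η f = Hom.η g := by
    ext B : 2
    exact h B.unop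
  obtain ⟨f1, f2⟩ := f
  obtain ⟨g1, g2⟩ := g
  obtain rfl : f1 = g1 := this
  rfl

variable (K : Precoverage Scheme.{u}) [BigSite.OSh K]

section Obj

variable (F : Fam R T)

/-- The ring map to the sections of the structure sheaf. -/
def toSect (B : Adeq.Alg R) : (B : Type u) →+* (BigSite.ORing K T).obj.obj (op (F.E.obj (op B))) :=
  (ULift.ringEquiv.symm : Γ((F.E.obj (op B)).left, ⊤) ≃+* ULift.{u + 1} Γ((F.E.obj (op B)).left, ⊤)).toRingHom.comp
    (F.ρ B)

theorem map_toSect {B B' : Adeq.Alg R} (f : B ⟶ B') (b : B) :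
    (BigSite.ORing K T).obj.map (F.E.map f.op).op (toSect K F B b) = toSect K F B' (f.hom b) := by
  apply ULift.ext
  exact F.nat f b

variable (P : PresheafOfModules.{u + 1} (BigSite.ORing K T).obj)

/-- The underlying functor to abelian groups. -/
def sectAb : (Adeq.Alg R)ᵒᵖᵒᵖ ⥤ Ab.{u + 1} :=
  F.E.op ⋙ (PresheafOfModules.toPresheaf (BigSite.ORing K T).obj).obj P

/-- The module structure over the functions. -/
@[reducible] def moduleO (X : (Adeq.Alg R)ᵒᵖᵒᵖ) :
    Module ((BigSite.ORing K T).obj.obj (op (F.E.obj (op X.unop.unop)))) ((sectAb K F P).obj X) :=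
  (P.obj (op (F.E.obj (op X.unop.unop)))).isModule

/-- The module structure over the algebra. -/
@[reducible] def module (X : (Adeq.Alg R)ᵒᵖᵒᵖ) : Module X.unop.unop ((sectAb K F P).obj X) :=
  letI := moduleO K F P X
  Module.compHom ((sectAb K F P).obj X) (toSect K F X.unop.unop)

/-- The module-valued functor attached to `F` and `P`. -/
def ΦObj : Adeq.MVF R :=
  letI := module K F P
  PresheafOfModules.ofPresheaf (sectAb K F P) (by
    intro X Y f r m
    have h := P.map_smul (F.E.map f.unop).op (toSect K F X.unop.unop r) m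
    refine h.trans ?_
    congr 1
    exact map_toSect K F f.unop.unop r)

variable {P} in
/-- Functoriality in the presheaf of modules. -/
def ΦMap {Q : PresheafOfModules.{u + 1} (BigSite.ORing K T).obj} (ψ : P ⟶ Q) : ΦObj K F P ⟶ ΦObj K F Q :=
  PresheafOfModules.homMk
    (Functor.whiskerLeft F.E.op ((PresheafOfModules.toPresheaf (BigSite.ORing K T).obj).map ψ))
    (by
      intro X r m
      exact (ψ.app (op (F.E.obj (op X.unop.unop)))).hom.map_smul (toSect K F X.unop.unop r) m)

/-- `P ↦ (B ↦ P(E(B)))`. -/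
def Φ : PresheafOfModules.{u + 1} (BigSite.ORing K T).obj ⥤ Adeq.MVF R where
  obj P := ΦObj K F P
  map ψ := ΦMap K F ψ
  map_id P := by ext X x; rfl
  map_comp ψ ψ' := by ext X x; rfl

instance Φ_additive : (Φ K F).Additive where
  map_add := by intros; ext X x; rfl

theorem tr_Φ {B B' : Adeq.Alg R} (f : B ⟶ B') (x : P.obj (op (F.E.obj (op B)))) :
    tr ((Φ K F).obj P) f x = res P.presheaf (F.E.map f.op) x := rfl

theorem smul_Φ (B : Adeq.Alg R) (b : B) (x : ((Φ K F).obj P).obj (Adeq.pt B)) :
    b • x = (show ((Φ K F).obj P).obj (Adeq.pt B) from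
      toSect K F B b • (show P.obj (op (F.E.obj (op B))) from x)) := rfl

theorem app_Φ {P Q : PresheafOfModules.{u + 1} (BigSite.ORing K T).obj} (ψ : P ⟶ Q) (B : Adeq.Alg R)
    (x : P.obj (op (F.E.obj (op B)))) :
    ((Φ K F).map ψ).app (Adeq.pt B) x = ψ.app (op (F.E.obj (op B))) x := rfl

end Obj

section Hom

/-- Functoriality in the family (contravariant). -/
def ΦHomApp {F F' : Fam R T} (h : F ⟶ F') (P : PresheafOfModules.{u + 1} (BigSite.ORing K T).obj) :
    (Φ K F').obj P ⟶ (Φ K F).obj P :=
  mkHom (fun B x => res P.presheaf ((Hom.η h).app (op B)) x)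
    (fun B x y => map_add _ x y)
    (fun B b x => by
      have h1 := P.map_smul ((Hom.η h).app (op B)).op (toSect K F' B b) x
      refine h1.trans ?_
      change _ • (res P.presheaf ((Hom.η h).app (op B)) x) = _
      congr 1
      apply ULift.ext
      exact Hom.comp h B b)
    (fun B B' f x => by
      change res P.presheaf ((Hom.η h).app (op B')) (res P.presheaf (F'.E.map f.op) x) =
        res P.presheaf (F.E.map f.op) (res P.presheaf ((Hom.η h).app (op B)) x)
      rw [res_res, res_res, (Hom.η h).naturality])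

theorem ΦHomApp_app {F F' : Fam R T} (h : F ⟶ F') (P : PresheafOfModules.{u + 1} (BigSite.ORing K T).obj)
    (B : Adeq.Alg R) (x : P.obj (op (F'.E.obj (op B)))) :
    (ΦHomApp K h P).app (Adeq.pt B) x = res P.presheaf ((Hom.η h).app (op B)) x := rfl

/-- Functoriality in the family (contravariant). -/
def ΦHom {F F' : Fam R T} (h : F ⟶ F') : Φ K F' ⟶ Φ K F where
  app P := ΦHomApp K h P
  naturality {P Q} ψ := by
    apply hom_ext'
    intro B x
    change res Q.presheaf ((Hom.η h).app (op B)) (act ((PresheafOfModules.toPresheaf _).map ψ) _ x) =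
      act ((PresheafOfModules.toPresheaf _).map ψ) _ (res P.presheaf ((Hom.η h).app (op B)) x)
    exact (act_res _ _ _).symm

theorem ΦHom_app {F F' : Fam R T} (h : F ⟶ F') (P : PresheafOfModules.{u + 1} (BigSite.ORing K T).obj)
    (B : Adeq.Alg R) (x : P.obj (op (F'.E.obj (op B)))) :
    ((ΦHom K h).app P).app (Adeq.pt B) x = res P.presheaf ((Hom.η h).app (op B)) x := rfl

theorem ΦHom_id (F : Fam R T) : ΦHom K (𝟙 F) = 𝟙 _ := by
  ext P : 2
  apply hom_ext'
  intro B x
  exact res_id P.presheaf _ x

theorem ΦHom_comp {F F' F'' : Fam R T} (h : F ⟶ F') (h' : F' ⟶ F'') :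
    ΦHom K (h ≫ h') = ΦHom K h' ≫ ΦHom K h := by
  ext P : 2
  apply hom_ext'
  intro B x
  exact (res_res P.presheaf _ _ x).symm

/-- Isomorphic families. -/
def ΦIso {F F' : Fam R T} (e : F ≅ F') : Φ K F ≅ Φ K F' where
  hom := ΦHom K e.inv
  inv := ΦHom K e.hom
  hom_inv_id := by rw [← ΦHom_comp, e.hom_inv_id, ΦHom_id]
  inv_hom_id := by rw [← ΦHom_comp, e.inv_hom_id, ΦHom_id]

end Hom

section Spec

variable {S : Scheme.{u}} {R : CommRingCat.{u}} (a : Spec R ⟶ S)

/-- The family attached to an affine object. -/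
def spec : Fam R S where
  E := Adeq.specOver a
  ρ B := (Scheme.ΓSpecIso (CommRingCat.of B)).inv.hom
  nat {B B'} f b := by
    change ((Scheme.ΓSpecIso (CommRingCat.of B)).inv ≫
        (Spec.map (CommRingCat.ofHom f.hom.toRingHom)).appTop) b =
      (CommRingCat.ofHom f.hom.toRingHom ≫ (Scheme.ΓSpecIso (CommRingCat.of B')).inv) b
    rw [Scheme.ΓSpecIso_inv_naturality]

/-- `toMVFPre` is a special case. -/
theorem Φ_spec : Φ K (spec a) = Adeq.toMVFPre K a := rfl

end Spec

end K570.Fam
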