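import Groth.Agent.Adeq.K570.Fam

/-!
# Geometric families

For schemes `q : X ⟶ Spec R` and `c : X ⟶ T` the family `B ↦ X ×_{Spec R} Spec B → X → T`.
-/

set_option autoImplicit false
set_option linter.dupNamespace false
universe u v w

open CategoryTheory CategoryTheory.Limits Opposite AlgebraicGeometry

noncomputable section

namespace K570.Geo

open K569.Basic K570.CechM K570.Fam

/-- The morphism to a spectrum attached to a ring map. -/
def toSpec {Y : Scheme.{u}} {B : Type u} [CommRing B] (ρ : B →+* Γ(Y, ⊤)) : Y ⟶ Spec (CommRingCat.of B) :=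
  Y.toSpecΓ ≫ Spec.map (CommRingCat.ofHom ρ)

theorem comp_toSpec {Y Y' : Scheme.{u}} (f : Y' ⟶ Y) {B : Type u} [CommRing B] (ρ : B →+* Γ(Y, ⊤)) :
    f ≫ toSpec ρ = toSpec (f.appTop.hom.comp ρ) := by
  rw [toSpec, toSpec, Scheme.toSpecΓ_naturality_assoc, CommRingCat.ofHom_comp, Spec.map_comp]
  rfl

theorem toSpec_comp {Y : Scheme.{u}} {B B' : Type u} [CommRing B] [CommRing B'] (f : B →+* B') (ρ : B' →+* Γ(Y, ⊤)) :
    toSpec ρ ≫ Spec.map (CommRingCat.ofHom f) = toSpec (ρ.comp f) := by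
  rw [toSpec, toSpec, CommRingCat.ofHom_comp, Spec.map_comp, Category.assoc]

theorem ΓSpecIso_inv_toSpec {Y : Scheme.{u}} {B : Type u} [CommRing B] (ρ : B →+* Γ(Y, ⊤)) :
    (Scheme.ΓSpecIso (CommRingCat.of B)).inv ≫ (toSpec ρ).appTop = CommRingCat.ofHom ρ := by
  rw [toSpec, Scheme.Hom.comp_appTop, Scheme.toSpecΓ_appTop, ← Scheme.ΓSpecIso_inv_naturality_assoc]
  rw [Iso.inv_hom_id, Category.comp_id]

theorem toSpec_inj {Y : Scheme.{u}} {B : Type u} [CommRing B] {ρ ρ' : B →+* Γ(Y, ⊤)} (h : toSpec ρ = toSpec ρ') :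
    ρ = ρ' := by
  have h1 := ΓSpecIso_inv_toSpec ρ
  rw [h, ΓSpecIso_inv_toSpec] at h1
  exact (congrArg CommRingCat.Hom.hom h1).symm

theorem toSpec_ΓSpecIso_inv {B : Type u} [CommRing B] :
    toSpec (Scheme.ΓSpecIso (CommRingCat.of B)).inv.hom = 𝟙 _ :=
  toSpecΓ_SpecMap_ΓSpecIso_inv _

theorem toSpec_appTop {Y : Scheme.{u}} {B : Type u} [CommRing B] (f : Y ⟶ Spec (CommRingCat.of B)) :
    toSpec (f.appTop.hom.comp (Scheme.ΓSpecIso (CommRingCat.of B)).inv.hom) = f := by
  rw [← comp_toSpec, toSpec_ΓSpecIso_inv, Category.comp_id]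

variable {R : CommRingCat.{u}} {T : Scheme.{u}}

/-- A family is geometric over `(X, q, c)`. -/
structure Geo (F : Fam R T) {X : Scheme.{u}} (q : X ⟶ Spec R) (c : X ⟶ T) where
  /-- the projection -/
  p (B : Adeq.Alg R) : (F.E.obj (op B)).left ⟶ X
  p_c (B : Adeq.Alg R) : p B ≫ c = (F.E.obj (op B)).hom
  p_nat {B B' : Adeq.Alg R} (f : B ⟶ B') : (F.E.map f.op).left ≫ p B = p B'
  isPullback (B : Adeq.Alg R) : IsPullback (p B) (toSpec (F.ρ B)) q (Spec.map (CommRingCat.ofHom (algebraMap R B)))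

section Hom

variable {F F' : Fam R T} {X X' : Scheme.{u}} {q : X ⟶ Spec R} {c : X ⟶ T} {q' : X' ⟶ Spec R} {c' : X' ⟶ T}
  (G : Geo F q c) (G' : Geo F' q' c') (h : X ⟶ X') (hq : h ≫ q' = q) (hc : h ≫ c' = c)

/-- The components of the comparison. -/
def homApp (B : Adeq.Alg R) : (F.E.obj (op B)).left ⟶ (F'.E.obj (op B)).left :=
  (G'.isPullback B).lift (G.p B ≫ h) (toSpec (F.ρ B)) (by rw [Category.assoc, hq, (G.isPullback B).w])

@[reassoc (attr := simp)]
theorem homApp_p (B : Adeq.Alg R) : homApp G G' h hq B ≫ G'.p B = G.p B ≫ h :=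
  (G'.isPullback B).lift_fst _ _ _

@[reassoc (attr := simp)]
theorem homApp_toSpec (B : Adeq.Alg R) : homApp G G' h hq B ≫ toSpec (F'.ρ B) = toSpec (F.ρ B) :=
  (G'.isPullback B).lift_snd _ _ _

theorem E_toSpec (F : Fam R T) {B B' : Adeq.Alg R} (f : B ⟶ B') : (F.E.map f.op).left ≫ toSpec (F.ρ B) =
    toSpec (F.ρ B') ≫ Spec.map (CommRingCat.ofHom f.hom.toRingHom) := by
  rw [comp_toSpec, toSpec_comp]
  congr 1
  ext b
  exact F.nat f b

/-- The comparison of geometric families. -/
def hom : F ⟶ F' where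
  η :=
    { app := fun B => Over.homMk (homApp G G' h hq B.unop) (by
        rw [← G'.p_c, homApp_p_assoc, hc, G.p_c])
      naturality := fun B B' f => by
        ext : 1
        apply (G'.isPullback B'.unop).hom_ext
        · change ((F.E.map f.unop.op).left ≫ homApp G G' h hq B'.unop) ≫ G'.p B'.unop =
            (homApp G G' h hq B.unop ≫ (F'.E.map f.unop.op).left) ≫ G'.p B'.unop
          rw [Category.assoc, Category.assoc, homApp_p, G'.p_nat, homApp_p, ← Category.assoc, G.p_nat]
        · change ((F.E.map f.unop.op).left ≫ homApp G G' h hq B'.unop) ≫ toSpec (F'.ρ B'.unop) =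
            (homApp G G' h hq B.unop ≫ (F'.E.map f.unop.op).left) ≫ toSpec (F'.ρ B'.unop)
          rw [Category.assoc, Category.assoc, homApp_toSpec, E_toSpec, E_toSpec, homApp_toSpec_assoc] }
  comp B b := by
    have h1 := homApp_toSpec G G' h hq B
    rw [comp_toSpec] at h1
    exact congrArg (fun t => t b) (toSpec_inj h1)

theorem hom_left_p (B : Adeq.Alg R) : ((Hom.η (hom G G' h hq hc)).app (op B)).left ≫ G'.p B = G.p B ≫ h :=
  homApp_p G G' h hq B

theorem hom_uniq {f g : F ⟶ F'} (h : ∀ B, ((Hom.η f).app (op B)).left ≫ G'.p B = ((Hom.η g).app (op B)).left ≫ G'.p B) :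
    f = g := by
  apply K570.Fam.hom_ext
  intro B
  ext : 1
  apply (G'.isPullback B).hom_ext (h B)
  rw [comp_toSpec, comp_toSpec]
  congr 1
  ext b
  exact (Hom.comp f B b).trans (Hom.comp g B b).symm

theorem hom_id : hom G G (𝟙 X) (Category.id_comp _) (Category.id_comp _) = 𝟙 F := by
  apply hom_uniq G
  intro B
  rw [hom_left_p, Category.comp_id]
  exact (Category.id_comp _).symm

theorem hom_comp {F'' : Fam R T} {X'' : Scheme.{u}} {q'' : X'' ⟶ Spec R} {c'' : X'' ⟶ T} (G'' : Geo F'' q'' c'')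
    (h' : X' ⟶ X'') (hq' : h' ≫ q'' = q') (hc' : h' ≫ c'' = c') :
    hom G G' h hq hc ≫ hom G' G'' h' hq' hc' =
      hom G G'' (h ≫ h') (by rw [Category.assoc, hq', hq]) (by rw [Category.assoc, hc', hc]) := by
  apply hom_uniq G''
  intro B
  rw [hom_left_p]
  change (((Hom.η (hom G G' h hq hc)).app (op B)).left ≫ ((Hom.η (hom G' G'' h' hq' hc')).app (op B)).left) ≫ _ = _
  rw [Category.assoc, hom_left_p, ← Category.assoc, hom_left_p, Category.assoc]

/-- Isomorphic geometric families. -/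
def iso (e : X ≅ X') (hq : e.hom ≫ q' = q) (hc : e.hom ≫ c' = c) : F ≅ F' where
  hom := hom G G' e.hom hq hc
  inv := hom G' G e.inv (by rw [← hq, e.inv_hom_id_assoc]) (by rw [← hc, e.inv_hom_id_assoc])
  hom_inv_id := by
    rw [hom_comp]
    refine (hom_uniq G fun B => ?_)
    rw [hom_left_p, e.hom_inv_id, Category.comp_id]
    exact (Category.id_comp _).symm
  inv_hom_id := by
    rw [hom_comp]
    refine (hom_uniq G' fun B => ?_)
    rw [hom_left_p, e.inv_hom_id, Category.comp_id]
    exact (Category.id_comp _).symm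

end Hom

section Canonical

variable {X : Scheme.{u}} (q : X ⟶ Spec R) (c : X ⟶ T)

/-- The spectrum of an algebra over the base. -/
abbrev sp (B : Adeq.Alg R) : Spec (CommRingCat.of B) ⟶ Spec R := Spec.map (CommRingCat.ofHom (algebraMap R B))

theorem sp_map {B B' : Adeq.Alg R} (f : B ⟶ B') : Spec.map (CommRingCat.ofHom f.hom.toRingHom) ≫ sp B = sp B' := by
  rw [← Spec.map_comp, ← CommRingCat.ofHom_comp, AlgHom.toRingHom_eq_coe, AlgHom.comp_algebraMap]

/-- Transition maps of the canonical family. -/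
def pmap {B B' : Adeq.Alg R} (f : B ⟶ B') : pullback q (sp B') ⟶ pullback q (sp B) :=
  pullback.lift (pullback.fst q (sp B'))
    (pullback.snd q (sp B') ≫ Spec.map (CommRingCat.ofHom f.hom.toRingHom)) (by
      rw [Category.assoc, sp_map, pullback.condition])

@[reassoc]
theorem pmap_fst {B B' : Adeq.Alg R} (f : B ⟶ B') : pmap q f ≫ pullback.fst q (sp B) = pullback.fst q (sp B') :=
  pullback.lift_fst _ _ _

@[reassoc]
theorem pmap_snd {B B' : Adeq.Alg R} (f : B ⟶ B') : pmap q f ≫ pullback.snd q (sp B) =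
    pullback.snd q (sp B') ≫ Spec.map (CommRingCat.ofHom f.hom.toRingHom) :=
  pullback.lift_snd _ _ _

theorem pmap_id (B : Adeq.Alg R) : pmap q (𝟙 B) = 𝟙 _ := by
  apply pullback.hom_ext
  · rw [pmap_fst, Category.id_comp]
  · rw [pmap_snd]
    change _ ≫ Spec.map (CommRingCat.ofHom (RingHom.id _)) = _
    rw [CommRingCat.ofHom_id, Spec.map_id, Category.comp_id, Category.id_comp]

theorem pmap_comp {B B' B'' : Adeq.Alg R} (f : B ⟶ B') (g : B' ⟶ B'') : pmap q (f ≫ g) = pmap q g ≫ pmap q f := by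
  apply pullback.hom_ext
  · rw [Category.assoc, pmap_fst, pmap_fst, pmap_fst]
  · rw [Category.assoc, pmap_snd, pmap_snd, pmap_snd_assoc, ← Spec.map_comp, ← CommRingCat.ofHom_comp]
    rfl

/-- The canonical family. -/
def geo : Fam R T where
  E :=
    { obj := fun B => Over.mk (pullback.fst q (sp B.unop) ≫ c)
      map := fun {B B'} f => Over.homMk (pmap q f.unop) (pmap_fst_assoc q f.unop c)
      map_id := fun B => by
        ext : 1
        exact pmap_id q B.unop
      map_comp := fun {B B' B''} f g => by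
        ext : 1
        exact pmap_comp q g.unop f.unop }
  ρ B := (pullback.snd q (sp B)).appTop.hom.comp (Scheme.ΓSpecIso (CommRingCat.of B)).inv.hom
  nat {B B'} f b := by
    have h : toSpec ((pmap q f).appTop.hom.comp
        ((pullback.snd q (sp B)).appTop.hom.comp (Scheme.ΓSpecIso (CommRingCat.of B)).inv.hom)) =
        toSpec (((pullback.snd q (sp B')).appTop.hom.comp (Scheme.ΓSpecIso (CommRingCat.of B')).inv.hom).comp
          f.hom.toRingHom) := by
      rw [← comp_toSpec, toSpec_appTop, ← toSpec_comp, toSpec_appTop, pmap_snd]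
    exact congrArg (fun t => t b) (toSpec_inj h)

/-- The canonical family is geometric. -/
def geoG : Geo (geo q c) q c where
  p B := pullback.fst q (sp B)
  p_c B := rfl
  p_nat {B B'} f := pmap_fst q f
  isPullback B := by
    change IsPullback _ (toSpec ((pullback.snd q (sp B)).appTop.hom.comp (Scheme.ΓSpecIso (CommRingCat.of B)).inv.hom)) _ _
    rw [toSpec_appTop]
    exact IsPullback.of_hasPullback _ _

end Canonical

section Spec

variable (a : Spec R ⟶ T)

/-- The family of an affine object is geometric. -/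
def specG : Geo (spec a) (𝟙 (Spec R)) a where
  p B := sp B
  p_c B := rfl
  p_nat {B B'} f := sp_map f
  isPullback B := by
    change IsPullback _ (toSpec (Scheme.ΓSpecIso (CommRingCat.of B)).inv.hom) _ _
    rw [toSpec_ΓSpecIso_inv]
    exact IsPullback.of_vert_isIso ⟨by simp⟩

end Spec

end K570.Geo
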