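import Groth.Agent.Adeq.K570.GeoMod

/-!
# Comparison of the functors attached to families, II
-/

set_option autoImplicit false
set_option linter.dupNamespace false
universe u v w

open CategoryTheory CategoryTheory.Limits Opposite AlgebraicGeometry TensorProduct

noncomputable section

namespace K570.GeoAd

open K569.Basic K570.CechM K570.Fam K570.Geo K570.GeoMod

variable (K : Precoverage Scheme.{u}) [BigSite.OSh K] {R : CommRingCat.{u}}

section Adequate

variable {T : Scheme.{u}} {X : Scheme.{u}} (q : X ⟶ Spec R) (c : X ⟶ T)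

/-- The module-valued functor `B ↦ P(X ×_R Spec B)`. -/
def Ψ : PresheafOfModules.{u + 1} (BigSite.ORing K T).obj ⥤ Adeq.MVF R := Φ K (geo q c)

instance : (Ψ K q c).Additive := Φ_additive K (geo q c)

/-- Comparison for a geometric family. -/
def ΦΨ {F : Fam R T} {q : X ⟶ Spec R} {c : X ⟶ T} (G : Geo F q c) : Φ K F ≅ Ψ K q c :=
  ΦIso K (iso G (geoG q c) (Iso.refl X) (Category.id_comp _) (Category.id_comp _))

/-- Isomorphic schemes. -/
def ΨIso {X' : Scheme.{u}} (e : X' ≅ X) : Ψ K q c ≅ Ψ K (e.hom ≫ q) (e.hom ≫ c) :=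
  ΦIso K (iso (geoG q c) (geoG _ _) e.symm (e.inv_hom_id_assoc _) (e.inv_hom_id_assoc _))

/-- The family of an affine object. -/
def specIso (a : Spec R ⟶ T) : Adeq.toMVFPre K a ≅ Φ K (spec a) := Iso.refl _

/-- Affine objects. -/
def toMVFΨ (a : Spec R ⟶ T) : Adeq.toMVFPre K a ≅ Ψ K (𝟙 (Spec R)) a := specIso K a ≪≫ ΦΨ K (specG a)

/-- Affine objects over the base. -/
def pushΨ {R' : CommRingCat.{u}} [Algebra R R'] (c : Spec R' ⟶ T) :
    Adeq.toMVFPre K c ⋙ Adeq.push R R' ≅ Ψ K (𝟙 _ ≫ st R R') c :=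
  Functor.isoWhiskerRight (specIso K c) _ ≪≫ bcIso K (spec c) ≪≫ ΦΨ K (bcG (specG c))

/-- Restriction. -/
def restrΨ {R' : CommRingCat.{u}} [Algebra R R'] (a : Spec R ⟶ T) :
    Adeq.toMVFPre K a ⋙ Adeq.restr R R' ≅ Adeq.toMVFPre K (st R R' ≫ a) :=
  Functor.isoWhiskerRight (specIso K a) _ ≪≫ restrIso K (spec a) ≪≫
    ΦΨ K (restrG (specG a) (IsPullback.of_vert_isIso ⟨by simp⟩ : IsPullback (st R R') (𝟙 _) (𝟙 _) (st R R'))) ≪≫
    (toMVFΨ K (st R R' ≫ a)).symm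

/-- The module-valued functor of a sheaf. -/
def ΨSh : BigSite.Mod K T ⥤ Adeq.MVF R := SheafOfModules.forget _ ⋙ Ψ K q c

instance : (ΨSh K q c).Additive where
  map_add := by intros; ext X x; rfl

/-- Affine objects, sheaf version. -/
def toMVFShΨ (a : Spec R ⟶ T) : Adeq.toMVF K a ≅ ΨSh K (𝟙 (Spec R)) a :=
  Functor.isoWhiskerLeft (SheafOfModules.forget _) (toMVFΨ K a)

/-- Pushforward. -/
def pushModΨ {S : Scheme.{u}} (f : T ⟶ S) (a : Spec R ⟶ S) :
    BigSite.pushMod K f ⋙ Adeq.toMVF K a ≅ ΨSh K (pullback.fst a f) (pullback.snd a f) :=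
  pushIso K f a ≪≫ Functor.isoWhiskerLeft (SheafOfModules.forget _) (ΦΨ K (pushG f a))

/-- Auxiliary. -/
def toMVFShΦ (a : Spec R ⟶ T) : Adeq.toMVF K a ≅ SheafOfModules.forget _ ⋙ Φ K (spec a) :=
  Functor.isoWhiskerLeft (SheafOfModules.forget _) (specIso K a)

/-- Pullback. -/
def pullModΨ {S : Scheme.{u}} (f : T ⟶ S) (a : Spec R ⟶ T) :
    BigSite.pullMod K f ⋙ Adeq.toMVF K a ≅ Adeq.toMVF K (a ≫ f) :=
  Functor.isoWhiskerLeft (BigSite.pullMod K f) (toMVFShΦ K a) ≪≫ pullIso K f (spec a) ≪≫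
    Functor.isoWhiskerLeft (SheafOfModules.forget _) (ΦΨ K (pullG f (specG a))) ≪≫ (toMVFShΨ K (a ≫ f)).symm

end Adequate

end K570.GeoAd
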