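import Groth.Agent.Adeq.K570.Geo

/-!
# Comparison of the functors attached to families with restriction, push, pullback and pushforward
-/

set_option autoImplicit false
set_option linter.dupNamespace false
universe u v w

open CategoryTheory CategoryTheory.Limits Opposite AlgebraicGeometry TensorProduct

noncomputable section

namespace K570.GeoMod

open K569.Basic K570.CechM K570.Fam K570.Geo

/-- Isomorphisms of module-valued functors from pointwise data. -/
def mkIso {R : Type u} [CommRing R] {F G : Adeq.MVF R} (e : ∀ B : Adeq.Alg R, F.obj (Adeq.pt B) ≃+ G.obj (Adeq.pt B))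
    (hsmul : ∀ (B : Adeq.Alg R) (b : B) (x : F.obj (Adeq.pt B)), e B (b • x) = b • e B x)
    (hnat : ∀ ⦃B B' : Adeq.Alg R⦄ (f : B ⟶ B') (x : F.obj (Adeq.pt B)), e B' (tr F f x) = tr G f (e B x)) : F ≅ G where
  hom := mkHom (fun B => e B) (fun B x y => map_add (e B) x y) hsmul hnat
  inv := mkHom (fun B => (e B).symm) (fun B x y => map_add (e B).symm x y)
    (fun B b x => (e B).injective (by
      rw [hsmul, AddEquiv.apply_symm_apply, AddEquiv.apply_symm_apply]))
    (fun B B' f x => (e B').injective (by
      rw [hnat, AddEquiv.apply_symm_apply, AddEquiv.apply_symm_apply]))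
  hom_inv_id := by
    apply hom_ext'
    intro B x
    exact (e B).symm_apply_apply x
  inv_hom_id := by
    apply hom_ext'
    intro B x
    exact (e B).apply_symm_apply x

variable (K : Precoverage Scheme.{u}) [BigSite.OSh K] {R : CommRingCat.{u}}

section Push

variable {S T : Scheme.{u}} (f : T ⟶ S) (a : Spec R ⟶ S)

/-- The family underlying pushforward of modules. -/
def pushFam : Fam R T where
  E := Adeq.specOver a ⋙ Over.pullback f
  ρ B := (pullback.fst (sp B ≫ a) f).appTop.hom.comp (Scheme.ΓSpecIso (CommRingCat.of B)).inv.hom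
  nat {B B'} φ b := by
    have h : toSpec ((pullback.lift (pullback.fst (sp B' ≫ a) f ≫ Spec.map (CommRingCat.ofHom φ.hom.toRingHom))
        (pullback.snd (sp B' ≫ a) f) (by
          rw [Category.assoc, ← Category.assoc (Spec.map _), sp_map, pullback.condition]) :
          pullback (sp B' ≫ a) f ⟶ pullback (sp B ≫ a) f).appTop.hom.comp
        ((pullback.fst (sp B ≫ a) f).appTop.hom.comp (Scheme.ΓSpecIso (CommRingCat.of B)).inv.hom)) =
        toSpec (((pullback.fst (sp B' ≫ a) f).appTop.hom.comp
          (Scheme.ΓSpecIso (CommRingCat.of B')).inv.hom).comp φ.hom.toRingHom) := by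
      rw [← comp_toSpec, ← comp_toSpec, toSpec_ΓSpecIso_inv, ← toSpec_comp, ← comp_toSpec, toSpec_ΓSpecIso_inv,
        Category.comp_id, Category.comp_id, pullback.lift_fst]
    exact congrArg (fun t => t b) (toSpec_inj h)

/-- The projection. -/
def pushP (B : Adeq.Alg R) : pullback (sp B ≫ a) f ⟶ pullback a f :=
  pullback.map (sp B ≫ a) f a f (sp B) (𝟙 T) (𝟙 S) (by simp) (by simp)

theorem pushP_snd (B : Adeq.Alg R) : pushP f a B ≫ pullback.snd a f = pullback.snd (sp B ≫ a) f := by
  rw [pushP, pullback.map, pullback.lift_snd, Category.comp_id]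

theorem pushP_fst (B : Adeq.Alg R) : pushP f a B ≫ pullback.fst a f = pullback.fst (sp B ≫ a) f ≫ sp B := by
  rw [pushP, pullback.map, pullback.lift_fst]

theorem pushP_nat {B B' : Adeq.Alg R} (φ : B ⟶ B') :
    pullback.lift (pullback.fst (sp B' ≫ a) f ≫ Spec.map (CommRingCat.ofHom φ.hom.toRingHom))
        (pullback.snd (sp B' ≫ a) f) (by
          rw [Category.assoc, ← Category.assoc (Spec.map _), sp_map, pullback.condition]) ≫ pushP f a B =
      pushP f a B' := by
  apply pullback.hom_ext
  · rw [Category.assoc, pushP_fst, pushP_fst, pullback.lift_fst_assoc, Category.assoc, sp_map]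
  · rw [Category.assoc, pushP_snd, pushP_snd, pullback.lift_snd]

theorem pushP_isPullback (B : Adeq.Alg R) :
    IsPullback (pushP f a B) (pullback.fst (sp B ≫ a) f) (pullback.fst a f) (sp B) := by
  have h1 : IsPullback (pullback.snd a f) (pullback.fst a f) f a := (IsPullback.of_hasPullback a f).flip
  refine IsPullback.of_right ?_ (pushP_fst f a B) h1
  rw [pushP_snd]
  exact (IsPullback.of_hasPullback (sp B ≫ a) f).flip

theorem pushFam_ρ (B : Adeq.Alg R) : toSpec ((pullback.fst (sp B ≫ a) f).appTop.hom.comp
    (Scheme.ΓSpecIso (CommRingCat.of B)).inv.hom) = pullback.fst (sp B ≫ a) f := by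
  rw [← comp_toSpec, toSpec_ΓSpecIso_inv, Category.comp_id]

/-- The family of the pushforward is geometric. -/
def pushG : Geo (pushFam f a) (pullback.fst a f) (pullback.snd a f) where
  p B := pushP f a B
  p_c B := pushP_snd f a B
  p_nat {B B'} φ := pushP_nat f a φ
  isPullback B := by
    have h0 : toSpec ((pushFam f a).ρ B) = pullback.fst (sp B ≫ a) f := pushFam_ρ f a B
    rw [h0]
    exact pushP_isPullback f a B

/-- Module-valued functor of a pushforward. -/
def pushIso : BigSite.pushMod K f ⋙ Adeq.toMVF K a ≅ SheafOfModules.forget _ ⋙ Φ K (pushFam f a) :=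
  NatIso.ofComponents (fun M => mkIso (fun B => AddEquiv.refl _) (fun B b x => rfl) (fun B B' f x => rfl))
    (fun φ => by
      apply hom_ext'
      intro B x
      rfl)

end Push

section Pull

variable {S T : Scheme.{u}} (f : T ⟶ S)

/-- The family underlying pullback of modules. -/
def pullFam (F : Fam R T) : Fam R S where
  E := F.E ⋙ Over.map f
  ρ := F.ρ
  nat := F.nat

/-- The family of the pullback is geometric. -/
def pullG {F : Fam R T} {X : Scheme.{u}} {q : X ⟶ Spec R} {c : X ⟶ T} (G : Geo F q c) :
    Geo (pullFam f F) q (c ≫ f) where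
  p := G.p
  p_c B := (Category.assoc _ _ _).symm.trans (congrArg (· ≫ f) (G.p_c B))
  p_nat := G.p_nat
  isPullback := G.isPullback

/-- Module-valued functor of a pullback. -/
def pullIso (F : Fam R T) : BigSite.pullMod K f ⋙ SheafOfModules.forget _ ⋙ Φ K F ≅
    SheafOfModules.forget _ ⋙ Φ K (pullFam f F) :=
  NatIso.ofComponents (fun M => mkIso (fun B => AddEquiv.refl _) (fun B b x => rfl) (fun B B' f x => rfl))
    (fun φ => by
      apply hom_ext'
      intro B x
      rfl)

end Pull

section Restr

variable {T : Scheme.{u}} {R' : CommRingCat.{u}} [Algebra R R']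

/-- Restriction of families. -/
def restrFam (F : Fam R T) : Fam R' T where
  E := (Adeq.Alg.restr R R').op ⋙ F.E
  ρ B := F.ρ ((Adeq.Alg.restr R R').obj B)
  nat f b := F.nat ((Adeq.Alg.restr R R').map f) b

/-- Restriction of the module-valued functor of a family. -/
def restrIso (F : Fam R T) : Φ K F ⋙ Adeq.restr R R' ≅ Φ K (restrFam (R' := R') F) :=
  NatIso.ofComponents (fun M => mkIso (fun B => AddEquiv.refl _) (fun B b x => rfl) (fun B B' f x => rfl))
    (fun φ => by
      apply hom_ext'
      intro B x
      rfl)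

variable (R R') in
/-- The structure morphism. -/
abbrev st : Spec R' ⟶ Spec R := Spec.map (CommRingCat.ofHom (algebraMap R R'))

theorem sp_restr (B : Adeq.Alg R') : sp (R := R) ((Adeq.Alg.restr R R').obj B) = sp (R := R') B ≫ st R R' := by
  change Spec.map (CommRingCat.ofHom ((algebraMap R' B).comp (algebraMap R R'))) = _
  rw [CommRingCat.ofHom_comp, Spec.map_comp]

section

variable {F : Fam R T} {X : Scheme.{u}} {q : X ⟶ Spec R} {c : X ⟶ T} (G : Geo F q c) {X' : Scheme.{u}}
    {g : X' ⟶ X} {q' : X' ⟶ Spec R'} (h : IsPullback g q' q (st R R'))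

/-- The projection. -/
def restrP (B : Adeq.Alg R') : (F.E.obj (op ((Adeq.Alg.restr R R').obj B))).left ⟶ X' :=
  h.lift (G.p ((Adeq.Alg.restr R R').obj B)) (toSpec (F.ρ ((Adeq.Alg.restr R R').obj B)) ≫ sp (R := R') B) (by
    rw [(G.isPullback _).w, Category.assoc]
    congr 1
    exact sp_restr B)

@[reassoc]
theorem restrP_fst (B : Adeq.Alg R') : restrP G h B ≫ g = G.p ((Adeq.Alg.restr R R').obj B) := h.lift_fst _ _ _

@[reassoc]
theorem restrP_snd (B : Adeq.Alg R') : restrP G h B ≫ q' =
    toSpec (F.ρ ((Adeq.Alg.restr R R').obj B)) ≫ sp (R := R') B := h.lift_snd _ _ _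

theorem restrP_nat {B B' : Adeq.Alg R'} (f : B ⟶ B') :
    (F.E.map ((Adeq.Alg.restr R R').map f).op).left ≫ restrP G h B = restrP G h B' := by
  apply h.hom_ext
  · rw [Category.assoc, restrP_fst, restrP_fst, G.p_nat]
  · rw [Category.assoc, restrP_snd, restrP_snd, ← Category.assoc, E_toSpec F ((Adeq.Alg.restr R R').map f),
      Category.assoc]
    congr 1
    exact sp_map f

theorem restrP_isPullback (B : Adeq.Alg R') :
    IsPullback (restrP G h B) (toSpec (F.ρ ((Adeq.Alg.restr R R').obj B))) q' (sp (R := R') B) := by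
  refine IsPullback.of_right ?_ (restrP_snd G h B) h
  rw [restrP_fst, ← sp_restr]
  exact G.isPullback ((Adeq.Alg.restr R R').obj B)

/-- The restricted family is geometric. -/
def restrG : Geo (restrFam (R' := R') F) q' (g ≫ c) where
  p B := restrP G h B
  p_c B := (restrP_fst_assoc G h B c).trans (G.p_c _)
  p_nat f := restrP_nat G h f
  isPullback B := restrP_isPullback G h B

end

/-- Push of families. -/
def bcFam (F : Fam R' T) : Fam R T where
  E := (Adeq.Alg.baseChange R R').op ⋙ F.E
  ρ B := (F.ρ ((Adeq.Alg.baseChange R R').obj B)).comp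
    (Algebra.TensorProduct.includeRight (R := R) (A := R') (B := B)).toRingHom
  nat {B B'} f b := by
    refine (F.nat ((Adeq.Alg.baseChange R R').map f) ((1 : R') ⊗ₜ[R] b)).trans ?_
    refine congrArg (F.ρ ((Adeq.Alg.baseChange R R').obj B')) ?_
    exact Algebra.TensorProduct.map_tmul _ _ _ _

/-- Push of the module-valued functor of a family. -/
def bcIso (F : Fam R' T) : Φ K F ⋙ Adeq.push R R' ≅ Φ K (bcFam F) :=
  NatIso.ofComponents (fun M => mkIso (fun B => AddEquiv.refl _) (fun B b x => rfl) (fun B B' f x => rfl))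
    (fun φ => by
      apply hom_ext'
      intro B x
      rfl)

theorem bc_isPullback (B : Adeq.Alg R) :
    IsPullback (sp (R := R') ((Adeq.Alg.baseChange R R').obj B))
      (Spec.map (CommRingCat.ofHom (Algebra.TensorProduct.includeRight (R := R) (A := R') (B := B)).toRingHom))
      (st R R') (sp (R := R) B) :=
  isPullback_SpecMap_of_isPushout _ _ _ _ (CommRingCat.isPushout_tensorProduct R R' B)

/-- The pushed family is geometric. -/
def bcG {F : Fam R' T} {X : Scheme.{u}} {q : X ⟶ Spec R'} {c : X ⟶ T} (G : Geo F q c) :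
    Geo (bcFam F) (q ≫ st R R') c where
  p B := G.p ((Adeq.Alg.baseChange R R').obj B)
  p_c B := G.p_c _
  p_nat f := G.p_nat ((Adeq.Alg.baseChange R R').map f)
  isPullback B := by
    have h1 := (G.isPullback ((Adeq.Alg.baseChange R R').obj B)).paste_vert (bc_isPullback B)
    have h2 := toSpec_comp (Algebra.TensorProduct.includeRight (R := R) (A := R') (B := B)).toRingHom
      (F.ρ ((Adeq.Alg.baseChange R R').obj B))
    rw [h2] at h1
    exact h1

end Restr

end K570.GeoMod
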