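import Mathlib.Algebra.Homology.HomologySequence
import Mathlib.Algebra.Homology.HomologicalComplexAbelian
import Mathlib.Algebra.Homology.HomologicalComplexBiprod
import Mathlib.CategoryTheory.ObjectProperty.Extensions
import Mathlib.CategoryTheory.ObjectProperty.Kernels
import Mathlib.CategoryTheory.Preadditive.Biproducts
import Mathlib.CategoryTheory.Preadditive.AdditiveFunctor

/-!
# Mayer-Vietoris for complexes and classes of objects
-/

set_option autoImplicit false
set_option linter.unusedSectionVars false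
universe v u

open CategoryTheory CategoryTheory.Limits

noncomputable section

namespace K570.MVabs

variable {D : Type u} [Category.{v} D] [Abelian D] {𝒜 : ObjectProperty D} [𝒜.IsClosedUnderIsomorphisms]
  [𝒜.IsClosedUnderKernels] [𝒜.IsClosedUnderCokernels] [𝒜.IsClosedUnderExtensions]

theorem prop_kernel {F G : D} (f : F ⟶ G) (hF : 𝒜 F) (hG : 𝒜 G) : 𝒜 (kernel f) :=
  𝒜.prop_of_isLimit_kernelFork (limit.isLimit (parallelPair f 0)) hF hG

theorem prop_cokernel {F G : D} (f : F ⟶ G) (hF : 𝒜 F) (hG : 𝒜 G) : 𝒜 (cokernel f) :=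
  𝒜.prop_of_isColimit_cokernelCofork (colimit.isColimit (parallelPair f 0)) hF hG

/-- The middle term of an exact sequence with five terms. -/
theorem prop_five {A B C E F : D} (f : A ⟶ B) (g : B ⟶ C) (h : C ⟶ E) (k : E ⟶ F) (w₁ : f ≫ g = 0)
    (w₂ : g ≫ h = 0) (w₃ : h ≫ k = 0) (e₁ : (ShortComplex.mk f g w₁).Exact) (e₂ : (ShortComplex.mk g h w₂).Exact)
    (e₃ : (ShortComplex.mk h k w₃).Exact) (hA : 𝒜 A) (hB : 𝒜 B) (hE : 𝒜 E) (hF : 𝒜 F) : 𝒜 C := by
  let g' : cokernel f ⟶ C := cokernel.desc f g w₁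
  let h' : C ⟶ kernel k := kernel.lift k h w₃
  have w₄ : g' ≫ h = 0 := by
    rw [← cancel_epi (cokernel.π f), cokernel.π_desc_assoc, w₂, comp_zero]
  have w₅ : g' ≫ h' = 0 := by
    rw [← cancel_mono (kernel.ι k), Category.assoc, kernel.lift_ι, w₄, zero_comp]
  let α : ShortComplex.mk g h w₂ ⟶ ShortComplex.mk g' h w₄ :=
    { τ₁ := cokernel.π f
      τ₂ := 𝟙 _
      τ₃ := 𝟙 _ }
  let β : ShortComplex.mk g' h' w₅ ⟶ ShortComplex.mk g' h w₄ :=
    { τ₁ := 𝟙 _
      τ₂ := 𝟙 _
      τ₃ := kernel.ι k }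
  have e₄ : (ShortComplex.mk g' h w₄).Exact := by
    have : Epi α.τ₁ := by change Epi (cokernel.π f); infer_instance
    have : IsIso α.τ₂ := by change IsIso (𝟙 _); infer_instance
    have : Mono α.τ₃ := by change Mono (𝟙 _); infer_instance
    exact (ShortComplex.exact_iff_of_epi_of_isIso_of_mono α).1 e₂
  have e₅ : (ShortComplex.mk g' h' w₅).Exact := by
    have : Epi β.τ₁ := by change Epi (𝟙 _); infer_instance
    have : IsIso β.τ₂ := by change IsIso (𝟙 _); infer_instance
    have : Mono β.τ₃ := by change Mono (kernel.ι k); infer_instance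
    exact (ShortComplex.exact_iff_of_epi_of_isIso_of_mono β).2 e₄
  have hS : (ShortComplex.mk g' h' w₅).ShortExact :=
    { exact := e₅
      mono_f := e₁.mono_cokernelDesc
      epi_g := e₃.epi_kernelLift }
  exact 𝒜.prop_X₂_of_shortExact hS (prop_cokernel f hA hB) (prop_kernel k hE hF)

section MV

variable {AX AU AV AW : CochainComplex D ℕ} (a : AX ⟶ AU) (b : AX ⟶ AV) (p : AU ⟶ AW) (r : AV ⟶ AW)
  (w : a ≫ p = b ≫ r)

/-- The Mayer-Vietoris sequence. -/
def mvS : ShortComplex (CochainComplex D ℕ) :=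
  ShortComplex.mk (biprod.lift a b) (biprod.desc p (-r)) (by
    rw [biprod.lift_desc, w, Preadditive.comp_neg, add_neg_cancel])

include w in
theorem w_f (n : ℕ) : a.f n ≫ p.f n = b.f n ≫ r.f n := by
  rw [← HomologicalComplex.comp_f, ← HomologicalComplex.comp_f, w]

/-- The degreewise Mayer-Vietoris sequence. -/
def mvSn (n : ℕ) : ShortComplex D :=
  ShortComplex.mk (biprod.lift (a.f n) (b.f n)) (biprod.desc (p.f n) (-(r.f n))) (by
    rw [biprod.lift_desc, w_f a b p r w, Preadditive.comp_neg, add_neg_cancel])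

instance evAdd (n : ℕ) : (HomologicalComplex.eval D (ComplexShape.up ℕ) n).Additive where

theorem iso_comm₁ (n : ℕ) : 𝟙 (AX.X n) ≫ biprod.lift (a.f n) (b.f n) =
    (biprod.lift a b).f n ≫ (HomologicalComplex.biprodXIso AU AV n).hom := by
  apply biprod.hom_ext
  · simp
  · simp

theorem iso_comm₂ (n : ℕ) : (HomologicalComplex.biprodXIso AU AV n).hom ≫ biprod.desc (p.f n) (-(r.f n)) =
    (biprod.desc p (-r)).f n ≫ 𝟙 (AW.X n) := by
  rw [← cancel_epi (HomologicalComplex.biprodXIso AU AV n).inv]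
  apply biprod.hom_ext'
  · simp
  · simp

/-- The comparison. -/
def mvIso (n : ℕ) : (mvS a b p r w).map (HomologicalComplex.eval D (ComplexShape.up ℕ) n) ≅ mvSn a b p r w n :=
  ShortComplex.isoMk (Iso.refl _) (HomologicalComplex.biprodXIso AU AV n) (Iso.refl _)
    (iso_comm₁ a b n) (iso_comm₂ p r n)

theorem mv_shortExact (h : ∀ n, (mvSn a b p r w n).ShortExact) : (mvS a b p r w).ShortExact :=
  HomologicalComplex.shortExact_of_degreewise_shortExact _ fun n =>
    (ShortComplex.shortExact_iff_of_iso (mvIso a b p r w n)).2 (h n)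

theorem prop_biprod (hU : ∀ n, 𝒜 (AU.homology n)) (hV : ∀ n, 𝒜 (AV.homology n)) (n : ℕ) :
    𝒜 ((AU ⊞ AV).homology n) := by
  let F := HomologicalComplex.homologyFunctor D (ComplexShape.up ℕ) n
  have := preservesBinaryBiproducts_of_preservesBiproducts F
  have e : F.obj (AU ⊞ AV) ≅ F.obj AU ⊞ F.obj AV := F.mapBiprod AU AV
  exact 𝒜.prop_of_iso e.symm (𝒜.prop_biprod (hU n) (hV n))

/-- Mayer-Vietoris. -/
theorem prop_of_mv (h : ∀ n, (mvSn a b p r w n).ShortExact) (hU : ∀ n, 𝒜 (AU.homology n))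
    (hV : ∀ n, 𝒜 (AV.homology n)) (hW : ∀ n, 𝒜 (AW.homology n)) (n : ℕ) : 𝒜 (AX.homology n) := by
  have hS := mv_shortExact a b p r w h
  have hB := prop_biprod hU hV
  cases n with
  | zero =>
    have hm : Mono (HomologicalComplex.homologyMap (mvS a b p r w).f 0) := by
      have := hS.mono_f
      exact HomologicalComplex.mono_homologyMap_of_mono_of_not_rel (mvS a b p r w).f 0 (by
        intro i hi
        simp at hi)
    have e := hS.homology_exact₂ 0
    have : 𝒜 (kernel (HomologicalComplex.homologyMap (mvS a b p r w).g 0)) := prop_kernel _ (hB 0) (hW 0)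
    exact 𝒜.prop_of_iso (IsLimit.conePointUniqueUpToIso (kernelIsKernel _) e.fIsKernel) this
  | succ n =>
    exact prop_five _ _ _ _ _ _ _ (hS.homology_exact₃ n (n + 1) rfl) (hS.homology_exact₁ n (n + 1) rfl)
      (hS.homology_exact₂ (n + 1)) (hB n) (hW n) (hB (n + 1)) (hW (n + 1))

end MV

end K570.MVabs
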