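import Groth.Agent.Adeq.K570.Local
import Groth.Agent.Adeq.K570.MVabs
import Groth.Agent.AlgSp.K646.CechInj

/-!
# Mayer-Vietoris for the functors `B ↦ I(X ×_R Spec B)`, `I` injective
-/

set_option autoImplicit false
set_option linter.unusedSectionVars false
universe w v u

open CategoryTheory CategoryTheory.Limits Opposite AlgebraicGeometry

noncomputable section

namespace K570.MVgeo

section Inj

variable {C : Type u} [Category.{v} C]

open K646.Free

theorem mono_free {R : Cᵒᵖ ⥤ RingCat.{max w v}} {T T' : C} (k : T ⟶ T') [Mono k] :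
    Mono ((PresheafOfModules.free R).map (uliftYoneda.{w}.map k)) := by
  rw [PresheafOfModules.mono_iff_surjective]
  rintro ⟨W⟩
  have h : Function.Injective (fun g : ULift.{w} (W ⟶ T) => (ULift.up (g.down ≫ k) : ULift.{w} (W ⟶ T'))) := by
    rintro ⟨g⟩ ⟨g'⟩ h
    congr 1
    rw [← cancel_mono k]
    exact congrArg ULift.down h
  exact Finsupp.mapDomain_injective h

/-- Sections of injective presheaves extend along monomorphisms. -/
theorem surjective_of_injective_presheaf {R : Cᵒᵖ ⥤ RingCat.{max w v}} (I : PresheafOfModules.{max w v} R)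
    [Injective I] {T T' : C} (k : T ⟶ T') [Mono k] : Function.Surjective (I.map k.op) := by
  intro x
  have := mono_free.{w} (R := R) k
  let φ : fy.{w} R T ⟶ I := fyEquiv.symm x
  let ψ := Injective.factorThru φ ((PresheafOfModules.free R).map (uliftYoneda.{w}.map k))
  refine ⟨fyEquiv ψ, ?_⟩
  rw [← fyEquiv_map_comp, Injective.comp_factorThru, Equiv.apply_symm_apply]

variable {J : GrothendieckTopology C}
  [HasSheafify J AddCommGrpCat.{max w v}] [J.WEqualsLocallyBijective AddCommGrpCat.{max w v}]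

/-- Sections of injective sheaves extend along monomorphisms. -/
theorem surjective_of_injective (O : Sheaf J RingCat.{max w v}) (I : SheafOfModules.{max w v} O) [Injective I]
    {T T' : C} (k : T ⟶ T') [Mono k] : Function.Surjective (I.val.map k.op) :=
  have := K646.CechInj.injective_val.{w} O I
  surjective_of_injective_presheaf.{w} I.val k

end Inj

open K569.Basic K570.CechM K570.Fam K570.Geo K570.GeoMod K570.GeoAd K570.Cov K570.Glue K570.CovGeo K570.Local

section Elem

variable {R : Type u} [CommRing R]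

theorem shortExact_of_elem {F A A' C : Adeq.MVF R} (a : F ⟶ A) (b : F ⟶ A') (p : A ⟶ C) (r : A' ⟶ C)
    (w : biprod.lift a b ≫ biprod.desc p (-r) = 0)
    (inj : ∀ (B : Adeq.Alg R) (x : F.obj (Adeq.pt B)), ap a B x = 0 → ap b B x = 0 → x = 0)
    (gl : ∀ (B : Adeq.Alg R) (x : A.obj (Adeq.pt B)) (y : A'.obj (Adeq.pt B)), ap p B x = ap r B y →
      ∃ z, ap a B z = x ∧ ap b B z = y)
    (surj : ∀ (B : Adeq.Alg R) (z : C.obj (Adeq.pt B)), ∃ x, ap p B x = z) :
    (ShortComplex.mk (biprod.lift a b) (biprod.desc p (-r)) w).ShortExact := by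
  have tot : ∀ (B : Adeq.Alg R) (z : (A ⊞ A').obj (Adeq.pt B)),
      z = ap biprod.inl B (ap biprod.fst B z) + ap biprod.inr B (ap biprod.snd B z) := by
    intro B z
    have e := congrArg (fun t => ap t B z) (biprod.total (X := A) (Y := A'))
    exact e.symm
  have h1 : ∀ (B : Adeq.Alg R) (x : F.obj (Adeq.pt B)), ap biprod.fst B (ap (biprod.lift a b) B x) = ap a B x := by
    intro B x
    rw [← ap_comp, biprod.lift_fst]
  have h2 : ∀ (B : Adeq.Alg R) (x : F.obj (Adeq.pt B)), ap biprod.snd B (ap (biprod.lift a b) B x) = ap b B x := by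
    intro B x
    rw [← ap_comp, biprod.lift_snd]
  have h3 : ∀ (B : Adeq.Alg R) (z : (A ⊞ A').obj (Adeq.pt B)), ap (biprod.desc p (-r)) B z =
      ap p B (ap biprod.fst B z) - ap r B (ap biprod.snd B z) := by
    intro B z
    have e : biprod.desc p (-r) = biprod.fst ≫ p - biprod.snd ≫ r := by
      apply biprod.hom_ext'
      · simp
      · simp
    rw [e, sub_ap, ap_comp, ap_comp]
  refine { exact := ?_, mono_f := ?_, epi_g := ?_ }
  · rw [exact_iff']
    intro B z
    constructor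
    · intro hz
      have hz' : ap (biprod.desc p (-r)) B z = 0 := hz
      rw [h3, sub_eq_zero] at hz'
      obtain ⟨x, hx1, hx2⟩ := gl B _ _ hz'
      refine ⟨x, ?_⟩
      change ap (biprod.lift a b) B x = z
      rw [tot B z, tot B (ap (biprod.lift a b) B x), h1, h2, hx1, hx2]
    · rintro ⟨x, rfl⟩
      exact congrArg (fun t => ap t B x) w
  · change Mono (biprod.lift a b)
    rw [mono_iff]
    intro B x y hxy
    have hxy' : ap (biprod.lift a b) B x = ap (biprod.lift a b) B y := hxy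
    rw [← sub_eq_zero]
    refine inj B _ ?_ ?_
    · rw [ap_sub, ← h1, ← h1, hxy', sub_self]
    · rw [ap_sub, ← h2, ← h2, hxy', sub_self]
  · change Epi (biprod.desc p (-r))
    rw [epi_iff]
    intro B z
    obtain ⟨x, hx⟩ := surj B z
    refine ⟨ap biprod.inl B x, ?_⟩
    change ap (biprod.desc p (-r)) B _ = z
    rw [← ap_comp, biprod.inl_desc, hx]

end Elem

section MV

variable {Q : MorphismProperty Scheme.{u}} [Good Q] [BigSite.OSh (Scheme.precoverage Q)] {R : CommRingCat.{u}}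
  {T X : Scheme.{u}} (q : X ⟶ Spec R) (c : X ⟶ T)

/-- Restriction. -/
def rsN {V : Scheme.{u}} (h : V ⟶ X) {q' : V ⟶ Spec R} {c' : V ⟶ T} (hq : h ≫ q = q') (hc : h ≫ c = c') :
    ΨSh (Scheme.precoverage Q) q c ⟶ ΨSh (Scheme.precoverage Q) q' c' :=
  Functor.whiskerLeft (SheafOfModules.forget _) (ΦHom (Scheme.precoverage Q) (mor q c h hq hc))

theorem rsN_app {V : Scheme.{u}} (h : V ⟶ X) {q' : V ⟶ Spec R} {c' : V ⟶ T} (hq : h ≫ q = q') (hc : h ≫ c = c')
    (M : BigSite.Mod (Scheme.precoverage Q) T) : (rsN q c h hq hc).app M = rs M q c h hq hc := rfl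

theorem rsN_comp {V W : Scheme.{u}} (h : V ⟶ X) {q' : V ⟶ Spec R} {c' : V ⟶ T} (hq : h ≫ q = q') (hc : h ≫ c = c')
    (h' : W ⟶ V) {q'' : W ⟶ Spec R} {c'' : W ⟶ T} (hq' : h' ≫ q' = q'') (hc' : h' ≫ c' = c'') :
    rsN (Q := Q) q c h hq hc ≫ rsN q' c' h' hq' hc' =
      rsN q c (h' ≫ h) (by rw [Category.assoc, hq, hq']) (by rw [Category.assoc, hc, hc']) := by
  ext M : 2
  apply hom_ext'
  intro B x
  exact res_morE q c h hq hc h' hq' hc' B M.val.presheaf x

theorem rsN_congr {V : Scheme.{u}} {h h' : V ⟶ X} (e : h = h') {q' : V ⟶ Spec R} {c' : V ⟶ T} (hq : h ≫ q = q')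
    (hc : h ≫ c = c') : rsN (Q := Q) q c h hq hc = rsN q c h' (by rw [← e, hq]) (by rw [← e, hc]) := by
  subst e
  rfl

/-- Sections of injective modules extend along open immersions. -/
theorem rs_surjective {V : Scheme.{u}} (h : V ⟶ X) [IsOpenImmersion h] {q' : V ⟶ Spec R} {c' : V ⟶ T}
    (hq : h ≫ q = q') (hc : h ≫ c = c') (I : BigSite.Mod (Scheme.precoverage Q) T) [Injective I]
    (B : Adeq.Alg R) : Function.Surjective (ap (rs I q c h hq hc) B) := by
  have h1 : IsOpenImmersion (morE q c h hq hc B).left :=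
    MorphismProperty.of_isPullback (P := @IsOpenImmersion) (morE_isPullback q c h hq hc B) ‹_›
  have h2 : Mono (morE q c h hq hc B).left := inferInstance
  have h3 : Mono (morE q c h hq hc B) := Over.mono_of_mono_left _
  exact surjective_of_injective.{u + 1} (BigSite.ORing (Scheme.precoverage Q) T) I (morE q c h hq hc B)

variable {U V W : Scheme.{u}} {hU : U ⟶ X} {hV : V ⟶ X} {p : W ⟶ U} {r : W ⟶ V} (sq : IsPullback p r hU hV)
  [IsOpenImmersion hU] [IsOpenImmersion hV] (hcov : ∀ x : X, x ∈ Set.range hU ∨ x ∈ Set.range hV)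
  {qU : U ⟶ Spec R} {cU : U ⟶ T} (hqU : hU ≫ q = qU) (hcU : hU ≫ c = cU)
  {qV : V ⟶ Spec R} {cV : V ⟶ T} (hqV : hV ≫ q = qV) (hcV : hV ≫ c = cV)
  {qW : W ⟶ Spec R} {cW : W ⟶ T} (hqW : p ≫ qU = qW) (hcW : p ≫ cU = cW)

include sq hqW hqU hqV in
theorem hqW' : r ≫ qV = qW := by
  rw [← hqW, ← hqU, ← hqV, ← Category.assoc, ← sq.w, Category.assoc]

include sq hcW hcU hcV in
theorem hcW' : r ≫ cV = cW := by
  rw [← hcW, ← hcU, ← hcV, ← Category.assoc, ← sq.w, Category.assoc]

theorem mv_w : rsN (Q := Q) q c hU hqU hcU ≫ rsN qU cU p hqW hcW =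
    rsN q c hV hqV hcV ≫ rsN qV cV r (hqW' q sq hqU hqV hqW) (hcW' c sq hcU hcV hcW) := by
  rw [rsN_comp, rsN_comp]
  exact rsN_congr q c sq.w _ _

theorem rs_rs {V W : Scheme.{u}} (h : V ⟶ X) {q' : V ⟶ Spec R} {c' : V ⟶ T} (hq : h ≫ q = q') (hc : h ≫ c = c')
    (h' : W ⟶ V) {q'' : W ⟶ Spec R} {c'' : W ⟶ T} (hq' : h' ≫ q' = q'') (hc' : h' ≫ c' = c'')
    {h'' : W ⟶ X} (e : h' ≫ h = h'') (M : BigSite.Mod (Scheme.precoverage Q) T) (B : Adeq.Alg R)
    (x : ((ΨSh (Scheme.precoverage Q) q c).obj M).obj (Adeq.pt B)) :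
    ap (rs M q' c' h' hq' hc') B (ap (rs M q c h hq hc) B x) =
      ap (rs M q c h'' (by rw [← e, Category.assoc, hq, hq']) (by rw [← e, Category.assoc, hc, hc'])) B x := by
  subst e
  exact res_morE q c h hq hc h' hq' hc' B M.val.presheaf x

include sq hcov in
theorem mv_glue (M : BigSite.Mod (Scheme.precoverage Q) T) (B : Adeq.Alg R)
    (x : ((ΨSh (Scheme.precoverage Q) qU cU).obj M).obj (Adeq.pt B))
    (y : ((ΨSh (Scheme.precoverage Q) qV cV).obj M).obj (Adeq.pt B))
    (hxy : ap (rs M qU cU p hqW hcW) B x =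
      ap (rs M qV cV r (hqW' q sq hqU hqV hqW) (hcW' c sq hcU hcV hcW)) B y) :
    ∃ z, ap (rs M q c hU hqU hcU) B z = x ∧ ap (rs M q c hV hqV hcV) B z = y := by
  subst hqU hcU hqV hcV hqW hcW
  have key : ∀ {Z : Scheme.{u}} (a : Z ⟶ U) (b : Z ⟶ V) (h : a ≫ hU = b ≫ hV) {q' : Z ⟶ Spec R} {c' : Z ⟶ T}
      (h1 : a ≫ hU ≫ q = q') (h2 : a ≫ hU ≫ c = c') (h3 : b ≫ hV ≫ q = q') (h4 : b ≫ hV ≫ c = c'),
      ap (rs M (hU ≫ q) (hU ≫ c) a h1 h2) B x = ap (rs M (hV ≫ q) (hV ≫ c) b h3 h4) B y := by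
    intro Z a b h q' c' h1 h2 h3 h4
    have e1 : sq.lift a b h ≫ p = a := sq.lift_fst _ _ _
    have e2 : sq.lift a b h ≫ r = b := sq.lift_snd _ _ _
    have h5 : sq.lift a b h ≫ p ≫ hU ≫ q = q' := by rw [← Category.assoc, e1, h1]
    have h6 : sq.lift a b h ≫ p ≫ hU ≫ c = c' := by rw [← Category.assoc, e1, h2]
    have h7 := congrArg (ap (rs M _ _ (sq.lift a b h) h5 h6) B) hxy
    rwa [rs_rs _ _ _ _ _ _ _ _ e1, rs_rs _ _ _ _ _ _ _ _ e2] at h7
  let V' : Bool → Scheme.{u} := fun b => match b with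
    | true => U
    | false => V
  let h' : ∀ b, V' b ⟶ X := fun b => match b with
    | true => hU
    | false => hV
  have hQ : ∀ b, Q (h' b) := by
    rintro (_ | _)
    · exact Good.hz hV inferInstance
    · exact Good.hz hU inferInstance
  have hcov' : ∀ x : X, ∃ b, x ∈ Set.range (h' b) := by
    intro x
    rcases hcov x with h | h
    · exact ⟨true, h⟩
    · exact ⟨false, h⟩
  let z' : ∀ b, ((ΨSh (Scheme.precoverage Q) (h' b ≫ q) (h' b ≫ c)).obj M).obj (Adeq.pt B) := fun b => match b with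
    | true => x
    | false => y
  obtain ⟨z, hz⟩ := glue_cover M q c V' h' hQ hcov' B z' (by
    rintro (_ | _) (_ | _)
    · have e : pullback.fst hV hV = pullback.snd hV hV := by
        rw [← cancel_mono hV, pullback.condition]
      exact res_congr M.val.presheaf (morE_congr _ _ _ e _ _ B) y
    · exact (key _ _ pullback.condition.symm _ _ _ _).symm
    · exact key _ _ pullback.condition _ _ _ _
    · have e : pullback.fst hU hU = pullback.snd hU hU := by
        rw [← cancel_mono hU, pullback.condition]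
      exact res_congr M.val.presheaf (morE_congr _ _ _ e _ _ B) x)
  exact ⟨z, hz true, hz false⟩

include hcov in
theorem mv_ext (M : BigSite.Mod (Scheme.precoverage Q) T) (B : Adeq.Alg R)
    (z : ((ΨSh (Scheme.precoverage Q) q c).obj M).obj (Adeq.pt B))
    (h1 : ap (rs M q c hU hqU hcU) B z = 0) (h2 : ap (rs M q c hV hqV hcV) B z = 0) : z = 0 := by
  subst hqU hcU hqV hcV
  let V' : Bool → Scheme.{u} := fun b => match b with
    | true => U
    | false => V
  let h' : ∀ b, V' b ⟶ X := fun b => match b with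
    | true => hU
    | false => hV
  refine ext_cover M q c V' h' ?_ ?_ B z ?_
  · rintro (_ | _)
    · exact Good.hz hV inferInstance
    · exact Good.hz hU inferInstance
  · intro x
    rcases hcov x with h | h
    · exact ⟨true, h⟩
    · exact ⟨false, h⟩
  · rintro (_ | _)
    · exact h2
    · exact h1

include sq hcov in
/-- Mayer-Vietoris for one injective module. -/
theorem mv_shortExact (I : BigSite.Mod (Scheme.precoverage Q) T) [Injective I] (w) :
    (ShortComplex.mk (biprod.lift ((rsN q c hU hqU hcU).app I) ((rsN q c hV hqV hcV).app I))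
      (biprod.desc ((rsN qU cU p hqW hcW).app I)
        (-((rsN qV cV r (hqW' q sq hqU hqV hqW) (hcW' c sq hcU hcV hcW)).app I))) w).ShortExact := by
  have : IsOpenImmersion p := MorphismProperty.of_isPullback (P := @IsOpenImmersion) sq.flip ‹_›
  refine shortExact_of_elem _ _ _ _ w ?_ ?_ ?_
  · exact fun B x h1 h2 => mv_ext q c hcov hqU hcU hqV hcV I B x h1 h2
  · exact fun B x y h => mv_glue q c sq hcov hqU hcU hqV hcV hqW hcW I B x y h
  · exact fun B z => rs_surjective qU cU p hqW hcW I B z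

variable (I : CochainComplex (BigSite.Mod (Scheme.precoverage Q) T) ℕ)

/-- The complex of functors attached to a complex of modules. -/
abbrev cx {X : Scheme.{u}} (q : X ⟶ Spec R) (c : X ⟶ T) : CochainComplex (Adeq.MVF R) ℕ :=
  ((ΨSh (Scheme.precoverage Q) q c).mapHomologicalComplex (ComplexShape.up ℕ)).obj I

/-- Restriction. -/
abbrev cxMap {V : Scheme.{u}} (h : V ⟶ X) {q' : V ⟶ Spec R} {c' : V ⟶ T} (hq : h ≫ q = q') (hc : h ≫ c = c') :
    cx I q c ⟶ cx I q' c' :=
  (NatTrans.mapHomologicalComplex (rsN q c h hq hc) (ComplexShape.up ℕ)).app I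

variable {𝒜 : ObjectProperty (Adeq.MVF R)} [𝒜.IsClosedUnderIsomorphisms] [𝒜.IsClosedUnderKernels]
  [𝒜.IsClosedUnderCokernels] [𝒜.IsClosedUnderExtensions]

/-- All the homology objects of the complex of functors are in the class. -/
def Cl (𝒜 : ObjectProperty (Adeq.MVF R)) {X : Scheme.{u}} (q : X ⟶ Spec R) (c : X ⟶ T) : Prop :=
  ∀ n : ℕ, 𝒜 ((cx I q c).homology n)

include sq hcov in
/-- The Mayer-Vietoris step. -/
theorem cl_of_mv (hI : ∀ n, Injective (I.X n)) (h1 : Cl I 𝒜 qU cU) (h2 : Cl I 𝒜 qV cV) (h3 : Cl I 𝒜 qW cW)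
    (hqU : hU ≫ q = qU) (hcU : hU ≫ c = cU) (hqV : hV ≫ q = qV) (hcV : hV ≫ c = cV)
    (hqW : p ≫ qU = qW) (hcW : p ≫ cU = cW) : Cl I 𝒜 q c := by
  refine MVabs.prop_of_mv (cxMap q c I hU hqU hcU) (cxMap q c I hV hqV hcV) (cxMap qU cU I p hqW hcW)
    (cxMap qV cV I r (hqW' q sq hqU hqV hqW) (hcW' c sq hcU hcV hcW)) ?_ (fun n => ?_) h1 h2 h3
  · ext n : 1
    exact congrArg (fun t => NatTrans.app t (I.X n)) (mv_w (Q := Q) q c sq hqU hcU hqV hcV hqW hcW)
  · have := hI n
    exact mv_shortExact q c sq hcov hqU hcU hqV hcV hqW hcW (I.X n) _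

theorem Cl.of_iso {X' : Scheme.{u}} (e : X' ≅ X) (h : Cl I 𝒜 (e.hom ≫ q) (e.hom ≫ c)) : Cl I 𝒜 q c := fun n =>
  𝒜.prop_of_iso ((HomologicalComplex.homologyFunctor _ _ n).mapIso
    ((NatIso.mapHomologicalComplex (Functor.isoWhiskerLeft (SheafOfModules.forget _)
      (ΨIso (Scheme.precoverage Q) q c e)) (ComplexShape.up ℕ)).app I)).symm (h n)

end MV

end K570.MVgeo
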