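import Groth.Agent.Adeq.K570.Two

/-!
# Vanishing of sections of adequate modules over flat objects
-/

set_option autoImplicit false
set_option linter.unusedSectionVars false
universe u

open CategoryTheory CategoryTheory.Limits Opposite AlgebraicGeometry TensorProduct

noncomputable section

namespace K570.Para

open K569.Basic K570.CechM K570.FFAlg K570.FFCech K570.SpecModel K570.CA K570.Cov K570.Local K570.Two

section Flat

variable {R : Type u} [CommRing R] {F : Adeq.MVF R}

theorem subsingleton_of_bc {B B' : Adeq.Alg R} (f : B ⟶ B') (h : IsIso (F.bc f))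
    (hB : Subsingleton (F.obj (Adeq.pt B))) : Subsingleton (F.obj (Adeq.pt B')) := by
  rw [K569.BC.isIso_bc_iff] at h
  let _ : Algebra B B' := f.hom.toRingHom.toAlgebra
  have key : ∀ z : (B' : Type u) ⊗[B] (F.obj (Adeq.pt B)), z = 0 := by
    intro z
    induction z using TensorProduct.induction_on with
    | zero => rfl
    | add x y hx hy => rw [hx, hy, add_zero]
    | tmul b x => rw [Subsingleton.elim x 0, TensorProduct.tmul_zero]
  refine subsingleton_of_forall_eq 0 fun y => ?_
  obtain ⟨z, rfl⟩ := h.2 y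
  have h0 : z = 0 := key z
  rw [h0]
  exact map_zero (K569.BC.bcp F f)

end Flat

section Aff

variable {K : Precoverage Scheme.{u}} [BigSite.OSh K] {S : Scheme.{u}}
  {N : PresheafOfModules.{u + 1} (BigSite.ORing K S).obj}

theorem subsingleton_congr {C : Type*} [Category C] (P : Cᵒᵖ ⥤ AddCommGrpCat.{u + 1}) {U V : C} (e : U ≅ V)
    (h : Subsingleton (P.obj (op U))) : Subsingleton (P.obj (op V)) := by
  refine subsingleton_of_forall_eq 0 fun x => ?_
  have h1 := congrArg (res P e.inv) (Subsingleton.elim (res P e.hom x) 0)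
  rwa [res_iso_inv_hom, map_zero] at h1

/-- Vanishing of sections along flat morphisms of affine objects. -/
theorem subsingleton_of_flat (hN : FBC N) {U V : Over S} (g : V ⟶ U) [IsAffine U.left] [IsAffine V.left]
    (hg : Flat g.left) (h : Subsingleton (N.presheaf.obj (op U))) : Subsingleton (N.presheaf.obj (op V)) := by
  let _ := alg g
  have hfl : (CommAlgCat.ofHom (Algebra.ofId Γ(U.left, ⊤) Γ(V.left, ⊤)) : Adeq.algOf Γ(U.left, ⊤) Γ(U.left, ⊤) ⟶
      Adeq.algOf Γ(U.left, ⊤) Γ(V.left, ⊤)).hom.toRingHom.Flat := by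
    have := (HasRingHomProperty.iff_of_isAffine (P := @Flat)).1 hg
    exact this
  refine subsingleton_congr N.presheaf (eV g) ?_
  refine subsingleton_of_bc (F := (Adeq.toMVFPre K (chart U)).obj N) _ (hN _ (chart U) _ hfl) ?_
  exact subsingleton_congr N.presheaf eU.symm h

end Aff

section Sheaf

variable {Q : MorphismProperty Scheme.{u}} [Good Q] [BigSite.OSh (Scheme.precoverage Q)]
  {S : Scheme.{u}} (M : BigSite.Mod (Scheme.precoverage Q) S)

/-- Vanishing can be checked on a covering. -/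
theorem subsingleton_of_cover {U : Over S} {ι : Type*} {V : ι → Over S} (f : ∀ i, V i ⟶ U)
    (hf : ∀ x : U.left, ∃ i, Q (f i).left ∧ x ∈ Set.range (f i).left)
    (h : ∀ i, Subsingleton (M.val.presheaf.obj (op (V i)))) : Subsingleton (M.val.presheaf.obj (op U)) := by
  refine subsingleton_of_forall_eq 0 fun x => ?_
  refine sep M.isSheaf _ (ofArrows_mem f hf) x 0 (fun i => ?_)
  have := h i
  exact Subsingleton.elim _ _

variable {M}

theorem parasitic_of_cover (hN : FBC M.val) {ι : Type*} (V : ι → Over S) (hV : ∀ i, IsAffine (V i).left)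
    (hV' : ∀ i, IsOpenImmersion (V i).hom) (hcov : ∀ x : S, ∃ i, x ∈ Set.range (V i).hom)
    (h : ∀ i, Subsingleton (M.val.presheaf.obj (op (V i)))) : Adeq.parasitic (Scheme.precoverage Q) S M := by
  intro U hU
  change Subsingleton (M.val.presheaf.obj (op U))
  let I := {p : U.left.affineOpens × ι // ∃ g : (p.1 : Scheme.{u}) ⟶ (V p.2).left, g ≫ (V p.2).hom = p.1.1.ι ≫ U.hom}
  let W : I → Over S := fun p => Over.mk (p.1.1.1.ι ≫ U.hom)
  let j : ∀ p : I, W p ⟶ U := fun p => Over.homMk p.1.1.1.ι rfl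
  refine subsingleton_of_cover M j ?_ (fun p => ?_)
  · intro x
    obtain ⟨i, y, hy⟩ := hcov (U.hom x)
    have := hV' i
    obtain ⟨A, hA, hxA, hAU⟩ := exists_isAffineOpen_mem_and_subset (x := x) (U := U.hom ⁻¹ᵁ (V i).hom.opensRange)
      ⟨y, hy⟩
    have hr : Set.range (A.ι ≫ U.hom) ⊆ Set.range (V i).hom := by
      rintro _ ⟨z, rfl⟩
      exact hAU z.2
    refine ⟨⟨⟨⟨A, hA⟩, i⟩, IsOpenImmersion.lift (V i).hom (A.ι ≫ U.hom) hr, IsOpenImmersion.lift_fac _ _ _⟩, ?_, ?_⟩
    · exact Good.hz _ (inferInstanceAs (IsOpenImmersion A.ι))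
    · exact ⟨(⟨x, hxA⟩ : A), rfl⟩
  · obtain ⟨⟨A, i⟩, g, hg⟩ := p
    have := hV i
    have := hV' i
    have hA : IsAffine (W ⟨⟨A, i⟩, g, hg⟩).left := A.2
    let g' : W ⟨⟨A, i⟩, g, hg⟩ ⟶ V i := Over.homMk g hg
    refine subsingleton_of_flat hN g' ?_ (h i)
    have h1 : Flat (g ≫ (V i).hom) := by
      change g ≫ (V i).hom = A.1.ι ≫ U.hom at hg
      rw [hg]
      infer_instance
    exact MorphismProperty.of_postcomp (W := @Flat) (W' := @IsOpenImmersion) g (V i).hom (hV' i) h1

theorem tfae (hN : FBC M.val) :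
    List.TFAE [Adeq.parasitic (Scheme.precoverage Q) S M, Adeq.parasiticFor (Scheme.precoverage Q) S M,
      ∀ U : S.Opens, Subsingleton (BigSite.sectMod (Scheme.precoverage Q) M ((BigSite.zarIncl S).obj U)),
      ∃ (ι : Type u) (U : ι → S.Opens), (∀ i, IsAffineOpen (U i)) ∧ (⨆ i, U i) = ⊤ ∧
        ∀ i, Subsingleton (BigSite.sectMod (Scheme.precoverage Q) M ((BigSite.zarIncl S).obj (U i)))] := by
  tfae_have 1 → 2 := by
    intro h P hP V g hg
    refine h (Over.mk g) ?_
    have : Q g := by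
      obtain ⟨ι, X, f, rfl⟩ := P.exists_eq_ofArrows
      rw [Scheme.ofArrows_mem_precoverage_iff] at hP
      obtain ⟨i⟩ := hg
      exact hP.2 i
    exact Good.hf _ this
  tfae_have 2 → 3 := by
    intro h U
    let X : Bool → Scheme.{u} := fun b => if b then (U : Scheme.{u}) else S
    let f : ∀ b, X b ⟶ S := fun b => match b with
      | true => U.ι
      | false => 𝟙 S
    have hP : Presieve.ofArrows X f ∈ (Scheme.precoverage Q).coverings S := by
      rw [Scheme.ofArrows_mem_precoverage_iff]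
      refine ⟨fun x => ⟨false, x, rfl⟩, fun b => ?_⟩
      cases b
      · exact Q.id_mem _
      · exact Good.hz _ (inferInstanceAs (IsOpenImmersion U.ι))
    exact h hP (f true) ⟨true⟩
  tfae_have 3 → 4 := by
    intro h
    exact ⟨S.affineOpens, fun U => U, fun U => U.2, iSup_affineOpens_eq_top S, fun i => h _⟩
  tfae_have 4 → 1 := by
    rintro ⟨ι, U, h1, h2, h3⟩
    refine parasitic_of_cover hN (fun i => (BigSite.zarIncl S).obj (U i)) (fun i => h1 i)
      (fun i => inferInstanceAs (IsOpenImmersion (U i).ι)) (fun x => ?_) h3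
    have hx : x ∈ ⨆ i, U i := by rw [h2]; trivial
    rw [TopologicalSpace.Opens.mem_iSup] at hx
    obtain ⟨i, hi⟩ := hx
    exact ⟨i, ⟨x, hi⟩, rfl⟩
  tfae_finish

end Sheaf

end K570.Para
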