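import Groth.Agent.Adeq.K570.FFCech
import Mathlib.RingTheory.Localization.Away.Basic
import Mathlib.RingTheory.Flat.Localization

/-!
# Finite products of algebras and functors with flat base change
-/

set_option autoImplicit false
set_option linter.unusedSectionVars false
universe u v w

open CategoryTheory CategoryTheory.Limits Opposite TensorProduct

noncomputable section

namespace K570.PiAlg

open K570.FFAlg K570.FFCech

variable {R : Type u} [CommRing R] {ι : Type} [Fintype ι] [DecidableEq ι] (B : ι → Adeq.Alg R)

/-- The product algebra. -/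
abbrev prd : Adeq.Alg R := Adeq.algOf R (Π i, (B i : Type u))

/-- The projections. -/
abbrev prj (i : ι) : prd B ⟶ B i := CommAlgCat.ofHom (Pi.evalAlgHom R (fun i => (B i : Type u)) i)

theorem isLocalization_prj (i : ι) :
    letI : Algebra (Π i, (B i : Type u)) (B i) := (Pi.evalRingHom (fun i => (B i : Type u)) i).toAlgebra
    IsLocalization.Away (Function.update (β := fun i => (B i : Type u)) 0 i 1) (B i) := by
  let _ : Algebra (Π i, (B i : Type u)) (B i) := (Pi.evalRingHom (fun i => (B i : Type u)) i).toAlgebra
  apply IsLocalization.away_of_isIdempotentElem_of_mul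
  · ext j; by_cases h : j = i <;> aesop
  · intro x y
    constructor
    · intro e; ext j; by_cases h : j = i <;> aesop
    · intro e; simpa using! congr_fun e i
  · exact Function.surjective_eval _

theorem prj_flat (i : ι) : (prj B i).hom.toRingHom.Flat := by
  let _ : Algebra (Π i, (B i : Type u)) (B i) := (Pi.evalRingHom (fun i => (B i : Type u)) i).toAlgebra
  have := isLocalization_prj B i
  have h : Module.Flat (Π i, (B i : Type u)) (B i) :=
    IsLocalization.flat (B i) (Submonoid.powers (Function.update (β := fun i => (B i : Type u)) 0 i 1))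
  exact h

/-- The idempotents. -/
def e (i : ι) : prd B := (Pi.single i (1 : B i) : Π i, (B i : Type u))

theorem prj_e (i j : ι) : (prj B j).hom (e B i) = if i = j then 1 else 0 := by
  change (Pi.single i (1 : B i) : Π i, (B i : Type u)) j = _
  by_cases h : i = j
  · subst h
    simp
  · rw [if_neg h, Pi.single_eq_of_ne (Ne.symm h)]

theorem sum_e : ∑ i, (e B i : prd B) = 1 := Finset.univ_sum_single (1 : Π i, (B i : Type u))

variable (F : Adeq.MVF R) (hF : FlatBC F)

include hF in
theorem e_smul_eq_zero (i : ι) (x : F.obj (Adeq.pt (prd B))) (hx : tr F (prj B i) x = 0) : e B i • x = 0 := by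
  let f := prj B i
  let _ : Algebra (prd B) (B i) := f.hom.toRingHom.toAlgebra
  let _ : Module (prd B) (F.obj (Adeq.pt (B i))) := Module.compHom _ f.hom.toRingHom
  have _ : IsScalarTower (prd B) (B i) (F.obj (Adeq.pt (B i))) := ⟨fun a b c => by
      change (f.hom a * b) • c = f.hom a • b • c
      rw [mul_smul]⟩
  have h1 := isBaseChange_tr F f (hF f (prj_flat B i))
  let g : B i →ₗ[prd B] F.obj (Adeq.pt (prd B)) →ₗ[prd B] F.obj (Adeq.pt (prd B)) :=
    { toFun := fun b => LinearMap.lsmul _ _ ((Pi.single i b : Π i, (B i : Type u)) : prd B)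
      map_add' := fun b b' => by
        rw [Pi.single_add]
        exact map_add _ _ _
      map_smul' := fun c b => by
        have : (Pi.single i (c • b) : Π i, (B i : Type u)) = (c : Π i, (B i : Type u)) • (Pi.single i b : Π i, (B i : Type u)) := by
          ext j
          by_cases h : j = i
          · subst h
            simp
            rfl
          · simp [Pi.single_eq_of_ne h]
        rw [this]
        exact map_smul (LinearMap.lsmul _ _) _ _ }
  let l : (B i) ⊗[prd B] F.obj (Adeq.pt (prd B)) →ₗ[prd B] F.obj (Adeq.pt (prd B)) :=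
    TensorProduct.lift g
  have h2 : l ((1 : B i) ⊗ₜ x) = e B i • x := rfl
  rw [← h2]
  have h3 : (1 : B i) ⊗ₜ[prd B] x = 0 := by
    apply h1.equiv.injective
    rw [IsBaseChange.equiv_tmul, map_zero, one_smul]
    exact hx
  rw [h3, map_zero]

include hF in
theorem pi_ext (x y : F.obj (Adeq.pt (prd B))) (hxy : ∀ i, tr F (prj B i) x = tr F (prj B i) y) : x = y := by
  rw [← sub_eq_zero, ← one_smul (prd B) (x - y), ← sum_e, Finset.sum_smul]
  refine Finset.sum_eq_zero fun i _ => ?_
  apply e_smul_eq_zero B F hF
  rw [map_sub, hxy, sub_self]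

include hF in
theorem tr_prj_surjective (i : ι) : Function.Surjective (tr F (prj B i)) := by
  let f := prj B i
  let _ : Algebra (prd B) (B i) := f.hom.toRingHom.toAlgebra
  let _ : Module (prd B) (F.obj (Adeq.pt (B i))) := Module.compHom _ f.hom.toRingHom
  have _ : IsScalarTower (prd B) (B i) (F.obj (Adeq.pt (B i))) := ⟨fun a b c => by
      change (f.hom a * b) • c = f.hom a • b • c
      rw [mul_smul]⟩
  have h1 := isBaseChange_tr F f (hF f (prj_flat B i))
  intro y
  refine h1.inductionOn y (fun y => ∃ x, tr F (prj B i) x = y) ⟨0, map_zero _⟩ ?_ ?_ ?_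
  · intro x
    exact ⟨x, rfl⟩
  · rintro b _ ⟨x, rfl⟩
    obtain ⟨b, rfl⟩ := Function.surjective_eval (β := fun i => (B i : Type u)) i b
    exact ⟨(b : prd B) • x, tr_smul F (prj B i) b x⟩
  · rintro _ _ ⟨x, rfl⟩ ⟨x', rfl⟩
    exact ⟨x + x', map_add _ _ _⟩

include hF in
theorem pi_exists (y : ∀ i, F.obj (Adeq.pt (B i))) : ∃ x : F.obj (Adeq.pt (prd B)), ∀ i, tr F (prj B i) x = y i := by
  choose x hx using fun i => tr_prj_surjective B F hF i (y i)
  refine ⟨∑ i, e B i • x i, fun j => ?_⟩
  rw [map_sum, Finset.sum_eq_single j]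
  · rw [tr_smul, prj_e, if_pos rfl, one_smul, hx]
  · intro i _ hij
    rw [tr_smul, prj_e, if_neg hij, zero_smul]
  · intro h
    exact absurd (Finset.mem_univ j) h

end K570.PiAlg
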