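import Groth.Agent.Adeq.K570.RPush

/-!
# Higher direct images of parasitic adequate modules
-/

set_option autoImplicit false
set_option linter.unusedSectionVars false
universe v v' u' u

open CategoryTheory CategoryTheory.Limits Opposite AlgebraicGeometry

noncomputable section

namespace K570.RPara

open K569.Basic K570.CechM K570.GeoAd K570.CovGeo K570.Local K570.MVgeo K570.ExF K570.Acyc K570.Shf K570.Colims K570.Adq
  K570.Two K570.Cov K570.Glue K570.RPush K570.Para

section Van

variable {R : Type u} [CommRing R]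

/-- Functors vanishing on the base ring. -/
def van (R : Type u) [CommRing R] : ObjectProperty (Adeq.MVF R) := fun F =>
  ∀ x : F.obj (Adeq.pt (Adeq.algOf R R)), x = 0

theorem van_of_mono {F G : Adeq.MVF R} (f : F ⟶ G) [h : Mono f] (hG : van R G) : van R F := by
  rw [mono_iff] at h
  intro x
  apply h (Adeq.algOf R R)
  exact (hG _).trans (hG _).symm

theorem van_of_epi {F G : Adeq.MVF R} (f : F ⟶ G) [h : Epi f] (hF : van R F) : van R G := by
  rw [epi_iff] at h
  intro x
  obtain ⟨y, rfl⟩ := h (Adeq.algOf R R) x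
  rw [hF y]
  exact ap_zero f _

instance : (van R).IsClosedUnderIsomorphisms where
  of_iso e h := van_of_epi e.hom h

instance : (van R).IsClosedUnderKernels where
  kernels_le := by
    rintro _ ⟨f, k, hk, hf⟩
    have : Mono (Fork.ι k) := Fork.IsLimit.mono hk
    exact van_of_mono (Fork.ι k) hf.1

instance : (van R).IsClosedUnderCokernels where
  cokernels_le := by
    rintro _ ⟨f, k, hk, hf⟩
    have : Epi (Cofork.π k) := Cofork.IsColimit.epi hk
    exact van_of_epi (Cofork.π k) hf.2

instance : (van R).IsClosedUnderExtensions where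
  prop_X₂_of_shortExact {S} hS h1 h3 := by
    intro x
    have hx := (exact_iff' S).1 hS.exact
    obtain ⟨y, hy⟩ := (hx (Adeq.algOf R R) x).1 (h3 _)
    rw [← hy, h1 y]
    exact ap_zero S.f _

end Van

variable {Q : MorphismProperty Scheme.{u}} [Good Q] [BigSite.OSh (Scheme.precoverage Q)] {T S : Scheme.{u}}

theorem van_of_flat {M : BigSite.Mod (Scheme.precoverage Q) T} (hP : Adeq.parasitic (Scheme.precoverage Q) T M)
    {R : CommRingCat.{u}} {X : Scheme.{u}} (q : X ⟶ Spec R) (c : X ⟶ T) [Flat c] :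
    van R ((ΨSh (Scheme.precoverage Q) q c).obj M) := by
  intro x
  have h1 : IsIso (K570.Geo.sp (R := R) (Adeq.algOf R R)) := by
    have h : Spec.map (CommRingCat.ofHom (algebraMap R R)) = 𝟙 (Spec R) := Spec.map_id R
    change IsIso (Spec.map (CommRingCat.ofHom (algebraMap R R)))
    rw [h]
    infer_instance
  have h2 : IsIso (pr q c (Adeq.algOf R R)) := by
    exact (pr_isPullback q c (Adeq.algOf R R)).isIso_fst_of_isIso
  have h3 : Flat ((K570.Geo.geo q c).E.obj (op (Adeq.algOf R R))).hom := by
    rw [← pr_c]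
    infer_instance
  exact (hP _ h3).allEq _ _

variable (f : T ⟶ S) [HasInjectiveResolutions (BigSite.Mod (Scheme.precoverage Q) T)]
  [QuasiCompact f] [QuasiSeparated f] {M : BigSite.Mod (Scheme.precoverage Q) T}
  (hM : Adeq.adequateMod (Scheme.precoverage Q) T M) (hP : Adeq.parasitic (Scheme.precoverage Q) T M)

include hM hP in
theorem van_preH (I : InjectiveResolution M) (n : ℕ) {R : CommRingCat.{u}} (a : Spec R ⟶ S) [Flat a] :
    van R ((Adeq.toMVFPre (Scheme.precoverage Q) a).obj (preH (pushC f I.cocomplex) n)) := by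
  have : CompactSpace (pullback a f : Scheme.{u}) := QuasiCompact.compactSpace_of_compactSpace (pullback.fst a f)
  have : QuasiSeparatedSpace (pullback a f : Scheme.{u}) := quasiSeparatedSpace_of_quasiSeparated (pullback.fst a f)
  refine (van R).prop_of_iso (pushH f a I.cocomplex n) ?_
  exact cl_of_adequate _ _ (acy_of_adequate hM) I (fun V h _ _ => van_of_flat hP _ _) n

include hM hP in
theorem parasitic_sh (I : InjectiveResolution M) (n : ℕ) :
    Adeq.parasitic (Scheme.precoverage Q) S ((sh Q S).obj (preH (pushC f I.cocomplex) n)) := by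
  have hN : ∀ (R : CommRingCat.{u}) (a : Spec R ⟶ S),
      Adeq.adequate R ((Adeq.toMVFPre (Scheme.precoverage Q) a).obj (preH (pushC f I.cocomplex) n)) :=
    fun _ a => adequate_preH f hM I n a
  have hfb : CA.FBC (preH (pushC f I.cocomplex) n) := fun R a => flatBC_of_adequate (hN R a)
  refine parasitic_of_cover (fbc _ (adequateMod_sheafification _ hN))
    (fun U : S.affineOpens => (Adeq.specOver U.2.fromSpec).obj (op (Adeq.algOf Γ(S, U) Γ(S, U))))
    (fun U => inferInstanceAs (IsAffine (Spec _))) (fun U => ?_) (fun x => ?_) (fun U => ?_)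
  · have h : Spec.map (CommRingCat.ofHom (algebraMap Γ(S, U) Γ(S, U))) = 𝟙 (Spec Γ(S, U)) := Spec.map_id _
    change IsOpenImmersion (Spec.map (CommRingCat.ofHom (algebraMap Γ(S, U) Γ(S, U))) ≫ U.2.fromSpec)
    rw [h]
    exact inferInstanceAs (IsOpenImmersion (𝟙 (Spec Γ(S, U)) ≫ U.2.fromSpec))
  · obtain ⟨W, hW, hxW, -⟩ := exists_isAffineOpen_mem_and_subset (x := x) (U := ⊤) (by trivial)
    refine ⟨⟨W, hW⟩, ?_⟩
    have h : Spec.map (CommRingCat.ofHom (algebraMap Γ(S, W) Γ(S, W))) = 𝟙 (Spec Γ(S, W)) := Spec.map_id _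
    change x ∈ Set.range (Spec.map (CommRingCat.ofHom (algebraMap Γ(S, W) Γ(S, W))) ≫ hW.fromSpec)
    rw [h]
    have hx : x ∈ Set.range hW.fromSpec := by
      rw [hW.range_fromSpec]
      exact hxW
    obtain ⟨z, hz⟩ := hx
    exact ⟨z, hz⟩
  · have hi : IsIso ((Adeq.toMVFPre (Scheme.precoverage Q) U.2.fromSpec).map
        (unitS (preH (pushC f I.cocomplex) n))) :=
      isIso_toMVF _ ((sh Q S).obj (preH (pushC f I.cocomplex) n)).val hfb ((sh Q S).obj _).isSheaf (unitS _) _
    have h1 : van Γ(S, U) ((Adeq.toMVFPre (Scheme.precoverage Q) U.2.fromSpec).obj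
        (preH (pushC f I.cocomplex) n)) := van_preH f hM hP I n U.2.fromSpec
    have h2 := (van Γ(S, U)).prop_of_iso (@asIso _ _ _ _ _ hi) h1
    exact subsingleton_of_forall_eq 0 h2

theorem parasitic_of_iso {M N : BigSite.Mod (Scheme.precoverage Q) S} (e : M ≅ N)
    (h : Adeq.parasitic (Scheme.precoverage Q) S M) : Adeq.parasitic (Scheme.precoverage Q) S N := by
  intro U hU
  have h1 := h U hU
  refine subsingleton_of_forall_eq 0 fun x => ?_
  have h2 : e.hom.val.app (op U) (e.inv.val.app (op U) x) = x :=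
    congrArg (fun t => t.val.app (op U) x) e.inv_hom_id
  have h3 : e.inv.val.app (op U) x = 0 := h1.allEq _ _
  rw [← h2, h3]
  exact map_zero (e.hom.val.app (op U)).hom

include hM hP in
theorem parasitic_Rpush (n : ℕ) :
    Adeq.parasitic (Scheme.precoverage Q) S ((BigSite.RpushMod (Scheme.precoverage Q) f n).obj M) := by
  obtain ⟨I⟩ := (HasInjectiveResolutions.out M).out
  exact parasitic_of_iso (rpushIso f M I n).symm (parasitic_sh f hM hP I n)

end K570.RPara
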