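import Groth.Agent.Adeq.K570.Acyc
import Groth.Agent.Adeq.K570.Colims
import Groth.Agent.Adeq.K570.Para
import Groth.Agent.Adeq.K570.Stab

/-!
# Higher direct images of adequate modules
-/

set_option autoImplicit false
set_option linter.unusedSectionVars false
universe v v' u' u

open CategoryTheory CategoryTheory.Limits Opposite AlgebraicGeometry

noncomputable section

namespace K570.RPush

open K569.Basic K570.CechM K570.GeoAd K570.CovGeo K570.Local K570.MVgeo K570.ExF K570.Acyc K570.Shf K570.Colims K570.Adq
  K570.Two K570.Cov K570.Glue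

section General

variable {C : Type u} [Category.{v} C] [Abelian C] {D : Type u'} [Category.{v'} D] [Abelian D]

/-- Homology commutes with exact functors. -/
def homologyMapIso (F : C ⥤ D) [F.Additive] [F.PreservesHomology] (K : CochainComplex C ℕ) (n : ℕ) :
    ((F.mapHomologicalComplex (ComplexShape.up ℕ)).obj K).homology n ≅ F.obj (K.homology n) :=
  (K.sc n).mapHomologyIso F

end General

instance {R : Type u} [CommRing R] : (Adeq.adequate R).IsClosedUnderExtensions where
  prop_X₂_of_shortExact {S} hS h1 h3 := by
    have hm := hS.mono_f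
    have he := hS.epi_g
    rw [mono_iff] at hm
    rw [epi_iff] at he
    have hx := (exact_iff' S).1 hS.exact
    exact K569.Ext2.adequate_ext S.f S.g hm he (fun B x => hx B x) h1 h3

variable {Q : MorphismProperty Scheme.{u}} [Good Q] [BigSite.OSh (Scheme.precoverage Q)] {T S : Scheme.{u}}

instance : (sh Q S).Additive := Functor.additive_of_preserves_binary_products _

/-- The presheaf homology. -/
abbrev preH (N : CochainComplex (BigSite.Mod (Scheme.precoverage Q) S) ℕ) (n : ℕ) :
    PresheafOfModules.{u + 1} (BigSite.ORing (Scheme.precoverage Q) S).obj :=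
  (((SheafOfModules.forget _).mapHomologicalComplex (ComplexShape.up ℕ)).obj N).homology n

/-- The homology of a complex of sheaves is the sheafification of the presheaf homology. -/
def homologySh (N : CochainComplex (BigSite.Mod (Scheme.precoverage Q) S) ℕ) (n : ℕ) :
    N.homology n ≅ (sh Q S).obj (preH N n) :=
  (HomologicalComplex.homologyFunctor _ _ n).mapIso
    ((NatIso.mapHomologicalComplex (counitIso (Q := Q) (S := S)) (ComplexShape.up ℕ)).app N).symm ≪≫
      homologyMapIso (sh Q S) (((SheafOfModules.forget _).mapHomologicalComplex (ComplexShape.up ℕ)).obj N) n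

/-- The functor attached to the presheaf homology. -/
def toMVFPreH {R : CommRingCat.{u}} (a : Spec R ⟶ S) (N : CochainComplex (BigSite.Mod (Scheme.precoverage Q) S) ℕ)
    (n : ℕ) : (((Adeq.toMVF (Scheme.precoverage Q) a).mapHomologicalComplex (ComplexShape.up ℕ)).obj N).homology n ≅
      (Adeq.toMVFPre (Scheme.precoverage Q) a).obj (preH N n) :=
  homologyMapIso (Adeq.toMVFPre (Scheme.precoverage Q) a)
    (((SheafOfModules.forget _).mapHomologicalComplex (ComplexShape.up ℕ)).obj N) n

variable (f : T ⟶ S)

/-- The direct image of a complex. -/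
abbrev pushC (I : CochainComplex (BigSite.Mod (Scheme.precoverage Q) T) ℕ) :
    CochainComplex (BigSite.Mod (Scheme.precoverage Q) S) ℕ :=
  ((BigSite.pushMod (Scheme.precoverage Q) f).mapHomologicalComplex (ComplexShape.up ℕ)).obj I

/-- The functor attached to the presheaf homology of a direct image. -/
def pushH {R : CommRingCat.{u}} (a : Spec R ⟶ S) (I : CochainComplex (BigSite.Mod (Scheme.precoverage Q) T) ℕ)
    (n : ℕ) : (cx I (pullback.fst a f) (pullback.snd a f)).homology n ≅
      (Adeq.toMVFPre (Scheme.precoverage Q) a).obj (preH (pushC f I) n) :=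
  (HomologicalComplex.homologyFunctor _ _ n).mapIso
    ((NatIso.mapHomologicalComplex (pushModΨ (Scheme.precoverage Q) f a) (ComplexShape.up ℕ)).app I).symm ≪≫
      toMVFPreH a (pushC f I) n

variable [HasInjectiveResolutions (BigSite.Mod (Scheme.precoverage Q) T)]

/-- Higher direct images. -/
def rpushIso (M : BigSite.Mod (Scheme.precoverage Q) T) (I : InjectiveResolution M) (n : ℕ) :
    (BigSite.RpushMod (Scheme.precoverage Q) f n).obj M ≅ (sh Q S).obj (preH (pushC f I.cocomplex) n) :=
  I.isoRightDerivedObj (BigSite.pushMod (Scheme.precoverage Q) f) n ≪≫ homologySh _ n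

variable [QuasiCompact f] [QuasiSeparated f] {M : BigSite.Mod (Scheme.precoverage Q) T}
  (hM : Adeq.adequateMod (Scheme.precoverage Q) T M)

include hM in
theorem adequate_preH (I : InjectiveResolution M) (n : ℕ) {R : CommRingCat.{u}} (a : Spec R ⟶ S) :
    Adeq.adequate R ((Adeq.toMVFPre (Scheme.precoverage Q) a).obj (preH (pushC f I.cocomplex) n)) := by
  have : CompactSpace (pullback a f : Scheme.{u}) := QuasiCompact.compactSpace_of_compactSpace (pullback.fst a f)
  have : QuasiSeparatedSpace (pullback a f : Scheme.{u}) := quasiSeparatedSpace_of_quasiSeparated (pullback.fst a f)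
  refine (Adeq.adequate R).prop_of_iso (pushH f a I.cocomplex n) ?_
  refine cl_of_adequate _ _ (acy_of_adequate hM) I (fun V h _ _ => ?_) n
  refine PA.affine ?_ _
  have h1 := (PA.of_adequateMod hM).comp (h ≫ pullback.snd a f)
  rwa [Category.comp_id] at h1

include hM in
theorem adequateMod_Rpush (n : ℕ) :
    Adeq.adequateMod (Scheme.precoverage Q) S ((BigSite.RpushMod (Scheme.precoverage Q) f n).obj M) := by
  obtain ⟨I⟩ := (HasInjectiveResolutions.out M).out
  exact (Adeq.adequateMod (Scheme.precoverage Q) S).prop_of_iso (rpushIso f M I n).symm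
    (adequateMod_sheafification _ fun _ a => adequate_preH f hM I n a)

end K570.RPush
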