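import Groth.Prelude.Def_Adeq2
import Groth.Agent.Adeq.K570.FFCech
import Mathlib.CategoryTheory.Limits.Constructions.Over.Connected
import Mathlib.AlgebraicGeometry.Morphisms.Flat

/-!
# Fibre powers of affine schemes and the Cech complex of a module with flat base change on algebras
-/

set_option autoImplicit false
universe u v w

open CategoryTheory CategoryTheory.Limits Opposite TensorProduct AlgebraicGeometry

noncomputable section

namespace K570.SpecModel

open K570.CechM K570.FFAlg K570.FFCech

section Alg

variable {R : Type u} [CommRing R] (B : Type u) [CommRing B] [Algebra R B]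

/-- The structure map, in the opposite category. -/
def γ : (op (Adeq.algOf R B) : (Adeq.Alg R)ᵒᵖ) ⟶ op (Adeq.algOf R R) :=
  (CommAlgCat.ofHom (Algebra.ofId R B) : Adeq.algOf R R ⟶ Adeq.algOf R B).op

/-- The square of a tensor product. -/
theorem isPullback_tens (C : Adeq.Alg R) (b : (op C : (Adeq.Alg R)ᵒᵖ) ⟶ op (Adeq.algOf R R)) :
    IsPullback (ir B C).op (il B C).op (γ B) b := by
  refine ⟨⟨hom_ext_base_op _ _⟩, ⟨PullbackCone.IsLimit.mk _
    (fun s => (tensDesc (X := s.pt.unop) (C := C) (B := B) s.snd.unop s.fst.unop).op) ?_ ?_ ?_⟩⟩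
  · intro s
    apply Quiver.Hom.unop_inj
    exact ir_tensDesc _ _
  · intro s
    apply Quiver.Hom.unop_inj
    exact il_tensDesc _ _
  · intro s t h1 h2
    apply Quiver.Hom.unop_inj
    refine tens_hom_ext ?_ ?_
    · refine Eq.trans ?_ (il_tensDesc _ _).symm
      exact congrArg Quiver.Hom.unop h2
    · refine Eq.trans ?_ (ir_tensDesc _ _).symm
      exact congrArg Quiver.Hom.unop h1

/-- The tensor powers. -/
def tLevels : ∀ n, Level (γ (R := R) B) n
  | 0 => Level.zero _
  | (n + 1) => (tLevels n).succ (isPullback_tens B (tLevels n).W.unop (tLevels n).b)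

/-- The tensor powers as fibre powers in the opposite category. -/
def tModel : Model (γ (R := R) B) := Model.ofLevels (tLevels B)

end Alg

section Spec

variable {R : CommRingCat.{u}} {S : Scheme.{u}} (a : Spec R ⟶ S) (B : Type u) [CommRing B] [Algebra R B]

/-- The structure map to `R` of an algebra. -/
theorem isPullback_specOver (C : Adeq.Alg R) (b : (op C : (Adeq.Alg R)ᵒᵖ) ⟶ op (Adeq.algOf R R)) :
    IsPullback ((Adeq.specOver a).map (ir B C).op) ((Adeq.specOver a).map (il B C).op)
      ((Adeq.specOver a).map (γ (R := R) B)) ((Adeq.specOver a).map b) := by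
  have h0 : (ir B C).op ≫ γ (R := R) B = (il B C).op ≫ b := hom_ext_base_op _ _
  refine IsPullback.of_map (Over.forget S) (by rw [← Functor.map_comp, ← Functor.map_comp, h0]) ?_
  have h1 := isPullback_SpecMap_of_isPushout _ _ _ _ (CommRingCat.isPushout_tensorProduct R C B).flip
  have hb : (b.unop.hom : R →ₐ[R] C).toRingHom = algebraMap R C := by
    have : (b.unop.hom : R →ₐ[R] C) = Algebra.ofId R C := Subsingleton.elim _ _
    rw [this]
    rfl
  have e4 : ((Over.forget S).map ((Adeq.specOver a).map b)) = Spec.map (CommRingCat.ofHom (algebraMap R C)) := by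
    rw [← hb]
    rfl
  rw [e4]
  exact h1

/-- Levels in `Over S`. -/
theorem isLevel_specOver (n : ℕ) : IsLevel ((Adeq.specOver a).map (γ (R := R) B)) n
    ((Adeq.specOver a).map (tLevels (R := R) B n).b)
    (fun i => (Adeq.specOver a).map ((tLevels (R := R) B n).π i)) := by
  induction n with
  | zero =>
    have h : IsIso (tLevels (R := R) B 0).b := inferInstanceAs (IsIso (𝟙 _))
    exact IsLevel.zero _ _ _
  | succ n ih =>
    have h := ih.succ (isPullback_specOver a B (tLevels (R := R) B n).W.unop (tLevels (R := R) B n).b)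
    refine h.congr ((Adeq.specOver a).map_comp _ _).symm (fun i => ?_)
    refine Fin.cases ?_ (fun i => ?_) i
    · rfl
    · exact ((Adeq.specOver a).map_comp _ _).symm

/-- Cech exactness over `S` and on algebras. -/
theorem ex_specOver_iff (m : Model ((Adeq.specOver a).map (γ (R := R) B)))
    (P : (Over S)ᵒᵖ ⥤ AddCommGrpCat.{w}) (n : ℕ) :
    m.Ex P n ↔ (tModel (R := R) B).Ex ((Adeq.specOver a).op ⋙ P) n :=
  Model.ex_map_iff P (Adeq.specOver a) (tModel (R := R) B) m
    (fun k => (isLevel_specOver a B k).isIso_lift m _) n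

end Spec

section Affine

variable {S : Scheme.{u}} (P : (Over S)ᵒᵖ ⥤ AddCommGrpCat.{w})

/-- The canonical chart of an affine object. -/
abbrev chart (U : Over S) [IsAffine U.left] : Spec Γ(U.left, ⊤) ⟶ S := U.left.isoSpec.inv ≫ U.hom

/-- An affine object is the spectrum of its functions. -/
def chartIso (U : Over S) [IsAffine U.left] {R : CommRingCat.{u}} (a : Spec R ⟶ S) (e : U.left ≅ Spec R)
    (he : e.hom ≫ a = U.hom) : U ≅ (Adeq.specOver a).obj (op (Adeq.algOf R R)) :=
  Over.isoMk e (by
    have h : Spec.map (CommRingCat.ofHom (algebraMap R R)) = 𝟙 (Spec R) := Spec.map_id R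
    change e.hom ≫ Spec.map (CommRingCat.ofHom (algebraMap R R)) ≫ a = U.hom
    rw [h]
    exact (congrArg (e.hom ≫ ·) (Category.id_comp a)).trans he)

end Affine

end K570.SpecModel
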