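import Groth.Agent.Adeq.K570.PiAlg
import Groth.Agent.Adeq.K570.Local
import Groth.Agent.Adeq.K570.SpecModel
import Mathlib.AlgebraicGeometry.Limits

/-!
# Refinement of coverings of affine objects by one faithfully flat algebra
-/

set_option autoImplicit false
set_option linter.unusedSectionVars false
universe u v w

open CategoryTheory CategoryTheory.Limits Opposite AlgebraicGeometry

noncomputable section

namespace K570.Refine

open K570.CechM K570.Cov K570.Geo K570.Local K570.PiAlg K570.SpecModel

section Chart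

variable {R : CommRingCat.{u}} {S : Scheme.{u}} (a : Spec R ⟶ S)

/-- The structure map of an algebra, in the opposite category. -/
abbrev stm (B : Adeq.Alg R) : (op B : (Adeq.Alg R)ᵒᵖ) ⟶ op (Adeq.algOf R R) :=
  (CommAlgCat.ofHom (Algebra.ofId R B) : Adeq.algOf R R ⟶ B).op

/-- The object of the ring itself. -/
abbrev base : Over S := (Adeq.specOver a).obj (op (Adeq.algOf R R))

theorem base_hom : (base a).hom = a := by
  change Spec.map (CommRingCat.ofHom (algebraMap R R)) ≫ a = a
  have h : Spec.map (CommRingCat.ofHom (algebraMap R R)) = 𝟙 (Spec R) := Spec.map_id R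
  rw [h]
  exact Category.id_comp a

theorem stm_left (B : Adeq.Alg R) : ((Adeq.specOver a).map (stm B)).left = sp B := by
  change Spec.map (CommRingCat.ofHom (Algebra.ofId R B).toRingHom) = _
  rfl

variable {V : Over S} (f : V ⟶ base a)

/-- The underlying morphism. -/
abbrev fl : V.left ⟶ Spec R := f.left

theorem fl_comp : fl a f ≫ a = V.hom := by
  have h := Over.w f
  rw [base_hom] at h
  exact h

/-- The algebra of an object over the base. -/
@[reducible] def algV : Algebra R Γ(V.left, ⊤) :=
  ((fl a f).appTop.hom.comp (Scheme.ΓSpecIso R).inv.hom).toAlgebra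

/-- The bundled algebra of an object over the base. -/
@[reducible] def aV : Adeq.Alg R := letI := algV a f; Adeq.algOf R Γ(V.left, ⊤)

theorem sp_aV [IsAffine V.left] : (sp (aV a f) : Spec Γ(V.left, ⊤) ⟶ Spec R) = V.left.isoSpec.inv ≫ fl a f := by
  rw [Iso.eq_inv_comp]
  exact toSpec_appTop (fl a f)

/-- The chart. -/
def chV [IsAffine V.left] : (Adeq.specOver a).obj (op (aV a f)) ≅ V :=
  Over.isoMk V.left.isoSpec.symm (by
    have h : (sp (aV a f) : Spec Γ(V.left, ⊤) ⟶ Spec R) ≫ a = V.left.isoSpec.inv ≫ V.hom := by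
      rw [sp_aV, Category.assoc, fl_comp]
    exact h.symm)

theorem chV_comp [IsAffine V.left] : (chV a f).hom ≫ f = (Adeq.specOver a).map (stm (aV a f)) := by
  ext : 1
  exact (sp_aV a f).symm

end Chart

section Refine

variable {Q : MorphismProperty Scheme.{u}} [Good Q] {R : CommRingCat.{u}} {S : Scheme.{u}} (a : Spec R ⟶ S)

/-- Finite algebraic refinement. -/
theorem exists_algs {Rs : Sieve (base a)} (hR : Rs ∈ QuotSh.J (Scheme.precoverage Q) S (base a)) :
    ∃ (n : ℕ) (B : Fin n → Adeq.Alg R), (∀ i, Rs ((Adeq.specOver a).map (stm (B i)))) ∧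
      (∀ i, Q (sp (B i))) ∧ ∀ x : (base a).left, ∃ i, x ∈ Set.range (sp (B i)) := by
  have : CompactSpace (base a).left := inferInstanceAs (CompactSpace (Spec (CommRingCat.of R)))
  obtain ⟨n, V, f, h1, h2, h3, h4⟩ := exists_finite_affine Good.hz Good.ho (base a) hR
  refine ⟨n, fun i => aV a (f i), fun i => ?_, fun i => ?_, fun x => ?_⟩
  · have := h2 i
    rw [← chV_comp]
    exact Rs.downward_closed (h1 i) _
  · have := h2 i
    have h : Q ((V i).left.isoSpec.inv ≫ fl a (f i)) := Q.comp_mem _ _ (Good.hz _ inferInstance) (h3 i)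
    rw [← sp_aV] at h
    exact h
  · obtain ⟨i, hi⟩ := h4 x
    refine ⟨i, ?_⟩
    have := h2 i
    obtain ⟨y, hy⟩ := hi
    refine ⟨(V i).left.isoSpec.hom y, ?_⟩
    have h : (V i).left.isoSpec.hom ≫ (sp (aV a (f i)) : Spec Γ((V i).left, ⊤) ⟶ Spec R) = fl a (f i) := by
      rw [sp_aV, Iso.hom_inv_id_assoc]
    exact (congrArg (fun t => t y) h).trans hy

section Family

variable {n : ℕ} (B : Fin n → Adeq.Alg R)

theorem cov_family (hQ : ∀ i, Q (sp (B i))) (hcov : ∀ x : (base a).left, ∃ i, x ∈ Set.range (sp (B i))) :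
    Sieve.ofArrows (fun i => (Adeq.specOver a).obj (op (B i))) (fun i => (Adeq.specOver a).map (stm (B i))) ∈
      QuotSh.J (Scheme.precoverage Q) S (base a) := by
  apply ofArrows_mem
  intro x
  obtain ⟨i, hi⟩ := hcov x
  exact ⟨i, by rw [stm_left]; exact hQ i, by rw [stm_left]; exact hi⟩

theorem prj_stm (i : Fin n) : (prj B i).op ≫ stm (prd B) = stm (B i) := rfl

theorem cov_single (hQ : ∀ i, Q (sp (B i))) (hcov : ∀ x : (base a).left, ∃ i, x ∈ Set.range (sp (B i))) :
    Sieve.ofArrows (fun _ : Unit => (Adeq.specOver a).obj (op (prd B)))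
      (fun _ => (Adeq.specOver a).map (stm (prd B))) ∈ QuotSh.J (Scheme.precoverage Q) S (base a) := by
  refine GrothendieckTopology.superset_covering _ ?_ (cov_family a B hQ hcov)
  rw [Sieve.ofArrows, Sieve.generate_le_iff]
  rintro _ _ ⟨i⟩
  rw [← prj_stm, Functor.map_comp]
  exact Sieve.downward_closed _ (Sieve.ofArrows_mk _ _ ()) _

theorem prj_left (i : Fin n) : ((Adeq.specOver a).map (prj B i).op).left =
    Spec.map (CommRingCat.ofHom (Pi.evalRingHom (fun i => (B i : Type u)) i)) := rfl

theorem prj_open (i : Fin n) :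
    IsOpenImmersion (Spec.map (CommRingCat.ofHom (Pi.evalRingHom (fun i => (B i : Type u)) i))) := by
  let _ : Algebra (Π i, (B i : Type u)) (B i) := (Pi.evalRingHom (fun i => (B i : Type u)) i).toAlgebra
  have := isLocalization_prj B i
  exact IsOpenImmersion.of_isLocalization (Function.update (β := fun i => (B i : Type u)) 0 i 1)

theorem mem_range_prj (i : Fin n) (x : PrimeSpectrum (Π i, (B i : Type u))) (hx : e B i ∉ x.asIdeal) :
    x ∈ Set.range (PrimeSpectrum.comap (Pi.evalRingHom (fun i => (B i : Type u)) i)) := by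
  let _ : Algebra (Π i, (B i : Type u)) (B i) := (Pi.evalRingHom (fun i => (B i : Type u)) i).toAlgebra
  have := isLocalization_prj B i
  have h := PrimeSpectrum.localization_away_comap_range (B i : Type u)
    (Function.update (β := fun i => (B i : Type u)) 0 i 1)
  have h' : x ∈ Set.range (PrimeSpectrum.comap (algebraMap (Π i, (B i : Type u)) (B i))) := by
    rw [h]
    exact hx
  exact h'

theorem exists_point (x : PrimeSpectrum (Π i, (B i : Type u))) :
    ∃ i, x ∈ Set.range (PrimeSpectrum.comap (Pi.evalRingHom (fun i => (B i : Type u)) i)) := by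
  by_contra h
  push Not at h
  have h1 : ∀ i, e B i ∈ x.asIdeal := fun i => by
    by_contra hi
    exact h i (mem_range_prj B i x hi)
  have h2 : (1 : Π i, (B i : Type u)) ∈ x.asIdeal := by
    have := sum_e B
    rw [← this]
    exact Ideal.sum_mem _ fun i _ => h1 i
  exact x.isPrime.ne_top ((Ideal.eq_top_iff_one _).2 h2)

theorem cov_prd : Sieve.ofArrows (fun i => (Adeq.specOver a).obj (op (B i)))
    (fun i => (Adeq.specOver a).map (prj B i).op) ∈
      QuotSh.J (Scheme.precoverage Q) S ((Adeq.specOver a).obj (op (prd B))) := by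
  apply ofArrows_mem
  intro x
  obtain ⟨i, hi⟩ := exists_point B x
  exact ⟨i, Good.hz _ (prj_open B i), hi⟩

end Family

end Refine

end K570.Refine
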