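import Groth.Agent.Adeq.K570.Refine
import Groth.Agent.Adeq.K570.Two
import Mathlib.RingTheory.Flat.FaithfullyFlat.Algebra

/-!
# Lifting sections along refinements of affine objects
-/

set_option autoImplicit false
set_option linter.unusedSectionVars false
universe u v w

open CategoryTheory CategoryTheory.Limits Opposite AlgebraicGeometry

noncomputable section

namespace K570.Refine2

open K570.CechM K570.Cov K570.Geo K570.Local K570.PiAlg K570.SpecModel K570.Refine K570.FFAlg K570.FFCech K570.Two
  K570.CA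

section

variable {Q : MorphismProperty Scheme.{u}} [Good Q] {R : CommRingCat.{u}} {S : Scheme.{u}} (a : Spec R ⟶ S)
  {n : ℕ} (B : Fin n → Adeq.Alg R)

theorem flat_prd (hQ : ∀ i, Q (sp (B i))) : Module.Flat R (prd B) := by
  have h : ∀ i, Module.Flat R (B i) := by
    intro i
    have h1 : Flat (sp (B i)) := Good.hf _ (hQ i)
    have h2 := (Flat.SpecMap_iff (f := CommRingCat.ofHom (algebraMap R (B i)))).1 h1
    have h3 : (algebraMap R (B i)).Flat := h2
    rwa [RingHom.flat_algebraMap_iff] at h3
  exact Module.Flat.of_linearEquiv (DirectSum.linearEquivFunOnFintype R (Fin n) (fun i => (B i : Type u))).symm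

theorem faithfullyFlat_prd (hQ : ∀ i, Q (sp (B i))) (hcov : ∀ x : (base a).left, ∃ i, x ∈ Set.range (sp (B i))) :
    Module.FaithfullyFlat R (prd B) := by
  have := flat_prd B hQ
  apply Module.FaithfullyFlat.of_comap_surjective
  intro x
  obtain ⟨i, y, hy⟩ := hcov x
  exact ⟨PrimeSpectrum.comap (Pi.evalRingHom (fun i => (B i : Type u)) i) y, hy⟩

variable {P : (Over S)ᵒᵖ ⥤ AddCommGrpCat.{w}} (hP : Presheaf.IsSheaf (QuotSh.J (Scheme.precoverage Q) S) P)

include hP in
theorem ext_of_isEmpty {Z : Over S} [IsEmpty Z.left] (x y : P.obj (op Z)) : x = y := by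
  refine sep hP (ι := PEmpty.{1}) (V := fun i => i.elim) (fun i => i.elim) ?_ x y (fun i => i.elim)
  apply ofArrows_mem
  intro x
  exact isEmptyElim x

theorem no_common {i j : Fin n} (hij : i ≠ j) (x : PrimeSpectrum (B i)) (y : PrimeSpectrum (B j))
    (h : PrimeSpectrum.comap (Pi.evalRingHom (fun i => (B i : Type u)) i) x =
      PrimeSpectrum.comap (Pi.evalRingHom (fun i => (B i : Type u)) j) y) : False := by
  have h3 : (e B i : Π i, (B i : Type u)) ∈
      (PrimeSpectrum.comap (Pi.evalRingHom (fun i => (B i : Type u)) j) y).asIdeal := by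
    rw [PrimeSpectrum.comap_asIdeal, Ideal.mem_comap]
    have : (Pi.evalRingHom (fun i => (B i : Type u)) j) (e B i) = 0 := by
      have := prj_e B i j
      rw [if_neg hij] at this
      exact this
    rw [this]
    exact zero_mem _
  rw [← h, PrimeSpectrum.comap_asIdeal, Ideal.mem_comap] at h3
  have h5 : (Pi.evalRingHom (fun i => (B i : Type u)) i) (e B i) = 1 := by
    have := prj_e B i i
    rw [if_pos rfl] at this
    exact this
  rw [h5] at h3
  exact x.isPrime.ne_top ((Ideal.eq_top_iff_one _).2 h3)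

include hP in
theorem glue_prd (t : ∀ i, P.obj (op ((Adeq.specOver a).obj (op (B i))))) :
    ∃ x : P.obj (op ((Adeq.specOver a).obj (op (prd B)))), ∀ i, res P ((Adeq.specOver a).map (prj B i).op) x = t i := by
  refine glue hP _ (cov_prd a B) t (fun i j Z p q hpq => ?_)
  let pl : Z.left ⟶ Spec (CommRingCat.of (B i)) := p.left
  let ql : Z.left ⟶ Spec (CommRingCat.of (B j)) := q.left
  have hl : pl ≫ Spec.map (CommRingCat.ofHom (Pi.evalRingHom (fun i => (B i : Type u)) i)) =
      ql ≫ Spec.map (CommRingCat.ofHom (Pi.evalRingHom (fun i => (B i : Type u)) j)) :=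
    congrArg CommaMorphism.left hpq
  by_cases hij : i = j
  · subst hij
    have := prj_open B i
    rw [cancel_mono] at hl
    have : p = q := by
      ext : 1
      exact hl
    rw [this]
  · have : IsEmpty Z.left := ⟨fun z => no_common B hij (pl z) (ql z) (congrArg (fun t => t z) hl)⟩
    exact ext_of_isEmpty hP _ _

end

section Lift

variable {Q : MorphismProperty Scheme.{u}} [Good Q] {S : Scheme.{u}}

/-- Restricting to charts. -/
theorem affine_induction {T : Over S → Prop} (hT : ∀ {X Y : Over S} (_ : X ≅ Y), T X → T Y)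
    (h : ∀ (R : CommRingCat.{u}) (a : Spec R ⟶ S), T (base a)) (U : Over S) [IsAffine U.left] : T U :=
  hT (chartIso U (chart U) U.left.isoSpec (by simp)).symm (h _ (chart U))

variable {P₁ P₂ P₃ : (Over S)ᵒᵖ ⥤ AddCommGrpCat.{w}} (f : P₁ ⟶ P₂) (g : P₂ ⟶ P₃)

/-- Surjectivity on affine objects. -/
theorem surjective_affine (hP₂ : Presheaf.IsSheaf (QuotSh.J (Scheme.precoverage Q) S) P₂)
    (hP₃ : Presheaf.IsSheaf (QuotSh.J (Scheme.precoverage Q) S) P₃)
    (hinj : ∀ U, Function.Injective (act f U))
    (hker : ∀ U x, act g U x = 0 → ∃ y, act f _ y = x)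
    (hzero : ∀ U y, act g U (act f _ y) = 0)
    (hloc : ∀ U (s : P₃.obj (op U)), ∃ Rs ∈ QuotSh.J (Scheme.precoverage Q) S U, ∀ (V : Over S) (h : V ⟶ U), Rs h →
      ∃ t, act g V t = res P₃ h s) (hCA : CA P₁) (U : Over S) [IsAffine U.left] : Function.Surjective (act g U) := by
  refine affine_induction (T := fun U => Function.Surjective (act g U)) ?_ ?_ U
  · intro X Y e h s
    obtain ⟨t, ht⟩ := h (res P₃ e.hom s)
    refine ⟨res P₂ e.inv t, ?_⟩
    rw [act_res, ht, res_res, e.inv_hom_id, res_id]
  · intro R a s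
    obtain ⟨Rs, hRs, hl⟩ := hloc (base a) s
    obtain ⟨n, B, h1, h2, h3⟩ := exists_algs a hRs
    choose t ht using fun i => hl _ _ (h1 i)
    obtain ⟨t', ht'⟩ := glue_prd a B hP₂ t
    have hff := faithfullyFlat_prd a B h2 h3
    have h4 : act g _ t' = res P₃ ((Adeq.specOver a).map (stm (prd B))) s := by
      refine sep hP₃ _ (cov_prd a B) _ _ (fun i => ?_)
      rw [← act_res, ht', ht, res_res, ← Functor.map_comp]
      rfl
    let m := ofPullbacks ((Adeq.specOver a).map (stm (prd B)))
    have hfs := (flat_and_surjective_SpecMap_iff (CommRingCat.ofHom (algebraMap R (prd B)))).2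
      (RingHom.faithfullyFlat_algebraMap_iff.2 hff)
    have h5 : m.Ex P₁ 1 := hCA _ (inferInstanceAs (IsAffine (Spec (CommRingCat.of R))))
      (inferInstanceAs (IsAffine (Spec (CommRingCat.of (prd B))))) hfs.1 hfs.2 m 1
    exact K570.Quot.exists_of_ex f g m hP₂ hP₃ (cov_single a B h2 h3) (hinj _) (fun _ => hker _) (fun _ => hzero _) h5
      s t' h4

end Lift

section Sheafify

variable {Q : MorphismProperty Scheme.{u}} [Good Q] [BigSite.OSh (Scheme.precoverage Q)] {S : Scheme.{u}}
  (P : PresheafOfModules.{u + 1} (BigSite.ORing (Scheme.precoverage Q) S).obj) (hP : FBC P)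
  {N : (Over S)ᵒᵖ ⥤ AddCommGrpCat.{u + 1}} (ψ : P.presheaf ⟶ N)
  (hLI : ∀ U (x : P.presheaf.obj (op U)), act ψ U x = 0 → ∃ Rs ∈ QuotSh.J (Scheme.precoverage Q) S U,
    ∀ (V : Over S) (h : V ⟶ U), Rs h → res P.presheaf h x = 0)

include hP hLI in
theorem injective_sheafify (U : Over S) [IsAffine U.left] : Function.Injective (act ψ U) := by
  refine affine_induction (T := fun U => Function.Injective (act ψ U)) ?_ ?_ U
  · intro X Y e h x y hxy
    have h1 : res P.presheaf e.hom x = res P.presheaf e.hom y := by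
      apply h
      rw [act_res, act_res, hxy]
    have h2 := congrArg (res P.presheaf e.inv) h1
    rwa [res_res, res_res, e.inv_hom_id, res_id, res_id] at h2
  · intro R a
    rw [injective_iff_map_eq_zero]
    intro x hx
    obtain ⟨Rs, hRs, hl⟩ := hLI (base a) x hx
    obtain ⟨n, B, h1, h2, h3⟩ := exists_algs a hRs
    have hff := faithfullyFlat_prd a B h2 h3
    let F := (Adeq.toMVFPre (Scheme.precoverage Q) a).obj P
    have hF : FlatBC F := hP R a
    have h4 : tr F (stm (prd B)).unop x = 0 := by
      refine pi_ext B F hF _ _ (fun i => ?_)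
      rw [tr_comp, map_zero]
      exact hl _ _ (h1 i)
    exact injective_of_flatBC F hF (stm (prd B)).unop (h4.trans (map_zero (tr F (stm (prd B)).unop)).symm)

include hP hLI in
theorem surjective_sheafify (hN : Presheaf.IsSheaf (QuotSh.J (Scheme.precoverage Q) S) N)
    (hLS : ∀ U (s : N.obj (op U)), ∃ Rs ∈ QuotSh.J (Scheme.precoverage Q) S U,
      ∀ (V : Over S) (h : V ⟶ U), Rs h → ∃ t, act ψ V t = res N h s)
    (U : Over S) [IsAffine U.left] : Function.Surjective (act ψ U) := by
  refine affine_induction (T := fun U => Function.Surjective (act ψ U)) ?_ ?_ U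
  · intro X Y e h s
    obtain ⟨t, ht⟩ := h (res N e.hom s)
    refine ⟨res P.presheaf e.inv t, ?_⟩
    rw [act_res, ht, res_res, e.inv_hom_id, res_id]
  · intro R a s
    obtain ⟨Rs, hRs, hl⟩ := hLS (base a) s
    obtain ⟨n, B, h1, h2, h3⟩ := exists_algs a hRs
    have hff := faithfullyFlat_prd a B h2 h3
    let F := (Adeq.toMVFPre (Scheme.precoverage Q) a).obj P
    have hF : FlatBC F := hP R a
    choose t ht using fun i => hl _ _ (h1 i)
    obtain ⟨t', ht'⟩ := pi_exists B F hF t
    have ht'' : ∀ i, res P.presheaf ((Adeq.specOver a).map (prj B i).op) t' = t i := ht'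
    have h4 : act ψ _ t' = res N ((Adeq.specOver a).map (stm (prd B))) s := by
      refine sep hN _ (cov_prd a B) _ _ (fun i => ?_)
      rw [← act_res, ht'', ht, res_res, ← Functor.map_comp]
      rfl
    have h0 := ex_of_flatBC F (tModel (R := R) (prd B)) hF 0
    obtain ⟨y, hy⟩ := exists_of_ex_zero F.presheaf (tModel (R := R) (prd B)) h0 t' (fun Z p q hpq => by
      have hZ : IsAffine ((Adeq.specOver a).obj Z).left := inferInstanceAs (IsAffine (Spec (CommRingCat.of Z.unop)))
      apply injective_sheafify P hP ψ hLI ((Adeq.specOver a).obj Z)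
      change act ψ _ (res P.presheaf ((Adeq.specOver a).map p) t') =
        act ψ _ (res P.presheaf ((Adeq.specOver a).map q) t')
      rw [act_res, act_res, h4, res_res, res_res, ← Functor.map_comp, ← Functor.map_comp]
      congr 2
      exact congrArg _ hpq)
    refine ⟨y, ?_⟩
    apply sep_one hN _ (cov_single a B h2 h3)
    rw [← act_res, ← h4]
    exact congrArg (act ψ _) hy

end Sheafify

end K570.Refine2
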