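import Groth.Agent.Adeq.K570.Refine2
import Groth.Agent.Adeq.K570.ExF
import Mathlib.Algebra.Category.ModuleCat.Presheaf.Sheafification

/-!
# Sheafification of presheaves of modules with adequate values
-/

set_option autoImplicit false
set_option linter.unusedSectionVars false
universe u v w

open CategoryTheory CategoryTheory.Limits Opposite AlgebraicGeometry

noncomputable section

namespace K570.Shf

open K569.Basic K570.CechM K570.Cov K570.Geo K570.Local K570.Refine2 K570.CA K570.Two

section General

variable {C : Type u} [Category.{v} C] (J : GrothendieckTopology C) {P N : Cᵒᵖ ⥤ AddCommGrpCat.{w}} (ψ : P ⟶ N)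

theorem li_of [Presheaf.IsLocallyInjective J ψ] (U : C) (x : P.obj (op U)) (hx : act ψ U x = 0) :
    ∃ Rs ∈ J U, ∀ (V : C) (h : V ⟶ U), Rs h → res P h x = 0 := by
  refine ⟨Presheaf.equalizerSieve (F := P) (X := op U) x 0,
    Presheaf.equalizerSieve_mem J ψ (X := op U) x 0 (hx.trans (map_zero _).symm), fun V h hh => ?_⟩
  have h1 : res P h x = res P h 0 := hh
  rw [h1, map_zero]

theorem ls_of [Presheaf.IsLocallySurjective J ψ] (U : C) (s : N.obj (op U)) :
    ∃ Rs ∈ J U, ∀ (V : C) (h : V ⟶ U), Rs h → ∃ t, act ψ V t = res N h s :=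
  ⟨Presheaf.imageSieve ψ s, Presheaf.imageSieve_mem J ψ s, fun _ _ hh => hh⟩

end General

variable {Q : MorphismProperty Scheme.{u}} [Good Q] [BigSite.OSh (Scheme.precoverage Q)] {S : Scheme.{u}}

/-- The big site topology. -/
abbrev JJ (Q : MorphismProperty Scheme.{u}) (S : Scheme.{u}) : GrothendieckTopology (Over S) :=
  QuotSh.J (Scheme.precoverage Q) S

/-- Criterion: a morphism from a presheaf with flat base change to a sheaf which is locally bijective is an isomorphism
on affine objects. -/
theorem isIso_toMVF (P N : PresheafOfModules.{u + 1} (BigSite.ORing (Scheme.precoverage Q) S).obj) (hP : FBC P)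
    (hN : Presheaf.IsSheaf (JJ Q S) N.presheaf) (ψ : P ⟶ N)
    [Presheaf.IsLocallyInjective (JJ Q S) ((PresheafOfModules.toPresheaf _).map ψ)]
    [Presheaf.IsLocallySurjective (JJ Q S) ((PresheafOfModules.toPresheaf _).map ψ)]
    {R : CommRingCat.{u}} (a : Spec R ⟶ S) : IsIso ((Adeq.toMVFPre (Scheme.precoverage Q) a).map ψ) := by
  rw [isIso_iff]
  intro B
  have hB : IsAffine ((Adeq.specOver a).obj (op B)).left := inferInstanceAs (IsAffine (Spec (CommRingCat.of B)))
  have h1 := injective_sheafify P hP ((PresheafOfModules.toPresheaf _).map ψ)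
    (li_of (JJ Q S) ((PresheafOfModules.toPresheaf _).map ψ)) ((Adeq.specOver a).obj (op B))
  have h2 := surjective_sheafify P hP ((PresheafOfModules.toPresheaf _).map ψ)
    (li_of (JJ Q S) ((PresheafOfModules.toPresheaf _).map ψ)) hN
    (ls_of (JJ Q S) ((PresheafOfModules.toPresheaf _).map ψ)) ((Adeq.specOver a).obj (op B))
  exact ⟨h1, h2⟩

/-- The sheafification functor for modules. -/
abbrev sh (Q : MorphismProperty Scheme.{u}) [Good Q] [BigSite.OSh (Scheme.precoverage Q)] (S : Scheme.{u}) :
    PresheafOfModules.{u + 1} (BigSite.ORing (Scheme.precoverage Q) S).obj ⥤ BigSite.Mod (Scheme.precoverage Q) S :=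
  PresheafOfModules.sheafification (𝟙 (BigSite.ORing (Scheme.precoverage Q) S).obj)

/-- The unit. -/
def unitS (P : PresheafOfModules.{u + 1} (BigSite.ORing (Scheme.precoverage Q) S).obj) : P ⟶ ((sh Q S).obj P).val :=
  PresheafOfModules.homMk (CategoryTheory.toSheafify (JJ Q S) P.presheaf) (by
    intro X r m
    exact (((PresheafOfModules.sheafificationAdjunction (𝟙 (BigSite.ORing (Scheme.precoverage Q) S).obj)).unit.app P).app
      X).hom.map_smul r m)

theorem toPresheaf_unitS (P : PresheafOfModules.{u + 1} (BigSite.ORing (Scheme.precoverage Q) S).obj) :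
    (PresheafOfModules.toPresheaf _).map (unitS P) = CategoryTheory.toSheafify (JJ Q S) P.presheaf := rfl

instance (P : PresheafOfModules.{u + 1} (BigSite.ORing (Scheme.precoverage Q) S).obj) :
    Presheaf.IsLocallyInjective (JJ Q S) ((PresheafOfModules.toPresheaf _).map (unitS P)) :=
  ((JJ Q S).W_toSheafify P.presheaf).isLocallyInjective

instance (P : PresheafOfModules.{u + 1} (BigSite.ORing (Scheme.precoverage Q) S).obj) :
    Presheaf.IsLocallySurjective (JJ Q S) ((PresheafOfModules.toPresheaf _).map (unitS P)) :=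
  ((JJ Q S).W_toSheafify P.presheaf).isLocallySurjective

theorem adequateMod_sheafification (P : PresheafOfModules.{u + 1} (BigSite.ORing (Scheme.precoverage Q) S).obj)
    (h : ∀ (R : CommRingCat.{u}) (a : Spec R ⟶ S),
      Adeq.adequate R ((Adeq.toMVFPre (Scheme.precoverage Q) a).obj P)) :
    Adeq.adequateMod (Scheme.precoverage Q) S ((sh Q S).obj P) := by
  refine adequateMod_of_PA fun R a => ?_
  rw [Category.comp_id]
  have hi : IsIso ((Adeq.toMVFPre (Scheme.precoverage Q) a).map (unitS P)) := isIso_toMVF P ((sh Q S).obj P).val (fun R a => flatBC_of_adequate (h R a))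
    ((sh Q S).obj P).isSheaf (unitS P) a
  exact (Adeq.adequate R).prop_of_iso (@asIso _ _ _ _ _ hi) (h R a)

end K570.Shf
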